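import Cfsg.Agent.OddLocal.RankTwoAut
import Cfsg.Agent.Solv.Basic

/-!
Solvable groups of odd order normalising a `p`-group of rank at most two.
-/

set_option autoImplicit false
set_option linter.style.haveILetI false
set_option linter.unusedSectionVars false

namespace CfsgLib.OddLocal

variable {G : Type*} [Group G] [Finite G] {p : ℕ} [hp : Fact p.Prime]

theorem conjNormal_eq_one {R : Subgroup G} [R.Normal] {y : G} :
    MulAut.conjNormal (H := R) y = 1 ↔ y ∈ Subgroup.centralizer (R : Set G) := by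
  rw [Subgroup.mem_centralizer_iff]
  refine ⟨fun h r hr => ?_, fun h => ?_⟩
  · have h1 := congrArg Subtype.val (DFunLike.congr_fun h (⟨r, hr⟩ : R))
    simp only [MulAut.one_apply] at h1
    rw [MulAut.conjNormal_apply] at h1
    calc r * y = y * r * y⁻¹ * y := by rw [h1]
      _ = y * r := by group
  · ext r
    rw [MulAut.conjNormal_apply, ← h r r.2, mul_inv_cancel_right]; rfl

theorem restrict_rank {R : Subgroup G} {k : ℕ} (hr : Cfsg.PRankLE p k G) : Cfsg.PRankLE p k R := by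
  intro A hA hAp
  have hc : IsMulCommutative (A.map R.subtype) := ⟨⟨by
    rintro ⟨_, a, ha, rfl⟩ ⟨_, b, hb, rfl⟩
    exact Subtype.ext (congrArg (fun z : A => ((z : R) : G)) (hA.is_comm.comm ⟨a, ha⟩ ⟨b, hb⟩))⟩⟩
  have := hr (A.map R.subtype) hc (by
    rintro _ ⟨a, ha, rfl⟩
    rw [← map_pow, hAp a ha, map_one])
  rwa [Subgroup.card_map_of_injective R.subtype_injective] at this

/-- In odd order, `G'` acts on a normal `p`-subgroup of rank two through `p`-elements. -/
theorem comm_act (hp2 : p ≠ 2) (hodd : Odd (Nat.card G)) (hsolv : Group.IsSolvable G)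
    {R : Subgroup G} [R.Normal] (hR : IsPGroup p R) (hr : Cfsg.PRankLE p 2 R) {y : G}
    (hy : y ∈ commutator G) : ∃ n, y ^ p ^ n ∈ Subgroup.centralizer (R : Set G) := by
  obtain ⟨n, hn⟩ := commutator_ppow hp2 hR hr hodd hsolv (MulAut.conjNormal (H := R)) hy
  exact ⟨n, conjNormal_eq_one.1 (by rw [map_pow]; exact hn)⟩

/-- A `p'`-element of `G'` centralises a normal `p`-subgroup of rank two. -/
theorem comm_coprime_mem (hp2 : p ≠ 2) (hodd : Odd (Nat.card G)) (hsolv : Group.IsSolvable G)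
    {R : Subgroup G} [R.Normal] (hR : IsPGroup p R) (hr : Cfsg.PRankLE p 2 R) {y : G}
    (hy : y ∈ commutator G) (hyp : (orderOf y).Coprime p) :
    y ∈ Subgroup.centralizer (R : Set G) := by
  obtain ⟨n, hn⟩ := comm_act hp2 hodd hsolv hR hr hy
  obtain ⟨m, hm⟩ := exists_pow_eq_self_of_coprime (hyp.symm.pow_left n)
  rw [← hm]; exact pow_mem hn m

/-- An element of prime order `q ≥ p` centralises a normal `p`-subgroup of rank two, `q ≠ p`. -/
theorem prime_mem (hp2 : p ≠ 2) (hodd : Odd (Nat.card G))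
    {R : Subgroup G} [R.Normal] (hR : IsPGroup p R) (hr : Cfsg.PRankLE p 2 R) {q : ℕ}
    (hq : q.Prime) (hqp : q ≠ p) (h : p ≤ q ∨ p = 3) {y : G} (hy : orderOf y = q) :
    y ∈ Subgroup.centralizer (R : Set G) := by
  by_contra hne
  have h1 : orderOf (MulAut.conjNormal (H := R) y) = q :=
    ((Nat.dvd_prime hq).1 (hy ▸ orderOf_map_dvd _ y)).resolve_left fun e =>
      hne (conjNormal_eq_one.1 (orderOf_eq_one_iff.1 e))
  have hq2 : q ≠ 2 := by
    rintro rfl
    exact (Nat.not_even_iff_odd.2 hodd)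
      (even_iff_two_dvd.2 (hy ▸ orderOf_dvd_natCard y))
  obtain ⟨h2, h3⟩ := prime_lt_of_ne_one hp2 hR hr hq hq2 hqp h1
  rcases h with h | h
  · omega
  · exact h3 h

/-- A `q`-element, `p ≤ q ≠ p`, centralises a normal `p`-subgroup of rank two. -/
theorem ppow_mem (hp2 : p ≠ 2) (hodd : Odd (Nat.card G))
    {R : Subgroup G} [R.Normal] (hR : IsPGroup p R) (hr : Cfsg.PRankLE p 2 R) {q : ℕ}
    (hq : q.Prime) (hqp : q ≠ p) (h : p ≤ q ∨ p = 3) {y : G} {j : ℕ} (hy : y ^ q ^ j = 1) :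
    y ∈ Subgroup.centralizer (R : Set G) := by
  by_contra hne
  set u := MulAut.conjNormal (H := R) y with hu
  have hu1 : u ≠ 1 := fun e => hne (conjNormal_eq_one.1 e)
  obtain ⟨k, -, hk⟩ := (Nat.dvd_prime_pow hq).1
    (orderOf_dvd_of_pow_eq_one (show u ^ q ^ j = 1 by rw [hu, ← map_pow, hy, map_one]))
  obtain ⟨k, rfl⟩ : ∃ k', k = k' + 1 :=
    ⟨k - 1, by
      have : k ≠ 0 := fun e => hu1 (orderOf_eq_one_iff.1 (by rw [hk, e, pow_zero]))
      omega⟩
  have h1 : orderOf (u ^ q ^ k) = q := by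
    rw [orderOf_pow_of_dvd (pow_ne_zero _ hq.ne_zero) (hk ▸ pow_dvd_pow q k.le_succ), hk,
      pow_succ, Nat.mul_div_cancel_left _ (pow_pos hq.pos _)]
  have hq2 : q ≠ 2 := by
    rintro rfl
    have h4 := hk ▸ hu ▸ orderOf_map_dvd (MulAut.conjNormal (H := R)) y
    exact (Nat.not_even_iff_odd.2 hodd) (even_iff_two_dvd.2
      (((dvd_pow_self 2 k.succ_ne_zero).trans h4).trans (orderOf_dvd_natCard y)))
  obtain ⟨h2, h3⟩ := prime_lt_of_ne_one hp2 hR hr hq hq2 hqp h1
  rcases h with h | h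
  · omega
  · exact h3 h

end CfsgLib.OddLocal
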