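import Cfsg.Agent.OddLocal.SCN3
import Cfsg.Agent.Solv.SmallTransfer
import Cfsg.Agent.Solv.Signalizer
import Cfsg.Agent.Solv.ClassTwo
import Cfsg.Agent.OddLocal.RankTwoGroup

/-!
A `p`-group of rank at least three, `p` odd, has characteristic subgroups `F` and `V` such that
every noncyclic subgroup of `F` has a noncyclic elementary subgroup whose centraliser has rank
three, `V` has rank three, and the elements of `V` centralise noncyclic parts of `F`.
-/

set_option autoImplicit false
set_option linter.style.haveILetI false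
set_option linter.unusedSectionVars false

open Cfsg CfsgLib.Solv
open scoped commutatorElement

namespace CfsgLib.OddLocal.GoodSub

variable {R : Type*} [Group R] [Finite R] {p : ℕ} [hp : Fact p.Prime]

theorem card_le_of_isCyclic {E : Subgroup R} (hE : ∀ e ∈ E, e ^ p = 1) (h : IsCyclic E) :
    Nat.card E ≤ p := by
  haveI := h
  rw [← IsCyclic.exponent_eq_card]
  exact Nat.le_of_dvd hp.out.pos (Monoid.exponent_dvd_of_forall_pow_eq_one fun x =>
    Subtype.ext (hE x x.2))

theorem sq_le_card {E : Subgroup R} (hR : IsPGroup p R) (hE : ∀ e ∈ E, e ^ p = 1)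
    (h : ¬ IsCyclic E) : p ^ 2 ≤ Nat.card E := by
  obtain ⟨n, hn⟩ := IsPGroup.iff_card.1 (hR.to_subgroup E)
  rw [hn]
  refine Nat.pow_le_pow_right hp.out.pos ?_
  by_contra hlt
  refine h ?_
  have : n = 0 ∨ n = 1 := by omega
  rcases this with rfl | rfl
  · rw [pow_zero] at hn
    rw [Subgroup.card_eq_one.1 hn]; infer_instance
  · rw [pow_one] at hn
    exact isCyclic_of_prime_card hn

theorem rank_le_of_le {A B : Subgroup R} {k : ℕ} (h : A ≤ B) (hB : PRankLE p k B) :
    PRankLE p k A := by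
  intro C hC hCp
  have hc : IsMulCommutative (C.map (Subgroup.inclusion h)) := ⟨⟨by
    rintro ⟨_, a, ha, rfl⟩ ⟨_, b, hb, rfl⟩
    exact Subtype.ext (congrArg (fun z : C => Subgroup.inclusion h (z : A))
      (hC.is_comm.comm ⟨a, ha⟩ ⟨b, hb⟩))⟩⟩
  have := hB _ hc (by
    rintro _ ⟨a, ha, rfl⟩
    rw [← map_pow, hCp a ha, map_one])
  rwa [Subgroup.card_map_of_injective (Subgroup.inclusion_injective h)] at this

theorem card_le_of_rank {A E : Subgroup R} {k : ℕ} (hA : PRankLE p k A) (hEA : E ≤ A)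
    (hE : IsElementaryAbelian p E) : Nat.card E ≤ p ^ k := by
  have h := rank_le_of_le hEA hA ⊤ (by haveI := hE.1; infer_instance)
    (fun a _ => Subtype.ext (hE.2 a a.2))
  rwa [Subgroup.card_top] at h

theorem not_rank_of_le {A E : Subgroup R} (hE : IsElementaryAbelian p E) (hEA : E ≤ A)
    (h : p ^ 3 ≤ Nat.card E) : ¬ PRankLE p 2 A := fun hA =>
  absurd (h.trans (card_le_of_rank hA hEA hE))
    (not_le.2 (Nat.pow_lt_pow_right hp.out.one_lt (by norm_num)))

theorem le_center_of_cyclic (hR : IsPGroup p R) {F : Subgroup R} [F.Normal]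
    (hFp : ∀ x ∈ F, x ^ p = 1) (hF : IsCyclic F) : F ≤ Subgroup.center R := by
  obtain ⟨n, hn⟩ := IsPGroup.iff_card.1 (hR.to_subgroup F)
  have h1 := card_le_of_isCyclic hFp hF
  rw [hn] at h1
  have : n ≤ 1 := by
    by_contra h
    exact absurd h1 (not_le.2 ((pow_one p).symm.trans_lt
      (Nat.pow_lt_pow_right hp.out.one_lt (not_le.1 h))))
  rcases Nat.le_one_iff_eq_zero_or_eq_one.1 this with rfl | rfl
  · rw [pow_zero] at hn
    rw [Subgroup.card_eq_one.1 hn]; exact bot_le
  · rw [pow_one] at hn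
    exact le_center_of_card_prime hR hn

/-- If `E ≤ S` is elementary of order `p ^ 2` and `C_S(E)` has rank at most two, then `C_S(E) = E`,
for `S` of exponent `p`. -/
theorem inf_centralizer_eq {S E : Subgroup R} (hS : ∀ x ∈ S, x ^ p = 1) (hES : E ≤ S)
    (hE : IsElementaryAbelian p E) (hE2 : Nat.card E = p ^ 2)
    (hr : PRankLE p 2 (S ⊓ Subgroup.centralizer (E : Set R) : Subgroup R)) :
    S ⊓ Subgroup.centralizer (E : Set R) = E := by
  have hEC : E ≤ Subgroup.centralizer (E : Set R) := fun e he => Subgroup.mem_centralizer_iff.2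
    fun f hf => congrArg (fun w : E => (w : R)) (hE.1.is_comm.comm ⟨f, hf⟩ ⟨e, he⟩)
  refine le_antisymm (fun x hx => ?_) (le_inf hES hEC)
  have hE' := SCN3.mem_sup_elementary hE (hS x hx.1) fun e he => Subgroup.mem_centralizer_iff.1 hx.2 e he
  have h1 := card_le_of_rank hr (sup_le (le_inf hES hEC) (Subgroup.zpowers_le.2 hx)) hE'
  have h2 : E = E ⊔ Subgroup.zpowers x :=
    Subgroup.eq_of_le_of_card_ge le_sup_left (hE2.symm ▸ h1)
  exact h2.symm ▸ Subgroup.mem_sup_right (Subgroup.mem_zpowers x)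

theorem exists_good (hp2 : p ≠ 2) (hR : IsPGroup p R) (hr : ¬ PRankLE p 2 R) :
    ∃ F V : Subgroup R, F.Characteristic ∧ V.Characteristic ∧ ¬ IsCyclic F ∧
      (∀ x ∈ F, x ^ p = 1) ∧ ¬ PRankLE p 2 V ∧
      (∀ B : Subgroup R, B ≤ F → ¬ IsCyclic B → ∃ E : Subgroup R, E ≤ B ∧
        IsElementaryAbelian p E ∧ p ^ 2 ≤ Nat.card E ∧
        ¬ PRankLE p 2 (Subgroup.centralizer (E : Set R))) ∧
      ∀ w ∈ V, ¬ IsCyclic (F ⊓ Subgroup.centralizer ({w} : Set R) : Subgroup R) := by
  have hcom : ∀ {x : R}, x ∈ Subgroup.upperCentralSeries R 2 → ∀ r : R, ⁅x, r⁆ ∈ Subgroup.center R := by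
    intro x hx r
    rw [← Subgroup.upperCentralSeries_one R, commutatorElement_def]
    exact (Subgroup.mem_upperCentralSeries_succ_iff.1 hx) r
  have hcc : ∀ {c : R}, c ∈ Subgroup.center R → ∀ y, Commute c y := fun {c} hc y =>
    (Subgroup.mem_center_iff.1 hc y).symm
  have hcpow : ∀ {x : R}, x ∈ Subgroup.upperCentralSeries R 2 → x ^ p = 1 →
      ∀ r : R, ⁅x, r⁆ ^ p = 1 := by
    intro x hx hxp r
    rw [← pow_commutator_left (hcc (hcom hx r) x) p, hxp, commutatorElement_one_left]
  let S : Subgroup R :=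
    { carrier := {x | x ∈ Subgroup.upperCentralSeries R 2 ∧ x ^ p = 1}
      one_mem' := ⟨one_mem _, one_pow _⟩
      mul_mem' := by
        rintro x y ⟨hx, hx'⟩ ⟨hy, hy'⟩
        refine ⟨mul_mem hx hy, ?_⟩
        rw [mul_pow_prime hp2 (hcc (hcom hy x) x) (hcc (hcom hy x) y) (hcpow hy hy' x), hx', hy',
          one_mul]
      inv_mem' := by
        rintro x ⟨hx, hx'⟩
        exact ⟨inv_mem hx, by rw [inv_pow, hx', inv_one]⟩ }
  have hSx : ∀ x ∈ S, x ^ p = 1 := fun x hx => hx.2
  haveI hSc : S.Characteristic := Subgroup.characteristic_iff_le_comap.2 fun φ x hx =>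
    ⟨Subgroup.characteristic_iff_le_comap.1
      (inferInstance : (Subgroup.upperCentralSeries R 2).Characteristic) φ hx.1,
      show (φ x) ^ p = 1 by rw [← map_pow, hx.2, map_one]⟩
  set F := S ⊓ Subgroup.centralizer (S : Set R) with hFdef
  haveI hFc : F.Characteristic := inferInstance
  have hFS : F ≤ S := inf_le_left
  have hFe : IsElementaryAbelian p F := ⟨⟨⟨fun a b => Subtype.ext
    (Subgroup.mem_centralizer_iff.1 b.2.2 a a.2.1)⟩⟩, fun a ha => hSx a (hFS ha)⟩
  -- normal subgroups of order `p ^ 2` and exponent `p` lie in `S`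
  have hnormal : ∀ E : Subgroup R, E.Normal → IsElementaryAbelian p E → Nat.card E = p ^ 2 → E ≤ S := by
    intro E hEn hE hE2 e he
    haveI := hEn
    refine ⟨Subgroup.mem_upperCentralSeries_succ_iff.2 fun r => ?_, hE.2 e he⟩
    rw [Subgroup.upperCentralSeries_one]
    exact commutator_mem_center_of_card_sq hR hE2 he r
  have hnc : ¬ IsCyclic (⊤ : Subgroup R) := by
    intro h
    refine hr fun A _ hAp => ?_
    haveI : IsCyclic R := Subgroup.topEquiv.isCyclic.1 h
    exact (card_le_of_isCyclic hAp (Subgroup.isCyclic A)).trans (Nat.le_self_pow two_ne_zero p)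
  obtain ⟨E₀, -, hE₀n, hE₀, hE₀2⟩ := exists_normal_rank_two_le hp2 hR ⊤ hnc
  have hE₀S := hnormal E₀ hE₀n hE₀ hE₀2
  have hSnc : ¬ IsCyclic S := fun h => by
    have := (Subgroup.card_le_of_le hE₀S).trans (card_le_of_isCyclic hSx h)
    rw [hE₀2] at this
    exact absurd this (not_le.2 ((pow_one p).symm.trans_lt (Nat.pow_lt_pow_right hp.out.one_lt one_lt_two)))
  by_cases hFnc : ¬ IsCyclic F
  · -- `F` noncyclic: take its centraliser
    set V := Subgroup.centralizer (F : Set R) with hV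
    have hFV : F ≤ V := fun x hx => Subgroup.mem_centralizer_iff.2 fun y hy =>
      congrArg (fun w : F => (w : R)) (hFe.1.is_comm.comm ⟨y, hy⟩ ⟨x, hx⟩)
    have hV3 : ¬ PRankLE p 2 V := by
      by_cases h3 : p ^ 3 ≤ Nat.card F
      · exact not_rank_of_le hFe hFV h3
      have h2 := sq_le_card hR (fun a ha => hFe.2 a ha) hFnc
      have hF2 : Nat.card F = p ^ 2 := by
        obtain ⟨n, hn⟩ := IsPGroup.iff_card.1 (hR.to_subgroup F)
        rw [hn] at h3 h2 ⊢
        have h4 := (Nat.pow_le_pow_iff_right hp.out.one_lt).1 h2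
        have h5 := (Nat.pow_lt_pow_iff_right hp.out.one_lt).1 (not_le.1 h3)
        rw [show n = 2 by omega]
      obtain ⟨A, hFA, -, hAc, -, hA3⟩ := SCN3.exists_scn3_ge hp2 hR hr F hFe hF2
      exact fun h => hA3 (rank_le_of_le (fun x hx => Subgroup.mem_centralizer_iff.2 fun y hy =>
        congrArg (fun w : A => (w : R)) (hAc.is_comm.comm ⟨y, hFA hy⟩ ⟨x, hx⟩)) h)
    refine ⟨F, V, hFc, inferInstance, hFnc, fun x hx => hFe.2 x hx, hV3, fun B hB hBnc => ?_,
      fun w hw h => hFnc ?_⟩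
    · refine ⟨B, le_rfl, ⟨⟨⟨fun a b => Subtype.ext (congrArg (fun w : F => (w : R))
        (hFe.1.is_comm.comm ⟨a, hB a.2⟩ ⟨b, hB b.2⟩))⟩⟩, fun a ha => hFe.2 a (hB ha)⟩,
        sq_le_card hR (fun a ha => hFe.2 a (hB ha)) hBnc, fun h => hV3 (rank_le_of_le ?_ h)⟩
      exact Subgroup.centralizer_le hB
    · have e : F ⊓ Subgroup.centralizer ({w} : Set R) = F := inf_eq_left.2 fun f hf =>
        Subgroup.mem_centralizer_singleton_iff.2 (Subgroup.mem_centralizer_iff.1 hw f hf)
      rwa [e] at h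
  -- `F` cyclic
  rw [not_not] at hFnc
  have hFz : F ≤ Subgroup.center R := le_center_of_cyclic hR (fun a ha => hFe.2 a ha) hFnc
  have hFp : Nat.card F ≤ p := card_le_of_isCyclic (fun a ha => hFe.2 a ha) hFnc
  have hval : ∀ {x : R}, x ∈ S → ∀ r : R, ⁅x, r⁆ ∈ F := by
    intro x hx r
    refine ⟨⟨?_, hcpow hx.1 hx.2 r⟩, Subgroup.center_le_centralizer _ (hcom hx.1 r)⟩
    refine Subgroup.mem_upperCentralSeries_succ_iff.2 fun s => ?_
    rw [commutatorElement_eq_one_iff_mul_comm.2 (hcc (hcom hx.1 r) s).eq]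
    exact one_mem _
  have hmul : ∀ {x : R}, x ∈ S → ∀ r s : R, ⁅x, r * s⁆ = ⁅x, r⁆ * ⁅x, s⁆ := by
    intro x hx r s
    rw [show ⁅x, r * s⁆ = ⁅x, r⁆ * (r * ⁅x, s⁆ * r⁻¹) by simp [commutatorElement_def, mul_assoc],
      ← (hcc (hcom hx.1 s) r).eq, mul_inv_cancel_right]
  -- self-centralising squares of `S` bound the order of `S`
  have hsmall : ∀ E : Subgroup R, E ≤ S → IsElementaryAbelian p E → Nat.card E = p ^ 2 →
      PRankLE p 2 (S ⊓ Subgroup.centralizer (E : Set R) : Subgroup R) →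
      F ≤ E ∧ Nat.card S ≤ p ^ 3 ∧ ∃ e ∈ E, e ∉ F ∧ Subgroup.zpowers e ⊔ F = E := by
    intro E hES hE hE2 hrE
    have hCE := inf_centralizer_eq hSx hES hE hE2 hrE
    have hFE : F ≤ E := hCE ▸ le_inf hFS fun f hf => Subgroup.center_le_centralizer _ (hFz hf)
    obtain ⟨e, he, heF⟩ : ∃ e ∈ E, e ∉ F := by
      by_contra! h
      have := (Subgroup.card_le_of_le h).trans hFp
      rw [hE2] at this
      exact absurd this (not_le.2 ((pow_one p).symm.trans_lt
        (Nat.pow_lt_pow_right hp.out.one_lt one_lt_two)))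
    have hsup : Subgroup.zpowers e ⊔ F = E := by
      have hle : Subgroup.zpowers e ⊔ F ≤ E := sup_le (Subgroup.zpowers_le.2 he) hFE
      refine Subgroup.eq_of_le_of_card_ge hle ?_
      rw [hE2]
      refine sq_le_card hR (fun a ha => hE.2 a (hle ha)) fun hc => ?_
      have h1 := card_le_of_isCyclic (fun a ha => hE.2 a (hle ha)) hc
      have hpe : Nat.card (Subgroup.zpowers e) = p := by
        rw [Nat.card_zpowers]
        exact orderOf_eq_prime (hE.2 e he) fun h => heF (h ▸ one_mem F)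
      have h2 : Subgroup.zpowers e = Subgroup.zpowers e ⊔ F :=
        Subgroup.eq_of_le_of_card_ge le_sup_left (hpe.symm ▸ h1)
      have hF1 : F ≠ ⊥ := by
        intro hb
        haveI : Nontrivial (S : Subgroup R) := (Subgroup.nontrivial_iff_ne_bot _).2 fun hS0 =>
          hSnc (by rw [hS0]; infer_instance)
        obtain ⟨z, hz, hz1⟩ := ((⊤ : Subgroup S) ⊓ Subgroup.center S).bot_or_exists_ne_one.resolve_left
          (CfsgLib.Perm.inf_center_ne_bot (hR.to_subgroup S) ⊤ top_ne_bot)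
        have : (z : R) ∈ F := ⟨z.2, Subgroup.mem_centralizer_iff.2 fun y hy =>
          congrArg Subtype.val (Subgroup.mem_center_iff.1 hz.2 ⟨y, hy⟩)⟩
        rw [hb, Subgroup.mem_bot] at this
        exact hz1 (Subtype.ext this)
      haveI : Fact (Nat.card (Subgroup.zpowers e)).Prime := ⟨hpe.symm ▸ hp.out⟩
      rcases (F.subgroupOf (Subgroup.zpowers e)).eq_bot_or_eq_top_of_prime_card with h3 | h3
      · rw [Subgroup.subgroupOf_eq_bot, disjoint_iff, inf_eq_left.2 (le_sup_right.trans h2.ge)] at h3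
        exact hF1 h3
      · exact heF (Subgroup.subgroupOf_eq_top.1 h3 (Subgroup.mem_zpowers e))
    have heS : e ∈ S := hES he
    let φ : S →* R :=
      { toFun := fun x => ⁅e, (x : R)⁆
        map_one' := commutatorElement_one_right e
        map_mul' := fun x y => hmul heS x y }
    have hker : φ.ker.map S.subtype ≤ E := by
      rintro _ ⟨x, hx, rfl⟩
      rw [← hCE]
      refine ⟨x.2, ?_⟩
      rw [← hsup]
      refine Subgroup.mem_centralizer_iff.2 fun y hy => ?_
      have hle : Subgroup.zpowers e ⊔ F ≤ Subgroup.centralizer {(x : R)} := sup_le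
        (Subgroup.zpowers_le.2 (Subgroup.mem_centralizer_singleton_iff.2
          (commutatorElement_eq_one_iff_mul_comm.1 hx)))
        fun f hf => Subgroup.mem_centralizer_singleton_iff.2 (hcc (hFz hf) x).eq
      exact Subgroup.mem_centralizer_singleton_iff.1 (hle hy)
    have hrange : φ.range ≤ F := by
      rintro _ ⟨x, rfl⟩
      exact hval heS x
    refine ⟨hFE, ?_, e, he, heF, hsup⟩
    rw [← φ.ker.index_mul_card, Subgroup.index_ker, pow_succ']
    refine Nat.mul_le_mul ((Subgroup.card_le_of_le hrange).trans hFp) ?_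
    rw [← hE2, ← card_map_subtype S φ.ker]
    exact Subgroup.card_le_of_le hker
  have hS3 : ¬ PRankLE p 2 S := by
    intro hS2
    obtain ⟨hFE, hScard, e, he, heF, hsup⟩ := hsmall E₀ hE₀S hE₀ hE₀2 (rank_le_of_le inf_le_left hS2)
    obtain ⟨f, hf, hfE⟩ : ∃ f ∈ S, f ∉ E₀ := by
      by_contra! h
      refine absurd hFnc ?_
      have e1 : F = S := inf_eq_left.2 fun x hx => Subgroup.mem_centralizer_iff.2 fun y hy =>
        congrArg (fun w : E₀ => (w : R)) (hE₀.1.is_comm.comm ⟨y, h y hy⟩ ⟨x, h x hx⟩)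
      rw [e1]; exact hSnc
    have hgen : E₀ ⊔ Subgroup.zpowers f = S := by
      refine Subgroup.eq_of_le_of_card_ge (sup_le hE₀S (Subgroup.zpowers_le.2 hf)) (hScard.trans ?_)
      have hlt : E₀ < E₀ ⊔ Subgroup.zpowers f := lt_of_le_of_ne le_sup_left fun h =>
        hfE (h ▸ Subgroup.mem_sup_right (Subgroup.mem_zpowers f))
      obtain ⟨n, hn⟩ := IsPGroup.iff_card.1 (hR.to_subgroup (E₀ ⊔ Subgroup.zpowers f))
      rw [hn]
      refine Nat.pow_le_pow_right hp.out.pos ?_
      by_contra hlt3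
      refine hlt.ne (Subgroup.eq_of_le_of_card_ge hlt.le ?_)
      rw [hn, hE₀2]
      exact Nat.pow_le_pow_right hp.out.pos (by omega)
    set T := Subgroup.centralizer (S : Set R) with hT
    let φ : R →* R × R :=
      { toFun := fun r => (⁅e, r⁆, ⁅f, r⁆)
        map_one' := by simp
        map_mul' := fun r s => Prod.ext (hmul (hE₀S he) r s) (hmul hf r s) }
    have hker : φ.ker ≤ T := by
      intro r hr'
      refine Subgroup.mem_centralizer_iff.2 fun y hy => ?_
      have hle : S ≤ Subgroup.centralizer {r} := by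
        rw [← hgen, ← hsup]
        refine sup_le (sup_le (Subgroup.zpowers_le.2 ?_) fun z hz => ?_) (Subgroup.zpowers_le.2 ?_)
        · exact Subgroup.mem_centralizer_singleton_iff.2
            (commutatorElement_eq_one_iff_mul_comm.1 (congrArg Prod.fst hr'))
        · exact Subgroup.mem_centralizer_singleton_iff.2 (hcc (hFz hz) r).eq
        · exact Subgroup.mem_centralizer_singleton_iff.2
            (commutatorElement_eq_one_iff_mul_comm.1 (congrArg Prod.snd hr'))
      exact Subgroup.mem_centralizer_singleton_iff.1 (hle hy)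
    have hidx : T.index ≤ p ^ 2 := by
      refine (Nat.le_of_dvd (Nat.pos_of_ne_zero Subgroup.index_ne_zero_of_finite)
        (Subgroup.index_dvd_of_le hker)).trans ?_
      rw [Subgroup.index_ker]
      have hle : φ.range ≤ F.prod F := by
        rintro _ ⟨r, rfl⟩
        exact Subgroup.mem_prod.2 ⟨hval (hE₀S he) r, hval hf r⟩
      refine (Subgroup.card_le_of_le hle).trans ?_
      rw [Nat.card_congr (F.prodEquiv F).toEquiv, Nat.card_prod, pow_two]
      exact Nat.mul_le_mul hFp hFp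
    haveI : T.Normal := inferInstance
    have hST : S ⊔ T = ⊤ := by
      refine Subgroup.eq_top_of_le_card _ ?_
      have h1 := Subgroup.relIndex_sup_right S T
      have h2 : T.relIndex S = S.relIndex S * T.relIndex S := by rw [Subgroup.relIndex_self, one_mul]
      have h3 : Nat.card (S ⊔ T : Subgroup R) = T.relIndex S * Nat.card T := by
        rw [← h1, ← Subgroup.relIndex_bot_left T, ← Subgroup.relIndex_bot_left (S ⊔ T), mul_comm,
          Subgroup.relIndex_mul_relIndex ⊥ T (S ⊔ T) bot_le le_sup_right]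
      have h4 : p ^ 2 ≤ T.relIndex S := by
        refine Nat.le_of_mul_le_mul_left (?_ : Nat.card F * p ^ 2 ≤ Nat.card F * T.relIndex S) Nat.card_pos
        refine (Nat.mul_le_mul_right _ hFp).trans ?_
        rw [show Nat.card F * T.relIndex S = Nat.card S by
          rw [← Subgroup.inf_relIndex_left, ← hFdef, ← Subgroup.relIndex_bot_left F,
            Subgroup.relIndex_mul_relIndex ⊥ F S bot_le hFS, Subgroup.relIndex_bot_left]]
        rw [← pow_succ', ← hgen]
        obtain ⟨n, hn⟩ := IsPGroup.iff_card.1 (hR.to_subgroup (E₀ ⊔ Subgroup.zpowers f))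
        rw [hn]
        refine Nat.pow_le_pow_right hp.out.pos ?_
        by_contra hlt3
        refine hfE ?_
        have h5 : E₀ = E₀ ⊔ Subgroup.zpowers f := Subgroup.eq_of_le_of_card_ge le_sup_left (by
          rw [hn, hE₀2]; exact Nat.pow_le_pow_right hp.out.pos (by omega))
        exact h5.symm ▸ Subgroup.mem_sup_right (Subgroup.mem_zpowers f)
      rw [h3, ← Subgroup.index_mul_card T]
      exact Nat.mul_le_mul_right _ (hidx.trans h4)
    have hTc : IsCyclic T := by
      by_contra hTnc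
      obtain ⟨E, hET, hEn, hE, hE2⟩ := exists_normal_rank_two_le hp2 hR T hTnc
      have := (Subgroup.card_le_of_le (le_inf (hnormal E hEn hE hE2) hET : E ≤ F)).trans hFp
      rw [hE2] at this
      exact absurd this (not_le.2 ((pow_one p).symm.trans_lt
        (Nat.pow_lt_pow_right hp.out.one_lt one_lt_two)))
    simp only [PRankLE, not_forall, not_le] at hr
    obtain ⟨A, hA, hAp, hAcard⟩ := hr
    refine absurd hAcard (not_lt.2 (card_le_of_rank hS2 (fun a ha => ?_) ⟨hA, hAp⟩))
    have hmem : a ∈ ((S ⊔ T : Subgroup R) : Set R) := hST ▸ Subgroup.mem_top a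
    rw [Subgroup.mul_normal] at hmem
    obtain ⟨s, hs, t, ht, rfl⟩ := hmem
    have htp : t ^ p = 1 := by
      have h1 := hAp _ ha
      rw [(show Commute s t from Subgroup.mem_centralizer_iff.1 ht s hs).mul_pow, hSx s hs,
        one_mul] at h1
      exact h1
    refine mul_mem hs ?_
    by_contra htS
    have hE' := SCN3.mem_sup_elementary hFe htp fun z hz => (hcc (hFz hz) t).eq
    have hle : F ⊔ Subgroup.zpowers t ≤ T := sup_le inf_le_right (Subgroup.zpowers_le.2 ht)
    have hc : IsCyclic (F ⊔ Subgroup.zpowers t : Subgroup R) :=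
      haveI := hTc; isCyclic_of_injective (Subgroup.inclusion hle) (Subgroup.inclusion_injective hle)
    have h1 := card_le_of_isCyclic (fun a ha => hE'.2 a ha) hc
    have hF1 : Nat.card F = p := by
      refine le_antisymm hFp ?_
      have hb : F ≠ ⊥ := fun hb => heF (by
        exfalso
        have : E₀ = Subgroup.zpowers e := by rw [← hsup, hb, sup_bot_eq]
        have h2 : Nat.card E₀ ≤ p := by
          rw [this, Nat.card_zpowers]
          exact orderOf_le_of_pow_eq_one hp.out.pos (hE₀.2 e he)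
        rw [hE₀2] at h2
        exact absurd h2 (not_le.2 ((pow_one p).symm.trans_lt
          (Nat.pow_lt_pow_right hp.out.one_lt one_lt_two))))
      obtain ⟨n, hn⟩ := IsPGroup.iff_card.1 (hR.to_subgroup F)
      have hn0 : n ≠ 0 := fun e => hb (Subgroup.card_eq_one.1 (by rw [hn, e, pow_zero]))
      rw [hn]
      exact Nat.le_self_pow hn0 p
    have h2 : F = F ⊔ Subgroup.zpowers t := Subgroup.eq_of_le_of_card_ge le_sup_left (hF1 ▸ h1)
    exact htS (hFS (h2.symm ▸ Subgroup.mem_sup_right (Subgroup.mem_zpowers t)))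
  refine ⟨S, S, hSc, hSc, hSnc, hSx, hS3, fun B hB hBnc => ?_, fun w hw h => ?_⟩
  · obtain ⟨E, -, hE, hE2⟩ := exists_normal_rank_two _ B p hp2 rfl (hR.to_subgroup B) hBnc
    have hE' : IsElementaryAbelian p (E.map B.subtype) := by
      refine ⟨⟨⟨?_⟩⟩, ?_⟩
      · rintro ⟨_, a, ha, rfl⟩ ⟨_, b, hb, rfl⟩
        exact Subtype.ext (congrArg (fun z : E => ((z : B) : R))
          (hE.1.is_comm.comm ⟨a, ha⟩ ⟨b, hb⟩))
      · rintro _ ⟨a, ha, rfl⟩
        rw [← map_pow, hE.2 a ha, map_one]
    have hcard : Nat.card (E.map B.subtype) = p ^ 2 := by rw [card_map_subtype, hE2]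
    refine ⟨E.map B.subtype, Subgroup.map_subtype_le _, hE', hcard.ge, fun h => ?_⟩
    have hES : E.map B.subtype ≤ S := (Subgroup.map_subtype_le _).trans hB
    obtain ⟨-, hScard, -⟩ := hsmall _ hES hE' hcard (rank_le_of_le inf_le_right h)
    obtain ⟨A, hA, hAp, hAcard⟩ : ∃ A : Subgroup S, IsMulCommutative A ∧ (∀ a ∈ A, a ^ p = 1) ∧
        p ^ 2 < Nat.card A := by
      simpa only [PRankLE, not_forall, not_le, exists_prop] using hS3
    obtain ⟨n, hn⟩ := IsPGroup.iff_card.1 ((hR.to_subgroup S).to_subgroup A)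
    rw [hn] at hAcard
    have hAtop : A = ⊤ := Subgroup.eq_top_of_le_card _ (hScard.trans (hn ▸
      Nat.pow_le_pow_right hp.out.pos ((Nat.pow_lt_pow_iff_right hp.out.one_lt).1 hAcard)))
    refine absurd hFnc ?_
    have e1 : F = S := inf_eq_left.2 fun x hx => Subgroup.mem_centralizer_iff.2 fun y hy =>
      congrArg (fun w : A => ((w : S) : R))
        (hA.is_comm.comm ⟨⟨y, hy⟩, hAtop ▸ Subgroup.mem_top _⟩ ⟨⟨x, hx⟩, hAtop ▸ Subgroup.mem_top _⟩)
    rw [e1]; exact hSnc
  · have hwc : w ∈ S ⊓ Subgroup.centralizer ({w} : Set R) :=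
      ⟨hw, Subgroup.mem_centralizer_singleton_iff.2 rfl⟩
    have h1 := card_le_of_isCyclic (E := S ⊓ Subgroup.centralizer ({w} : Set R)) (fun a ha => hSx a ha.1) h
    have hle : F ≤ S ⊓ Subgroup.centralizer ({w} : Set R) := le_inf hFS fun z hz =>
      Subgroup.mem_centralizer_singleton_iff.2 (hcc (hFz hz) w).eq
    by_cases hwF : w ∈ F
    · have e : S ⊓ Subgroup.centralizer ({w} : Set R) = S := inf_eq_left.2 fun z _ =>
        Subgroup.mem_centralizer_singleton_iff.2 (hcc (hFz hwF) z).eq.symm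
      exact hSnc (e ▸ h)
    have hF1 : F = ⊥ := by
      obtain ⟨n, hn⟩ := IsPGroup.iff_card.1 (hR.to_subgroup F)
      by_contra hb
      have hn0 : n ≠ 0 := fun e => hb (Subgroup.card_eq_one.1 (by rw [hn, e, pow_zero]))
      have hge : p ≤ Nat.card F := hn ▸ Nat.le_self_pow hn0 p
      exact hwF ((Subgroup.eq_of_le_of_card_ge hle (h1.trans hge)).symm ▸ hwc)
    haveI : Nontrivial S := (Subgroup.nontrivial_iff_ne_bot _).2 fun hS0 =>
      hSnc (by rw [hS0]; infer_instance)
    obtain ⟨z, hz, hz1⟩ := ((⊤ : Subgroup S) ⊓ Subgroup.center S).bot_or_exists_ne_one.resolve_left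
      (CfsgLib.Perm.inf_center_ne_bot (hR.to_subgroup S) ⊤ top_ne_bot)
    have : (z : R) ∈ F := ⟨z.2, Subgroup.mem_centralizer_iff.2 fun y hy =>
      congrArg Subtype.val (Subgroup.mem_center_iff.1 hz.2 ⟨y, hy⟩)⟩
    rw [hF1, Subgroup.mem_bot] at this
    exact hz1 (Subtype.ext this)

end CfsgLib.OddLocal.GoodSub
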