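import Cfsg.Agent.Inv.ZJApp
import Cfsg.Agent.Inv.ZJFusion
import Cfsg.Agent.Solv.FittingBasic
import Cfsg.Agent.Solv.CoprimeAction

set_option autoImplicit false
set_option linter.style.haveILetI false
set_option linter.deprecated false

/-! `p`-stability of groups of odd order. -/

namespace CfsgLib.OddLocal.PStable

open Subgroup

variable {G : Type*} [Group G] [Finite G] {p : ℕ} [Fact p.Prime]

theorem odd_stable (hodd : Odd (Nat.card G)) (hp : p ≠ 2) : Cfsg.IsNormalizerPStable p G :=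
  CfsgLib.Inv.ZJ.stable_of_not_involves hp (CfsgLib.Inv.ZJ.not_involves_of_odd hodd)

/-- Quadratically acting elements on a normal `p`-subgroup. -/
theorem map_quad_le (hodd : Odd (Nat.card G)) (hp : p ≠ 2) (P B : Subgroup G) [P.Normal]
    (hP : IsPGroup p P) (h : ⁅⁅P, B⁆, B⁆ = ⊥) :
    B.map (QuotientGroup.mk' (centralizer (P : Set G))) ≤
      Cfsg.pCore p (G ⧸ centralizer (P : Set G)) := by
  rintro _ ⟨b, hb, rfl⟩
  exact CfsgLib.Inv.ZJ.stableOn_of_normalizer (odd_stable hodd hp) P hP b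
    (le_bot_iff.1 ((commutator_mono (commutator_mono le_rfl (zpowers_le.2 hb)) (zpowers_le.2 hb)).trans h.le))

theorem commutator_le_of_normalizes {P B : Subgroup G} (h : P ≤ normalizer (B : Set G)) : ⁅P, B⁆ ≤ B :=
  commutator_le.2 fun x hx b hb => B.mul_mem ((mem_normalizer_iff.1 (h hx) b).1 hb) (B.inv_mem hb)

theorem abelian_quad {P B : Subgroup G} (h : P ≤ normalizer (B : Set G)) (hc : IsMulCommutative B) :
    ⁅⁅P, B⁆, B⁆ = ⊥ := by
  refine le_bot_iff.1 ((commutator_mono (commutator_le_of_normalizes h) le_rfl).trans ?_)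
  rw [le_bot_iff, commutator_eq_bot_iff_le_centralizer]
  exact fun a ha => mem_centralizer_iff.2 fun b hb =>
    congrArg Subtype.val (hc.is_comm.comm ⟨b, hb⟩ ⟨a, ha⟩)

/-- If the centralizer of `P` in `O_p(G)` lies in `P`, its centralizer in `G` is a `p`-group. -/
theorem centralizer_isPGroup [Group.IsSolvable G] (hO : Cfsg.pPrimeCore p G = ⊥) (P : Subgroup G)
    [P.Normal] (hP : IsPGroup p P)
    (hC : Cfsg.pCore p G ⊓ centralizer (P : Set G) ≤ P) :
    IsPGroup p (centralizer (P : Set G)) := by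
  haveI := CfsgLib.Solv.pCore_normal G p
  set Q := Cfsg.pCore p G with hQ
  have hPQ : P ≤ Q := CfsgLib.Solv.le_pCore hP
  refine IsPGroup.of_card (n := (Nat.card (centralizer (P : Set G))).primeFactorsList.length) ?_
  refine Nat.eq_prime_pow_of_unique_prime_dvd Nat.card_pos.ne' (fun {l} hl hld => ?_)
  · by_contra hne
    haveI := Fact.mk hl
    obtain ⟨y, hy⟩ := exists_prime_orderOf_dvd_card' l hld
    set A := zpowers (y : G)
    have hyo : orderOf (y : G) = l := by rw [Subgroup.orderOf_coe, hy]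
    obtain ⟨n, hn⟩ := (CfsgLib.Solv.pCore_isPGroup G p : IsPGroup p Q).exists_card_eq
    have hcop : (Nat.card A).Coprime (Nat.card Q) := by
      rw [Nat.card_zpowers, hyo, hn]
      exact ((Nat.coprime_primes hl Fact.out).2 hne).pow_right n
    have hAP : ⁅A, P⁆ = ⊥ := commutator_eq_bot_iff_le_centralizer.2 (zpowers_le.2 y.2)
    have hPA : ⁅P, A⁆ = ⊥ := by rw [commutator_comm]; exact hAP
    have h1 : ⁅⁅A, P⁆, Q⁆ = ⊥ := by rw [hAP, commutator_bot_left]
    have h2 : ⁅⁅P, Q⁆, A⁆ = ⊥ :=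
      le_bot_iff.1 ((commutator_mono (commutator_le_left P Q) le_rfl).trans hPA.le)
    have h3 : ⁅⁅Q, A⁆, P⁆ = ⊥ := commutator_commutator_eq_bot_of_rotate h1 h2
    have h4 : ⁅Q, A⁆ ≤ P :=
      (le_inf (commutator_le_left Q A) (commutator_eq_bot_iff_le_centralizer.1 h3)).trans hC
    have h5 : ⁅Q, A⁆ = ⊥ := by
      haveI : Group.IsNilpotent Q := (CfsgLib.Solv.pCore_isPGroup G p).isNilpotent
      rw [← CfsgLib.Solv.commutator_commutator_right (A := A) (K := Q)
        (by rw [normalizer_eq_top]; exact le_top) hcop (Or.inr inferInstance)]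
      exact le_bot_iff.1 ((commutator_mono h4 le_rfl).trans hPA.le)
    rw [commutator_comm] at h5
    have hyQ : (y : G) ∈ Q := CfsgLib.Solv.centralizer_pCore_le hO
      (commutator_eq_bot_iff_le_centralizer.1 h5 (mem_zpowers _))
    exact hl.ne_one (by
      rw [← hyo]
      exact Nat.eq_one_of_dvd_coprimes hcop (Nat.card_zpowers (y : G)).symm.dvd (orderOf_dvd_natCard Q hyQ))

/-- Preimages of the `p`-core modulo a normal `p`-group lie in the `p`-core. -/
theorem comap_pCore_le (C : Subgroup G) [C.Normal] (hC : IsPGroup p C) :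
    (Cfsg.pCore p (G ⧸ C)).comap (QuotientGroup.mk' C) ≤ Cfsg.pCore p G := by
  haveI := CfsgLib.Solv.pCore_normal (G ⧸ C) p
  refine CfsgLib.Solv.le_pCore ((CfsgLib.Solv.pCore_isPGroup (G ⧸ C) p).comap_of_ker_isPGroup _ ?_)
  rwa [QuotientGroup.ker_mk']

end CfsgLib.OddLocal.PStable
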