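import Cfsg.Agent.OddLocal.Uniqueness

/-!
Bender's maximal subgroup lemma: a maximal subgroup with at least two primes in its Fitting subgroup
is determined by a large subgroup of it.
-/

set_option autoImplicit false
set_option linter.style.haveILetI false
set_option linter.unusedSectionVars false

open Cfsg CfsgLib.Solv
open scoped commutatorElement

namespace CfsgLib.OddLocal.Bender

variable {G : Type*} [Group G] [Finite G]

/-- `O_q(X)` as a subgroup of `G`. -/
noncomputable abbrev opc (q : ℕ) (X : Subgroup G) : Subgroup G := (pCore q X).map X.subtype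

theorem isPGroup_opc (q : ℕ) [Fact q.Prime] (X : Subgroup G) : IsPGroup q (opc q X) :=
  (pCore_isPGroup X q).map _

theorem normalizes_opc (q : ℕ) (X : Subgroup G) :
    Subgroup.normalizer (X : Set G) ≤ Subgroup.normalizer (opc q X : Set G) := by
  intro g hg
  rw [Subgroup.mem_normalizer_iff_map_conj_eq]
  show ((pCore q X).map X.subtype).map _ = (pCore q X).map X.subtype
  rw [Subgroup.map_map]
  have h1 := Subgroup.characteristic_iff_map_eq.1 (pCore_characteristic (p := q) (G := X))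
    (Subgroup.normalizerMonoidHom X ⟨g, hg⟩)
  conv_rhs => rw [← h1, Subgroup.map_map]
  rfl

theorem le_opc {q : ℕ} {X Y : Subgroup G} (hYX : Y ≤ X)
    (hn : X ≤ Subgroup.normalizer (Y : Set G)) (h : IsPGroup q Y) : Y ≤ opc q X := by
  haveI : (Y.subgroupOf X).Normal := Subgroup.normal_subgroupOf_of_le_normalizer hn
  rw [← Subgroup.map_subgroupOf_eq_of_le hYX]
  exact Subgroup.map_mono (le_pCore (h.comap_of_injective X.subtype X.subtype_injective))

theorem le_centralizer_of_normalizes {A B : Subgroup G} (hA : A ≤ Subgroup.normalizer (B : Set G))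
    (hB : B ≤ Subgroup.normalizer (A : Set G)) (h : A ⊓ B = ⊥) :
    A ≤ Subgroup.centralizer (B : Set G) := by
  intro a ha
  rw [Subgroup.mem_centralizer_iff]
  intro b hb
  have h1 : ⁅a, b⁆ ∈ A ⊓ B := by
    refine Subgroup.mem_inf.2 ⟨?_, ?_⟩
    · rw [show ⁅a, b⁆ = a * (b * a⁻¹ * b⁻¹) by simp [commutatorElement_def, mul_assoc]]
      exact mul_mem ha ((Subgroup.mem_normalizer_iff.1 (hB hb) _).1 (inv_mem ha))
    · rw [commutatorElement_def]
      exact mul_mem ((Subgroup.mem_normalizer_iff.1 (hA ha) b).1 hb) (inv_mem hb)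
  rw [h, Subgroup.mem_bot] at h1
  exact (commutatorElement_eq_one_iff_mul_comm.1 h1).symm

variable (π : Finset ℕ)

/-- The largest normal subgroup of `L` avoiding the primes of `π` other than `q`. -/
noncomputable abbrev avoid (q : ℕ) (L : Subgroup G) : Subgroup G :=
  piCoreOf {s | s = q ∨ s ∉ π} L

variable {π}

theorem avoid_commute {L : Subgroup G} {q r : ℕ} (hqr : q ≠ r)
    (hO : piCoreOf {s | s ∉ π} L = ⊥) :
    avoid π q L ≤ Subgroup.centralizer (avoid π r L : Set G) := by
  have hn : ∀ i, L ≤ Subgroup.normalizer (avoid π i L : Set G) := fun i =>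
    Subgroup.le_normalizer.trans (Trans.normalizes_piCoreOf _ _)
  refine le_centralizer_of_normalizes ((Trans.piCoreOf_le _ _).trans (hn r))
    ((Trans.piCoreOf_le _ _).trans (hn q)) (le_bot_iff.1 ?_)
  rw [← hO]
  refine Trans.le_piCoreOf (inf_le_left.trans (Trans.piCoreOf_le _ _))
    (le_normalizer_inf_of_le (hn q) (hn r)) fun s hs hd hsπ => ?_
  rcases Trans.piNat_piCoreOf _ L s hs (hd.trans (Subgroup.card_dvd_of_le inf_le_left)) with h1 | h1
  · rcases Trans.piNat_piCoreOf _ L s hs (hd.trans (Subgroup.card_dvd_of_le inf_le_right)) with h2 | h2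
    · exact hqr (h1.symm.trans h2)
    · exact h2 hsπ
  · exact h1 hsπ

variable (hG : IsMinSimpleOddOrder G)
include hG

theorem step {H L : Subgroup G} (hH : IsCoatom H) (hL : L ≠ ⊤)
    (hO : piCoreOf {s | s ∉ π} L = ⊥) (htwo : ∀ q ∈ π, ∃ r ∈ π, r ≠ q) (Z : ℕ → Subgroup G)
    (hpr : ∀ q ∈ π, q.Prime)
    (hZL : ∀ q ∈ π, Z q ≤ L) (hZH : ∀ q ∈ π, Z q ≤ H)
    (hZn : ∀ q ∈ π, H ≤ Subgroup.normalizer (Z q : Set G)) (hZp : ∀ q ∈ π, IsPGroup q (Z q))
    (hZ1 : ∀ q ∈ π, Z q ≠ ⊥) :
    ∀ q ∈ π, Z q ≤ opc q L ∧ opc q L ≤ H := by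
  haveI := Trans.solvable_proper hG hL
  have hnH : ∀ q ∈ π, Subgroup.normalizer (Z q : Set G) = H := fun q hq =>
    Uniq.normalizer_eq hG hH (hZ1 q hq) (fun e => hH.1 (top_le_iff.1 (e ▸ hZH q hq))) (hZn q hq)
  have hZZ : ∀ q ∈ π, ∀ r ∈ π, r ≠ q → Z q ≤ Subgroup.centralizer (Z r : Set G) := by
    intro q hq r hr hne
    refine le_centralizer_of_normalizes ((hZH q hq).trans (hZn r hr)) ((hZH r hr).trans (hZn q hq)) ?_
    haveI := Fact.mk (hpr q hq); haveI := Fact.mk (hpr r hr)
    exact disjoint_iff.1 (IsPGroup.disjoint_of_ne q r (Ne.symm hne) _ _ (hZp q hq) (hZp r hr))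
  have hZN : ∀ q ∈ π, Z q ≤ avoid π q L := by
    intro q hq z hz
    haveI := Fact.mk (hpr q hq)
    set D : Subgroup L := ⨅ r : {r // r ∈ π ∧ r ≠ q}, pPrimeCore (r : ℕ) L
    haveI : D.Normal := Subgroup.normal_iInf_normal fun r => pPrimeCore_normal L _
    have hD : PiNat {s | s = q ∨ s ∉ π} (Nat.card D) := by
      intro s hs hd
      by_contra hcon
      simp only [Set.mem_setOf_eq, not_or, not_not] at hcon
      haveI := Fact.mk hs
      exact not_dvd_card_pPrimeCore (hd.trans (Subgroup.card_dvd_of_le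
        (iInf_le (fun r : {r // r ∈ π ∧ r ≠ q} => pPrimeCore (r : ℕ) L) ⟨s, hcon.2, hcon.1⟩)))
    refine ⟨⟨z, hZL q hq hz⟩, le_piCore hD (Subgroup.mem_iInf.2 fun ⟨r, hr, hrq⟩ => ?_), rfl⟩
    haveI := Fact.mk (hpr r hr)
    refine le_pPrimeCore_of_centralizes (P := (Z r).subgroupOf L) (Q := (Z q).subgroupOf L)
      ((hZp r hr).comap_of_injective L.subtype L.subtype_injective) ?_ ?_ ?_
      (Subgroup.mem_subgroupOf.2 hz)
    · rw [card_subgroupOf (hZL q hq)]
      obtain ⟨k, hk⟩ := IsPGroup.iff_card.1 (hZp q hq)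
      rw [hk]
      exact ((Nat.coprime_primes (hpr q hq) (hpr r hr)).2 (Ne.symm hrq)).pow_left k
    · intro x hx
      exact Subgroup.mem_centralizer_iff.2 fun y hy => Subtype.ext (Subgroup.mem_centralizer_iff.1
        (hZZ q hq r hr hrq (Subgroup.mem_subgroupOf.1 hx)) y (Subgroup.mem_subgroupOf.1 hy))
    · intro x hx
      have hxH : (x : G) ∈ H := by
        rw [← hnH r hr]
        exact Subgroup.centralizer_le_normalizer _ (Subgroup.mem_centralizer_iff.2 fun y hy =>
          congrArg Subtype.val (Subgroup.mem_centralizer_iff.1 hx ⟨y, hZL r hr hy⟩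
            (Subgroup.mem_subgroupOf.2 hy)))
      refine Subgroup.mem_normalizer_fintype fun y hy => Subgroup.mem_subgroupOf.2 ?_
      exact (Subgroup.mem_normalizer_iff.1 (hZn q hq hxH) y).1 (Subgroup.mem_subgroupOf.1 hy)
  have hNH : ∀ q ∈ π, avoid π q L ≤ H := by
    intro q hq
    obtain ⟨r, hr, hne⟩ := htwo q hq
    rw [← hnH r hr]
    exact (avoid_commute (Ne.symm hne) hO).trans ((Subgroup.centralizer_le (hZN r hr)).trans
      (Subgroup.centralizer_le_normalizer _))
  intro q hq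
  haveI := Fact.mk (hpr q hq)
  refine ⟨?_, le_trans ?_ (hNH q hq)⟩
  · refine (le_opc (hZN q hq) ((hNH q hq).trans (hZn q hq)) (hZp q hq)).trans ?_
    refine le_opc ((Subgroup.map_subtype_le _).trans (Trans.piCoreOf_le _ _)) ?_ (isPGroup_opc q _)
    exact (Subgroup.le_normalizer.trans (Trans.normalizes_piCoreOf _ _)).trans (normalizes_opc q _)
  · exact Trans.le_piCoreOf (Subgroup.map_subtype_le _) (Subgroup.le_normalizer.trans (normalizes_opc q L))
      (PiNat.of_isPGroup (isPGroup_opc q L) (Or.inl rfl))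

omit hG in
theorem opc_le_fittingOf (H : Subgroup G) {q : ℕ} (hq : q.Prime) : opc q H ≤ fittingOf H := by
  refine Subgroup.map_mono ?_
  rw [fittingSubgroup_eq_iSup_pCore]
  exact le_iSup (fun r : Nat.Primes => pCore (r : ℕ) H) ⟨q, hq⟩

omit hG in
theorem fittingOf_le (H : Subgroup G) {W : Subgroup G}
    (h : ∀ r : ℕ, r.Prime → opc r H ≤ W) : fittingOf H ≤ W := by
  rw [fittingOf, fittingSubgroup_eq_iSup_pCore, Subgroup.map_iSup]
  exact iSup_le fun r => h r r.2

omit hG in
theorem opc_eq_bot {H : Subgroup G} {q : ℕ} [hq : Fact q.Prime]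
    (h : ¬ q ∣ Nat.card (fittingOf H)) : opc q H = ⊥ := by
  obtain ⟨k, hk⟩ := IsPGroup.iff_card.1 (isPGroup_opc q H)
  rcases Nat.eq_zero_or_pos k with rfl | hk0
  · exact Subgroup.card_eq_one.1 (by rw [hk, pow_zero])
  · exact absurd (((dvd_pow_self q hk0.ne').trans hk.symm.dvd).trans
      (Subgroup.card_dvd_of_le (opc_le_fittingOf H hq.out))) h

omit hG in
theorem opc_ne_bot {H : Subgroup G} {q : ℕ} [hq : Fact q.Prime]
    (h : q ∣ Nat.card (fittingOf H)) : opc q H ≠ ⊥ := by
  intro hb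
  obtain ⟨x, hx⟩ := exists_prime_orderOf_dvd_card' q h
  obtain ⟨y, hy, hye⟩ := x.2
  have hxo : orderOf (x : G) = q := by rw [Subgroup.orderOf_coe, hx]
  -- an element of order `q` of the Fitting subgroup lies in `O_q`
  haveI := fittingSubgroup_isNilpotent (G := H)
  obtain ⟨P⟩ : Nonempty (Sylow q (fittingSubgroup H)) := inferInstance
  haveI : (P : Subgroup (fittingSubgroup H)).Characteristic := P.characteristic_of_normal inferInstance
  haveI := CfsgLib.Solv.fittingSubgroup_normal H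
  haveI := normal_map_subtype_of_characteristic (P : Subgroup (fittingSubgroup H))
  have hle := le_pCore (N := (P : Subgroup (fittingSubgroup H)).map (fittingSubgroup H).subtype)
    (P.isPGroup'.map _)
  have hyP : (⟨y, hy⟩ : fittingSubgroup H) ∈ (P : Subgroup (fittingSubgroup H)) := by
    obtain ⟨Q, hQ⟩ := (IsPGroup.of_card (n := 1) (G := Subgroup.zpowers (⟨y, hy⟩ : fittingSubgroup H))
      (by rw [Nat.card_zpowers, pow_one, Subgroup.orderOf_mk, ← Subgroup.orderOf_coe,
        show (y : G) = x from hye, hxo])).exists_le_sylow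
    haveI := Sylow.unique_of_normal P inferInstance
    rw [Subsingleton.elim P Q]
    exact hQ (Subgroup.mem_zpowers _)
  have : (x : G) ∈ opc q H := ⟨y, hle ⟨_, hyP, rfl⟩, hye⟩
  rw [hb, Subgroup.mem_bot] at this
  rw [this, orderOf_one] at hxo
  exact hq.out.ne_one hxo.symm

/-- A maximal subgroup has no normal subgroup avoiding the primes of its Fitting subgroup. -/
theorem piCoreOf_compl_eq_bot {H : Subgroup G} (hH : H ≠ ⊤) :
    piCoreOf {s | s ∉ (Nat.card (fittingOf H)).primeFactors} H = ⊥ := by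
  haveI := Trans.solvable_proper hG hH
  set K := piCore {s | s ∉ (Nat.card (fittingOf H)).primeFactors} H with hK
  have hcop : (Nat.card (fittingSubgroup H)).Coprime (Nat.card K) := by
    refine Nat.coprime_of_dvd fun s hs h1 h2 => piNat_card_piCore _ s hs h2 ?_
    rw [Nat.mem_primeFactors]
    exact ⟨hs, by rw [fittingOf, card_map_subtype]; exact h1, Nat.card_pos.ne'⟩
  haveI := CfsgLib.Solv.fittingSubgroup_normal H
  have h0 := inf_eq_bot_of_coprime_card hcop
  have h1 : K ≤ Subgroup.centralizer (fittingSubgroup H : Set H) :=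
    le_centralizer_of_normalizes (le_top.trans (Subgroup.normalizer_eq_top (H := fittingSubgroup H)).ge)
      (le_top.trans (Subgroup.normalizer_eq_top (H := K)).ge) (inf_comm (fittingSubgroup H) K ▸ h0)
  have h2 : K = ⊥ := le_bot_iff.1 (h0 ▸ le_inf (h1.trans centralizer_fittingSubgroup_le) le_rfl)
  rw [piCoreOf, ← hK, h2, Subgroup.map_bot]

theorem eq_of_inv {H : Subgroup G} (hH : IsCoatom H)
    (hF2 : 2 ≤ (Nat.card (fittingOf H)).primeFactors.card) {M : Subgroup G}
    (hZM : fittingOf H ⊓ Subgroup.centralizer (fittingOf H : Set G) ≤ M)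
    (hinv : ∀ Y ∈ invSubgroups ⊤ M (primesNotDvd (Nat.card (fittingOf H))), Y = ⊥)
    {L : Subgroup G} (hL : IsCoatom L) (hML : M ≤ L) : L = H := by
  set π := (Nat.card (fittingOf H)).primeFactors with hπ
  have hpr : ∀ q ∈ π, q.Prime := fun q hq => Nat.prime_of_mem_primeFactors hq
  have htwo : ∀ q ∈ π, ∃ r ∈ π, r ≠ q := by
    intro q _
    obtain ⟨a, ha, b, hb, hab⟩ := Finset.one_lt_card.1 (show 1 < π.card by omega)
    by_cases h : a = q
    · exact ⟨b, hb, fun e => hab (h.trans e.symm)⟩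
    · exact ⟨a, ha, h⟩
  have hOH := piCoreOf_compl_eq_bot hG hH.1
  have hOL : piCoreOf {s | s ∉ π} L = ⊥ := hinv _ ⟨le_top, fun s hs hd => ⟨hs, fun hdvd =>
      Trans.piNat_piCoreOf {s | s ∉ π} L s hs hd (Nat.mem_primeFactors.2 ⟨hs, hdvd, Nat.card_pos.ne'⟩)⟩,
    hML.trans (Subgroup.le_normalizer.trans (Trans.normalizes_piCoreOf _ _))⟩
  have hne : ∀ q ∈ π, opc q H ≠ ⊥ := fun q hq =>
    haveI := Fact.mk (hpr q hq); opc_ne_bot (Nat.dvd_of_mem_primeFactors hq)
  -- the centres of the `O_q(H)`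
  let Z : ℕ → Subgroup G := fun q => opc q H ⊓ Subgroup.centralizer (opc q H : Set G)
  have hZM' : ∀ q ∈ π, Z q ≤ M := by
    intro q hq z hz
    refine hZM ⟨opc_le_fittingOf H (hpr q hq) hz.1, Subgroup.mem_centralizer_iff.2 fun f hf => ?_⟩
    refine Subgroup.mem_centralizer_singleton_iff.1 ((fittingOf_le H fun r hr => ?_) hf)
    intro x hx
    rw [Subgroup.mem_centralizer_singleton_iff]
    by_cases hrq : r = q
    · exact Subgroup.mem_centralizer_iff.1 hz.2 x (hrq ▸ hx)
    · haveI := Fact.mk hr; haveI := Fact.mk (hpr q hq)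
      refine (Subgroup.mem_centralizer_iff.1 (le_centralizer_of_normalizes
        ((Subgroup.map_subtype_le _).trans (Subgroup.le_normalizer.trans (normalizes_opc r H)))
        ((Subgroup.map_subtype_le _).trans (Subgroup.le_normalizer.trans (normalizes_opc q H)))
        (disjoint_iff.1 (IsPGroup.disjoint_of_ne q r (Ne.symm hrq) _ _ (isPGroup_opc q H)
          (isPGroup_opc r H))) hz.1) x hx)
  have hZ1 : ∀ q ∈ π, Z q ≠ ⊥ := by
    intro q hq
    haveI := Fact.mk (hpr q hq)
    obtain ⟨z, hz, hz1⟩ := ((⊤ : Subgroup (opc q H)) ⊓ Subgroup.center (opc q H)).bot_or_exists_ne_one.resolve_left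
      (CfsgLib.Perm.inf_center_ne_bot (isPGroup_opc q H) ⊤ (by
        haveI : Nontrivial (opc q H) := (Subgroup.nontrivial_iff_ne_bot _).2 (hne q hq)
        exact top_ne_bot))
    intro e
    have : (z : G) ∈ Z q := ⟨z.2, Subgroup.mem_centralizer_iff.2 fun y hy =>
      congrArg Subtype.val (Subgroup.mem_center_iff.1 hz.2 ⟨y, hy⟩)⟩
    rw [e, Subgroup.mem_bot] at this
    exact hz1 (Subtype.ext this)
  have hHn : ∀ q, H ≤ Subgroup.normalizer (opc q H : Set G) := fun q =>
    Subgroup.le_normalizer.trans (normalizes_opc q H)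
  have hLn : ∀ q, L ≤ Subgroup.normalizer (opc q L : Set G) := fun q =>
    Subgroup.le_normalizer.trans (normalizes_opc q L)
  have h1 := step hG hH hL.1 hOL htwo Z hpr (fun q hq => (hZM' q hq).trans hML)
    (fun q _ => inf_le_left.trans (Subgroup.map_subtype_le _))
    (fun q _ => le_normalizer_inf_of_le (hHn q) ((hHn q).trans (Uniq.normalizer_centralizer _)))
    (fun q hq => haveI := Fact.mk (hpr q hq); (isPGroup_opc q H).to_le inf_le_left) hZ1
  have hneL : ∀ q ∈ π, opc q L ≠ ⊥ := fun q hq e => hZ1 q hq (le_bot_iff.1 (e ▸ (h1 q hq).1))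
  have h2 := step hG hL hH.1 hOH htwo (fun q => opc q L) hpr (fun q hq => (h1 q hq).2)
    (fun q _ => Subgroup.map_subtype_le _) (fun q _ => hLn q)
    (fun q hq => haveI := Fact.mk (hpr q hq); isPGroup_opc q L) hneL
  have h3 := step hG hH hL.1 hOL htwo (fun q => opc q H) hpr (fun q hq => (h2 q hq).2)
    (fun q _ => Subgroup.map_subtype_le _) (fun q _ => hHn q)
    (fun q hq => haveI := Fact.mk (hpr q hq); isPGroup_opc q H) hne
  obtain ⟨q, hq, -⟩ := Finset.one_lt_card.1 (show 1 < π.card by omega)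
  have he : opc q L = opc q H := le_antisymm (h2 q hq).1 (h3 q hq).1
  have e1 := Uniq.normalizer_eq hG hH (hne q hq)
    (fun e => hH.1 (top_le_iff.1 (e ▸ Subgroup.map_subtype_le _))) (hHn q)
  have e2 := Uniq.normalizer_eq hG hL (hneL q hq)
    (fun e => hL.1 (top_le_iff.1 (e ▸ Subgroup.map_subtype_le _))) (hLn q)
  rw [← e1, ← e2, he]

end CfsgLib.OddLocal.Bender
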