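import Cfsg.Agent.Fus.CoreBasic
import Cfsg.Agent.Solv.Basic
import Cfsg.Prelude.Def_OddOrderLocal

set_option autoImplicit false

/-! The largest normal nilpotent Hall subgroup, and first consequences of type-P data. -/

namespace CfsgLib.OddLocal

open Subgroup
open scoped Pointwise

variable {G : Type*} [Group G] [Finite G]

theorem commute_of_coprime_nilpotent {K : Type*} [Group K] [Finite K] [Group.IsNilpotent K] {a b : K}
    (h : (orderOf a).Coprime (orderOf b)) : Commute a b := by
  obtain ⟨e⟩ := ((Group.isNilpotent_of_finite_tfae (G := K)).out 0 4 rfl rfl).1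
    (inferInstance : Group.IsNilpotent K)
  have hab : Commute (e.symm a) (e.symm b) := by
    refine funext fun p => funext fun P => ?_
    haveI := Fact.mk (Nat.prime_of_mem_primeFactors p.2)
    set x := e.symm a p P
    set y := e.symm b p P
    have hx : orderOf x ∣ orderOf a := by
      refine orderOf_dvd_of_pow_eq_one ?_
      have := congrFun (congrFun (show (e.symm a) ^ orderOf a = 1 by
        rw [← map_pow, pow_orderOf_eq_one, map_one]) p) P
      simpa [x] using this
    have hy : orderOf y ∣ orderOf b := by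
      refine orderOf_dvd_of_pow_eq_one ?_
      have := congrFun (congrFun (show (e.symm b) ^ orderOf b = 1 by
        rw [← map_pow, pow_orderOf_eq_one, map_one]) p) P
      simpa [y] using this
    obtain ⟨i, hi⟩ := (IsPGroup.iff_orderOf.1 P.isPGroup') x
    obtain ⟨j, hj⟩ := (IsPGroup.iff_orderOf.1 P.isPGroup') y
    show x * y = y * x
    rcases Nat.eq_zero_or_pos i with hi0 | hi0
    · rw [hi0, pow_zero, orderOf_eq_one_iff] at hi
      simp [hi]
    rcases Nat.eq_zero_or_pos j with hj0 | hj0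
    · rw [hj0, pow_zero, orderOf_eq_one_iff] at hj
      simp [hj]
    exact absurd (Nat.Prime.not_coprime_iff_dvd.2 ⟨(p : ℕ), Fact.out,
      ((dvd_pow_self _ hi0.ne').trans (hi ▸ hx)), ((dvd_pow_self _ hj0.ne').trans (hj ▸ hy))⟩) (not_not.2 h)
  simpa using hab.map e.toMonoidHom

/-- In a nilpotent subgroup, subgroups of coprime orders centralize each other. -/
theorem le_centralizer_of_nilpotent {F A B : Subgroup G} (hF : Group.IsNilpotent F) (hA : A ≤ F)
    (hB : B ≤ F) (h : (Nat.card A).Coprime (Nat.card B)) : A ≤ centralizer (B : Set G) := by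
  haveI := hF
  intro a ha
  refine mem_centralizer_iff.2 fun b hb => ?_
  have := commute_of_coprime_nilpotent (K := F) (a := ⟨b, hB hb⟩) (b := ⟨a, hA ha⟩) (by
    rw [Subgroup.orderOf_mk, Subgroup.orderOf_mk]
    exact Nat.Coprime.of_dvd (Subgroup.orderOf_dvd_natCard B hb) (Subgroup.orderOf_dvd_natCard A ha) h.symm)
  exact congrArg Subtype.val this.eq

theorem fittingHall_nilpotent (M : Type*) [Group M] [Finite M] :
    Group.IsNilpotent (Cfsg.fittingHall M) := by
  have hle : Cfsg.fittingHall M ≤ Cfsg.fittingSubgroup M :=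
    sSup_le fun N hN => le_sSup ⟨hN.1, hN.2.1⟩
  haveI : Group.IsNilpotent (Cfsg.fittingSubgroup M) := CfsgLib.Solv.fittingSubgroup_isNilpotent
  exact Group.nilpotent_of_mulEquiv (subgroupOfEquivOfLe hle)

theorem fittingHall_coprime (M : Type*) [Group M] [Finite M] :
    (Nat.card (Cfsg.fittingHall M)).Coprime (Cfsg.fittingHall M).index := by
  refine Nat.coprime_of_dvd fun p hp hpc hpi => ?_
  have hle : Cfsg.fittingHall M ≤ Cfsg.pPrimeCore p M := by
    refine sSup_le fun N hN => CfsgLib.Fus.le_pPrimeCore hN.1 ?_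
    have h1 : p ∣ N.index := hpi.trans (Subgroup.index_dvd_of_le (le_sSup hN))
    exact hN.2.2.coprime_dvd_right h1
  have := (CfsgLib.Fus.coprime_card_pPrimeCore (G := M) p).coprime_dvd_left
    (hpc.trans (Subgroup.card_dvd_of_le hle))
  rw [Nat.coprime_self] at this
  exact hp.ne_one this

theorem le_fittingHall {M : Type*} [Group M] [Finite M] {N : Subgroup M} (hn : N.Normal)
    (hN : Group.IsNilpotent N) (hc : (Nat.card N).Coprime N.index) : N ≤ Cfsg.fittingHall M :=
  le_sSup ⟨hn, hN, hc⟩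

omit [Finite G] in
theorem fittingHallOf_le (M : Subgroup G) : Cfsg.fittingHallOf M ≤ M := map_subtype_le _

theorem fittingHallOf_coprime (M : Subgroup G) :
    (Nat.card (Cfsg.fittingHallOf M)).Coprime ((Cfsg.fittingHallOf M).relIndex M) := by
  have h1 : Nat.card (Cfsg.fittingHallOf M) = Nat.card (Cfsg.fittingHall M) :=
    Subgroup.card_map_of_injective M.subtype_injective
  have h2 : (Cfsg.fittingHallOf M).relIndex M = (Cfsg.fittingHall M).index := by
    rw [Subgroup.relIndex, Cfsg.fittingHallOf, subgroupOf,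
      comap_map_eq_self_of_injective M.subtype_injective]
  rw [h1, h2]
  exact fittingHall_coprime _

theorem fittingOf_nilpotent (M : Subgroup G) : Group.IsNilpotent (Cfsg.fittingOf M) :=
  haveI : Group.IsNilpotent (Cfsg.fittingSubgroup M) := CfsgLib.Solv.fittingSubgroup_isNilpotent
  Group.nilpotent_of_mulEquiv (equivMapOfInjective _ M.subtype M.subtype_injective)

theorem card_eq_mul_of_isComplIn {A B M : Subgroup G} (h : Cfsg.IsComplIn A B M) :
    Nat.card M = Nat.card A * Nat.card B := by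
  obtain ⟨hA, hB, hi, hprod⟩ := h
  rw [← Nat.card_prod]
  refine (Nat.card_congr (Equiv.ofBijective (fun x : A × B => (⟨x.1.1 * x.2.1, mul_mem (hA x.1.2) (hB x.2.2)⟩ : M))
    ⟨?_, ?_⟩)).symm
  · rintro ⟨⟨a, ha⟩, ⟨b, hb⟩⟩ ⟨⟨a', ha'⟩, ⟨b', hb'⟩⟩ he
    have he' : a * b = a' * b' := congrArg Subtype.val he
    have hm : a'⁻¹ * a ∈ A ⊓ B :=
      ⟨A.mul_mem (A.inv_mem ha') ha, by
        rw [show a'⁻¹ * a = b' * b⁻¹ by
          rw [eq_mul_inv_iff_mul_eq, mul_assoc, he', inv_mul_cancel_left]]
        exact B.mul_mem hb' (B.inv_mem hb)⟩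
    rw [hi, mem_bot, inv_mul_eq_one] at hm
    subst hm
    simpa using he'
  · rintro ⟨m, hm⟩
    obtain ⟨a, ha, b, hb, rfl⟩ := hprod m hm
    exact ⟨(⟨a, ha⟩, ⟨b, hb⟩), rfl⟩

omit [Finite G] in
theorem eq_of_card_eq_of_cyclic [Finite G] {A B W : Subgroup G} (hW : IsCyclic W) (hA : A ≤ W) (hB : B ≤ W)
    (h : Nat.card A = Nat.card B) : A = B := by
  haveI := hW
  let _ : CommGroup W := hW.commGroup
  have key : ∀ C : Subgroup G, C ≤ W → Nat.card C = Nat.card A →
      C.subgroupOf W = (powMonoidHom (Nat.card A) : W →* W).ker := by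
    intro C hC hc
    refine eq_of_le_of_card_ge (fun x hx => ?_) (le_of_eq ?_)
    · refine (MonoidHom.mem_ker).2 (Subtype.ext ?_)
      rw [← hc, powMonoidHom_apply, SubmonoidClass.coe_pow]
      exact congrArg Subtype.val (pow_card_eq_one' (G := C) (x := ⟨x.1, hx⟩))
    · rw [IsCyclic.card_powMonoidHom_ker, Nat.card_congr (subgroupOfEquivOfLe hC).toEquiv, hc]
      exact Nat.gcd_eq_right (Subgroup.card_dvd_of_le hA)
  have := (key A hA rfl).trans (key B hB h.symm).symm
  have h' := congrArg (Subgroup.map W.subtype) this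
  rwa [subgroupOf_map_subtype, subgroupOf_map_subtype, inf_eq_left.2 hA, inf_eq_left.2 hB] at h'

theorem isComplIn_sup {A B : Subgroup G} (hi : A ⊓ B = ⊥) (hc : ∀ a ∈ A, ∀ b ∈ B, a * b = b * a) :
    Cfsg.IsComplIn A B (A ⊔ B) := by
  refine ⟨le_sup_left, le_sup_right, hi, fun m hm => ?_⟩
  have hn : A ≤ normalizer (B : Set G) := fun a ha =>
    centralizer_le_normalizer _ (mem_centralizer_iff.2 fun b hb => (hc a ha b hb).symm)
  have hcoe := Subgroup.coe_mul_of_left_le_normalizer_right A B hn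
  obtain ⟨a, ha, b, hb, he⟩ := (hcoe ▸ hm : m ∈ (↑A : Set G) * ↑B)
  exact ⟨a, ha, b, hb, he.symm⟩

variable {M W₁ U W₂ : Subgroup G}

theorem coprime_H_U (hP : Cfsg.IsTypePWith M W₁ U W₂) :
    (Nat.card (Cfsg.fittingHallOf M)).Coprime (Nat.card U) := by
  refine (fittingHallOf_coprime M).coprime_dvd_right ?_
  have h1 := card_eq_mul_of_isComplIn hP.U_compl
  have h2 := card_eq_mul_of_isComplIn hP.W₁_compl
  have h3 : Nat.card (Cfsg.fittingHallOf M) * (Cfsg.fittingHallOf M).relIndex M = Nat.card M := by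
    rw [Subgroup.relIndex, ← Nat.card_congr (subgroupOfEquivOfLe (fittingHallOf_le M)).toEquiv,
      card_mul_index]
  rw [h2, h1, mul_assoc] at h3
  exact ⟨_, mul_left_cancel₀ Nat.card_pos.ne' h3⟩

theorem inf_fitting_le_centralizer (hP : Cfsg.IsTypePWith M W₁ U W₂) :
    U ⊓ Cfsg.fittingOf M ≤ centralizer (Cfsg.fittingHallOf M : Set G) := by
  refine le_centralizer_of_nilpotent (fittingOf_nilpotent M) inf_le_right ?_
    ((coprime_H_U hP).symm.coprime_dvd_left (Subgroup.card_dvd_of_le inf_le_left))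
  rw [← hP.fitting_eq]
  exact le_sup_left

end CfsgLib.OddLocal
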