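import Cfsg.Agent.S1477
import Cfsg.Agent.OddLocal.TypeP
import Cfsg.Agent.Solv.FixedPointFree
import Cfsg.Agent.Solv.FrobeniusFpf
import Cfsg.Agent.Solv.UniqueSub
import Cfsg.Agent.Solv.Schur
import Cfsg.Agent.Solv.FittingBasic
import Cfsg.Agent.Solv.WielandtLocal
import Cfsg.Agent.Inv.FStarAction
import Mathlib.GroupTheory.SpecificGroups.ZGroup
import Mathlib.GroupTheory.SchurZassenhaus

set_option autoImplicit false
set_option linter.style.haveILetI false
set_option linter.deprecated false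

/-! The structure of groups in which centralizers of nontrivial elements are nilpotent:
Frobenius groups and three step groups. -/

namespace CfsgLib.OddLocal.CN

universe u

open Subgroup Cfsg.Agent.S1473 Cfsg.Agent.S1477

variable {G : Type u} [Group G] [Finite G]

omit [Finite G] in
theorem cn_subgroup (hCN : Cfsg.IsCNGroup G) (E : Subgroup G) : Cfsg.IsCNGroup E := by
  intro g hg
  haveI := hCN (g : G) (fun h => hg (Subtype.ext h))
  let φ : centralizer ({g} : Set E) →* centralizer ({(g : G)} : Set G) :=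
    (E.subtype.comp (centralizer ({g} : Set E)).subtype).codRestrict (centralizer ({(g : G)} : Set G))
      fun x => mem_centralizer_singleton_iff.2
        (congrArg Subtype.val (mem_centralizer_singleton_iff.1 x.2))
  have hinj : Function.Injective φ := fun a b h => by
    have h' := congrArg Subtype.val h
    exact Subtype.ext (Subtype.ext h')
  exact Subgroup.isNilpotent_of_ker_le_center φ ((φ.ker_eq_bot_iff.2 hinj).le.trans bot_le)

/-! ### Elements of order prime to `p` -/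

section PPrime

variable {p : ℕ} [Fact p.Prime] {F : Subgroup G}

theorem eq_one_of_commute (hCN : Cfsg.IsCNGroup G) (hFp : IsPGroup p F)
    (hC : centralizer (F : Set G) ≤ F) {a f : G} (ha : (orderOf a).Coprime p) (hf : f ∈ F)
    (hf1 : f ≠ 1) (hc : Commute a f) : a = 1 := by
  haveI : Nontrivial F := ⟨⟨⟨f, hf⟩, 1, fun h => hf1 (congrArg Subtype.val h)⟩⟩
  haveI := hFp.center_nontrivial
  obtain ⟨⟨z, hz⟩, hz1⟩ := exists_ne (1 : center F)
  have hz1' : (z : G) ≠ 1 := fun h => hz1 (Subtype.ext (Subtype.ext h))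
  have hzc : ∀ g ∈ F, Commute g (z : G) := fun g hg =>
    congrArg Subtype.val (mem_center_iff.1 hz ⟨g, hg⟩)
  have hpow : ∀ g ∈ F, ∃ k : ℕ, orderOf g = p ^ k := fun g hg => by
    simpa only [Subgroup.orderOf_mk] using IsPGroup.iff_orderOf.1 hFp ⟨g, hg⟩
  have hza : Commute (z : G) a :=
    commute_in_centralizer hCN (z := f) hf1 (hzc f hf).symm hc (hpow _ z.2) ha
  have haF : a ∈ F := hC (mem_centralizer_iff.2 fun g hg =>
    (commute_in_centralizer hCN (z := (z : G)) hz1' (hzc g hg) hza.symm (hpow g hg) ha).eq)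
  obtain ⟨k, hk⟩ := hpow a haF
  rw [← orderOf_eq_one_iff, hk]
  rcases Nat.eq_zero_or_pos k with h0 | h0
  · rw [h0, pow_zero]
  · rw [hk, Nat.coprime_pow_left_iff h0, Nat.coprime_self] at ha
    exact absurd ha (Fact.out : p.Prime).ne_one

theorem fpf_of_coprime (hCN : Cfsg.IsCNGroup G) (hFp : IsPGroup p F)
    (hC : centralizer (F : Set G) ≤ F) {E : Subgroup G} (hE : (Nat.card E).Coprime p) :
    ∀ a ∈ E, a ≠ 1 → F ⊓ centralizer {a} = ⊥ := by
  intro a ha ha1
  rw [eq_bot_iff]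
  intro f hf
  by_contra hf1
  exact ha1 (eq_one_of_commute hCN hFp hC (hE.coprime_dvd_left (orderOf_dvd_natCard E ha))
    hf.1 (fun h => hf1 (mem_bot.2 h)) (mem_centralizer_singleton_iff.1 hf.2).symm)

end PPrime

/-! ### Fixed point free groups of operators -/

section Fpf

open scoped Pointwise in
theorem compl_zpowers {x u : G} {p : ℕ} (hp : p.Prime) (hxo : orderOf x = p) (hxu : x ∉ zpowers u)
    (hn : x * u * x⁻¹ ∈ zpowers u) :
    Cfsg.IsComplIn (zpowers u) (zpowers x) (zpowers u ⊔ zpowers x) := by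
  have hinf : zpowers u ⊓ zpowers x = ⊥ := by
    rw [← card_eq_one]
    have hd : Nat.card (zpowers u ⊓ zpowers x : Subgroup G) ∣ p := by
      rw [← hxo, ← Nat.card_zpowers]; exact card_dvd_of_le inf_le_right
    refine ((Nat.dvd_prime hp).1 hd).resolve_right fun h => hxu ?_
    have he := eq_of_le_of_card_ge (inf_le_right : zpowers u ⊓ zpowers x ≤ zpowers x)
      (by rw [h, Nat.card_zpowers, hxo])
    exact (inf_le_left : zpowers u ⊓ zpowers x ≤ zpowers u) (by rw [he]; exact mem_zpowers x)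
  have hnor : zpowers x ≤ normalizer (zpowers u : Set G) := by
    rw [zpowers_le]
    refine mem_normalizer_fintype fun n hn' => ?_
    obtain ⟨i, rfl⟩ := mem_zpowers_iff.1 hn'
    rw [← conj_zpow]
    exact zpow_mem hn i
  refine ⟨le_sup_left, le_sup_right, hinf, fun m hm => ?_⟩
  rw [← SetLike.mem_coe, Subgroup.coe_mul_of_right_le_normalizer_left (zpowers u) (zpowers x) hnor] at hm
  obtain ⟨a, ha, b, hb, he⟩ := Set.mem_mul.1 hm
  exact ⟨a, ha, b, hb, he.symm⟩

variable {E V : Subgroup G}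

theorem prime_commute [IsMulCommutative V] (hV : V ≠ ⊥) (hEV : E ≤ normalizer (V : Set G))
    (hfpf : ∀ e ∈ E, e ≠ 1 → V ⊓ centralizer {e} = ⊥) {x u : G} (hx : x ∈ E) (hu : u ∈ E)
    {p q : ℕ} (hp : p.Prime) (hq : q.Prime) (hxo : orderOf x = p) (huo : orderOf u = q)
    (hn : x * u * x⁻¹ ∈ zpowers u) : Commute x u ∧ (p = q → x ∈ zpowers u) := by
  by_cases hxu : x ∈ zpowers u
  · obtain ⟨i, rfl⟩ := mem_zpowers_iff.1 hxu
    exact ⟨(Commute.refl u).zpow_left i, fun _ => hxu⟩
  set B := zpowers u ⊔ zpowers x with hB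
  have hcomp : Cfsg.IsComplIn (zpowers u) (zpowers x) B := compl_zpowers hp hxo hxu hn
  have hBE : B ≤ E := sup_le (zpowers_le.2 hu) (zpowers_le.2 hx)
  have hcard : Nat.card B = q * p := by
    rw [card_eq_mul_of_isComplIn hcomp, Nat.card_zpowers, Nat.card_zpowers, huo, hxo]
  have hcyc : IsCyclic B := CfsgLib.Solv.isCyclic_of_fpf_card_eq_mul hV (hBE.trans hEV)
    (fun e he => hfpf e (hBE he)) hq hp hcard
  refine ⟨congrArg Subtype.val (hcyc.commGroup.mul_comm ⟨x, le_sup_right (a := zpowers u) (mem_zpowers x)⟩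
    ⟨u, le_sup_left (b := zpowers x) (mem_zpowers u)⟩), fun hpq => ?_⟩
  rw [eq_of_card_eq_of_cyclic hcyc (A := zpowers u) (B := zpowers x) le_sup_left le_sup_right
    (by rw [Nat.card_zpowers, Nat.card_zpowers, huo, hxo, hpq])]
  exact mem_zpowers x

theorem unique_in_pgroup [IsMulCommutative V] (hV : V ≠ ⊥) (hEV : E ≤ normalizer (V : Set G))
    (hfpf : ∀ e ∈ E, e ≠ 1 → V ⊓ centralizer {e} = ⊥) {r : ℕ} [hr : Fact r.Prime]
    {R : Subgroup G} (hRE : R ≤ E) (hR : IsPGroup r R) (x y : R) (hx : orderOf x = r)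
    (hy : orderOf y = r) : y ∈ zpowers x := by
  haveI : Nontrivial R := ⟨⟨x, 1, fun h => hr.out.ne_one (by rw [← hx, h, orderOf_one])⟩⟩
  haveI := hR.center_nontrivial
  obtain ⟨n, hn⟩ := (hR.to_subgroup (center R)).exists_card_eq
  have hd : r ∣ Nat.card (center R) := by
    rw [hn]
    refine dvd_pow_self r fun h0 => ?_
    rw [h0, pow_zero] at hn
    exact (not_subsingleton (center R)) (Nat.card_eq_one_iff_unique.1 hn).1
  obtain ⟨z, hz⟩ := exists_prime_orderOf_dvd_card' r hd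
  have key : ∀ w : R, orderOf w = r → zpowers (w : G) = zpowers ((z : R) : G) := by
    intro w hw
    have hc : (w : G) * (z : R) = (z : R) * w := congrArg Subtype.val (mem_center_iff.1 z.2 w)
    have h := (prime_commute hV hEV hfpf (hRE w.2) (hRE (z : R).2) hr.out hr.out
      (by rw [Subgroup.orderOf_coe, hw]) (by rw [Subgroup.orderOf_coe, Subgroup.orderOf_coe, hz])
      (by rw [hc, mul_inv_cancel_right]; exact mem_zpowers _)).2 rfl
    exact eq_of_le_of_card_ge (zpowers_le.2 h)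
      (by simp only [Nat.card_zpowers, Subgroup.orderOf_coe]; rw [hw, hz])
  have h : (y : G) ∈ zpowers (x : G) := by rw [key x hx, ← key y hy]; exact mem_zpowers _
  obtain ⟨i, hi⟩ := mem_zpowers_iff.1 h
  exact mem_zpowers_iff.2 ⟨i, Subtype.ext (by simpa using hi)⟩

theorem sylow_structure [IsMulCommutative V] (hV : V ≠ ⊥) (hEV : E ≤ normalizer (V : Set G))
    (hfpf : ∀ e ∈ E, e ≠ 1 → V ⊓ centralizer {e} = ⊥) {r : ℕ} [Fact r.Prime] (P : Sylow r E) :
    IsCyclic P ∨ (r = 2 ∧ ∃ n : ℕ, Nonempty ((P : Subgroup E) ≃* QuaternionGroup (2 ^ (n + 1)))) := by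
  have hP := P.isPGroup'.map E.subtype
  have e := (P : Subgroup E).equivMapOfInjective E.subtype E.subtype_injective
  rcases CfsgLib.Solv.pgroup_unique_sub hP
      (unique_in_pgroup hV hEV hfpf (map_subtype_le _) hP) with h | ⟨h2, n, ⟨φ⟩⟩
  · exact Or.inl (isCyclic_of_surjective e.symm.toMonoidHom e.symm.surjective)
  · exact Or.inr ⟨h2, n, ⟨e.trans φ⟩⟩

theorem zgroup_of_odd [IsMulCommutative V] (hV : V ≠ ⊥) (hEV : E ≤ normalizer (V : Set G))
    (hfpf : ∀ e ∈ E, e ≠ 1 → V ⊓ centralizer {e} = ⊥) (hodd : Odd (Nat.card E)) : IsZGroup E := by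
  refine ⟨fun r hr P => ?_⟩
  haveI := Fact.mk hr
  rcases sylow_structure hV hEV hfpf P with h | ⟨h2, n, ⟨φ⟩⟩
  · exact h
  · subst h2
    have hd : 2 ∣ Nat.card E := by
      refine dvd_trans ?_ (card_subgroup_dvd_card (P : Subgroup E))
      rw [Nat.card_congr φ.toEquiv, Nat.card_eq_fintype_card, QuaternionGroup.card]
      exact dvd_mul_of_dvd_left (by norm_num) _
    exact absurd (even_iff_two_dvd.2 hd) (Nat.not_even_iff_odd.2 hodd)

theorem nilpotent_fpf (hCN : Cfsg.IsCNGroup G) [V.Normal] [IsMulCommutative V] (hV : V ≠ ⊥)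
    (hfpf : ∀ e ∈ E, e ≠ 1 → V ⊓ centralizer {e} = ⊥) : Group.IsNilpotent E := by
  have hEV : E ≤ normalizer (V : Set G) := by rw [normalizer_eq_top]; exact le_top
  by_cases heven : 2 ∣ Nat.card E
  · obtain ⟨⟨s, hsE, hso, huniq, -⟩, -⟩ := CfsgLib.Solv.frobenius_involution hV hfpf heven
    have hs1 : s ≠ 1 := fun h => by rw [h, orderOf_one] at hso; exact absurd hso (by decide)
    refine nilp_of_le (fun e he => mem_centralizer_singleton_iff.2 ?_) (hCN s hs1)
    have h := huniq (e * s * e⁻¹) (E.mul_mem (E.mul_mem he hsE) (E.inv_mem he)) (by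
      rw [← hso]
      exact (MulAut.conj e).orderOf_eq s)
    exact mul_inv_eq_iff_eq_mul.1 h
  haveI := zgroup_of_odd hV hEV hfpf
    (Nat.not_even_iff_odd.1 fun h => heven (even_iff_two_dvd.1 h))
  rcases subsingleton_or_nontrivial E with hs | hnt
  · infer_instance
  have hCE := cn_subgroup hCN E
  set F := Cfsg.fittingSubgroup E with hF
  haveI : F.Normal := CfsgLib.Solv.fittingSubgroup_normal E
  haveI hFn : Group.IsNilpotent F := CfsgLib.Solv.fittingSubgroup_isNilpotent
  have hcomm : ∀ (x u : E) {p q : ℕ}, p.Prime → q.Prime → orderOf x = p → orderOf u = q →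
      x * u * x⁻¹ ∈ zpowers u → Commute x u ∧ (p = q → x ∈ zpowers u) := by
    intro x u p q hp hq hx hu hn
    obtain ⟨i, hi⟩ := mem_zpowers_iff.1 hn
    obtain ⟨h1, h2⟩ := prime_commute hV hEV hfpf x.2 u.2 hp hq (by rw [Subgroup.orderOf_coe, hx])
      (by rw [Subgroup.orderOf_coe, hu]) (mem_zpowers_iff.2 ⟨i, by simpa using congrArg Subtype.val hi⟩)
    refine ⟨Subtype.ext h1.eq, fun hpq => ?_⟩
    obtain ⟨j, hj⟩ := mem_zpowers_iff.1 (h2 hpq)
    exact mem_zpowers_iff.2 ⟨j, Subtype.ext (by simpa using hj)⟩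
  -- a prime divisor of the Fitting subgroup gives an element with centralizer equal to it
  have key : ∀ q : ℕ, q.Prime → q ∣ Nat.card F → ∃ u ∈ F, orderOf u = q ∧
      centralizer ({u} : Set E) ≤ F ∧ (∀ e : E, e * u * e⁻¹ ∈ zpowers u) ∧
      ∀ x ∈ F, orderOf x = q → x ∈ zpowers u := by
    intro q hq hqd
    haveI := Fact.mk hq
    obtain ⟨z, hzF, hz1, ⟨k, hk⟩, hzc⟩ := exists_central hFn hqd
    have hk0 : k ≠ 0 := fun h => hz1 (by rwa [h, pow_zero, orderOf_eq_one_iff] at hk)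
    set u := z ^ (q ^ (k - 1))
    have huo : orderOf u = q := by
      rw [orderOf_pow' _ (pow_ne_zero _ hq.ne_zero), hk,
        Nat.gcd_eq_right (pow_dvd_pow q (Nat.sub_le k 1)), Nat.pow_div (Nat.sub_le k 1) hq.pos,
        show k - (k - 1) = 1 by omega, pow_one]
    have huF : u ∈ F := pow_mem hzF _
    have huc : ∀ h ∈ F, Commute h u := fun h hh => (hzc h hh).pow_right _
    have huniq : ∀ x ∈ F, orderOf x = q → x ∈ zpowers u := fun x hx hxo =>
      (hcomm x u hq hq hxo huo (by rw [(huc x hx).eq, mul_inv_cancel_right]; exact mem_zpowers u)).2 rfl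
    have hconj : ∀ e : E, e * u * e⁻¹ ∈ zpowers u := fun e =>
      huniq _ (Normal.conj_mem inferInstance u huF e) (by
        rw [← huo]; exact (MulAut.conj e).orderOf_eq u)
    haveI : (zpowers u).Normal := ⟨fun n hn e => by
      obtain ⟨i, rfl⟩ := mem_zpowers_iff.1 hn
      rw [← conj_zpow]; exact zpow_mem (hconj e) i⟩
    have hu1 : u ≠ 1 := fun h => hq.ne_one (by rw [← huo, h, orderOf_one])
    have hle : centralizer (zpowers u : Set E) = centralizer ({u} : Set E) := by
      rw [zpowers_eq_closure, centralizer_closure]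
    haveI : (centralizer ({u} : Set E)).Normal := hle ▸ (inferInstance : (centralizer (zpowers u : Set E)).Normal)
    exact ⟨u, huF, huo, CfsgLib.Solv.le_fittingSubgroup (hCE u hu1), hconj, huniq⟩
  have hF1 : Nat.card F ≠ 1 := by
    intro h
    have hb : F = ⊥ := card_eq_one.1 h
    have := CfsgLib.Solv.centralizer_fittingSubgroup_le (G := E)
    rw [← hF, hb] at this
    obtain ⟨a, ha⟩ := exists_ne (1 : E)
    exact ha (mem_bot.1 (this (mem_centralizer_iff.2 fun m hm => by
      rw [SetLike.mem_coe, mem_bot] at hm; rw [hm, one_mul, mul_one])))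
  obtain ⟨q₀, hq₀, hq₀F⟩ := Nat.exists_prime_and_dvd hF1
  have hprime : ∀ (x : E) (p : ℕ), p.Prime → orderOf x = p → x ∈ F := by
    intro x p hp hx
    obtain ⟨u, -, huo, huC, hconj, -⟩ := key q₀ hq₀ hq₀F
    exact huC (mem_centralizer_singleton_iff.2 (hcomm x u hp hq₀ hx huo (hconj x)).1.eq)
  suffices (⊤ : Subgroup E) ≤ F by
    haveI : Group.IsNilpotent (⊤ : Subgroup E) := nilp_of_le this hFn
    exact Group.nilpotent_of_mulEquiv topEquiv
  refine le_of_prime_power_elements _ _ fun l hl s _ ⟨k, hk⟩ => ?_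
  rcases Nat.eq_zero_or_pos k with h0 | h0
  · rw [h0, pow_zero, orderOf_eq_one_iff] at hk; rw [hk]; exact F.one_mem
  set x := s ^ (l ^ (k - 1))
  have hxo : orderOf x = l := by
    rw [orderOf_pow' _ (pow_ne_zero _ hl.ne_zero), hk,
      Nat.gcd_eq_right (pow_dvd_pow l (Nat.sub_le k 1)), Nat.pow_div (Nat.sub_le k 1) hl.pos,
      show k - (k - 1) = 1 by omega, pow_one]
  have hxF := hprime x l hl hxo
  obtain ⟨u, -, huo, huC, -, huniq⟩ := key l hl (hxo ▸ orderOf_dvd_natCard F hxF)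
  refine huC (mem_centralizer_singleton_iff.2 ?_)
  have : zpowers u = zpowers x := (eq_of_le_of_card_ge (zpowers_le.2 (huniq x hxF hxo))
    (by rw [Nat.card_zpowers, Nat.card_zpowers, huo, hxo])).symm
  obtain ⟨i, hi⟩ := mem_zpowers_iff.1 (this ▸ mem_zpowers u : u ∈ zpowers x)
  rw [← hi]
  exact (((Commute.refl s).pow_right _).zpow_right i).eq

theorem structure_fpf (hCN : Cfsg.IsCNGroup G) [V.Normal] [IsMulCommutative V] (hV : V ≠ ⊥)
    (hfpf : ∀ e ∈ E, e ≠ 1 → V ⊓ centralizer {e} = ⊥) :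
    IsCyclic E ∨ ∃ C Q : Subgroup G, C ⊔ Q = E ∧ (∀ a ∈ C, ∀ b ∈ Q, a * b = b * a) ∧ IsCyclic C ∧
      Odd (Nat.card C) ∧ ∃ n : ℕ, Nonempty (↥Q ≃* QuaternionGroup (2 ^ n)) := by
  have hEV : E ≤ normalizer (V : Set G) := by rw [normalizer_eq_top]; exact le_top
  haveI hnil := nilpotent_fpf hCN hV hfpf
  haveI := Fact.mk Nat.prime_two
  obtain ⟨P⟩ : Nonempty (Sylow 2 E) := inferInstance
  rcases sylow_structure hV hEV hfpf P with hc | ⟨-, n, ⟨φ⟩⟩
  · left
    haveI : IsZGroup E := ⟨fun r hr R => by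
      haveI := Fact.mk hr
      rcases sylow_structure hV hEV hfpf R with h | ⟨rfl, -⟩
      · exact h
      · obtain ⟨g, hg⟩ := MulAction.exists_smul_eq E P R
        rw [← hg]
        exact isCyclic_of_surjective (P.equivSMul g).toMonoidHom (P.equivSMul g).surjective⟩
    infer_instance
  right
  haveI hPn : (P : Subgroup E).Normal :=
    ((Group.isNilpotent_of_finite_tfae (G := E)).out 0 3 rfl rfl).1 hnil 2 inferInstance P
  obtain ⟨C₀, hC₀⟩ := exists_left_complement'_of_coprime P.card_coprime_index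
  have hc2 : (Nat.card C₀).Coprime (Nat.card (P : Subgroup E)) := by
    rw [← hC₀.index_eq_card]; exact P.card_coprime_index.symm
  have hCodd : Odd (Nat.card C₀) := by
    have h2 : 2 ∣ Nat.card (P : Subgroup E) := by
      rw [Nat.card_congr φ.toEquiv, Nat.card_eq_fintype_card, QuaternionGroup.card]
      exact dvd_mul_of_dvd_left (by norm_num) _
    exact Nat.Coprime.odd_of_right (hc2.coprime_dvd_right h2)
  refine ⟨C₀.map E.subtype, (P : Subgroup E).map E.subtype, ?_, ?_, ?_, ?_, n + 1, ?_⟩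
  · rw [← Subgroup.map_sup, hC₀.sup_eq_top, ← MonoidHom.range_eq_map, range_subtype]
  · rintro _ ⟨a, ha, rfl⟩ _ ⟨b, hb, rfl⟩
    exact congrArg E.subtype (commute_of_coprime_nilpotent (K := E) (a := a) (b := b)
      ((hc2.coprime_dvd_left (orderOf_dvd_natCard C₀ ha)).coprime_dvd_right
        (orderOf_dvd_natCard (P : Subgroup E) hb))).eq
  · haveI : IsZGroup C₀ := ⟨fun r hr R => by
      haveI := Fact.mk hr
      haveI := zgroup_of_odd (E := C₀.map E.subtype) hV ((map_subtype_le _).trans hEV)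
        (fun e he => hfpf e (map_subtype_le _ he))
        (by rwa [Subgroup.card_map_of_injective E.subtype_injective])
      have e := C₀.equivMapOfInjective E.subtype E.subtype_injective
      haveI : IsZGroup C₀ := IsZGroup.of_injective (f := e.toMonoidHom) e.injective
      infer_instance⟩
    haveI : Group.IsNilpotent C₀ := Subgroup.isNilpotent C₀
    exact isCyclic_of_surjective (C₀.equivMapOfInjective E.subtype E.subtype_injective).toMonoidHom
      (MulEquiv.surjective _)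
  · rwa [Subgroup.card_map_of_injective E.subtype_injective]
  · exact ⟨((P : Subgroup E).equivMapOfInjective E.subtype E.subtype_injective).symm.trans φ⟩

end Fpf

/-! ### The Fitting subgroup -/

theorem hall_of_not_isPrimePow (hCN : Cfsg.IsCNGroup G)
    (hnp : ¬ IsPrimePow (Nat.card (Cfsg.fittingSubgroup G))) (hne : Cfsg.fittingSubgroup G ≠ ⊥) :
    (Nat.card (Cfsg.fittingSubgroup G)).Coprime (Cfsg.fittingSubgroup G).index ∧
      ∀ x ∈ Cfsg.fittingSubgroup G, x ≠ 1 →
        centralizer ({x} : Set G) ≤ Cfsg.fittingSubgroup G := by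
  set F := Cfsg.fittingSubgroup G with hF
  haveI : F.Normal := CfsgLib.Solv.fittingSubgroup_normal G
  have hFn : Group.IsNilpotent F := CfsgLib.Solv.fittingSubgroup_isNilpotent
  have hne1 : Nat.card F ≠ 1 := fun h => hne (card_eq_one.1 h)
  have hmax : ∀ L : Subgroup G, Group.IsNilpotent L → F ≤ L → L = F := by
    intro L hL hFL
    refine le_antisymm (le_of_prime_power_elements _ _ fun l hl c hcL ⟨j, hj⟩ => ?_) hFL
    obtain ⟨q, hq, hqF, hql⟩ : ∃ q, q.Prime ∧ q ∣ Nat.card F ∧ q ≠ l := by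
      obtain ⟨r, hr, hrF⟩ := Nat.exists_prime_and_dvd hne1
      by_contra hcon
      simp only [not_exists, not_and, not_not] at hcon
      exact hnp (isPrimePow_iff_unique_prime_dvd.2 ⟨r, ⟨hr, hrF⟩, fun s hs =>
        (hcon s hs.1 hs.2).trans (hcon r hr hrF).symm⟩)
    haveI := Fact.mk hq
    haveI := CfsgLib.Solv.pCore_normal G q
    obtain ⟨z, hzF, hz1, ⟨k, hk⟩, -⟩ := exists_central hFn hqF
    have hzc : z ∈ Cfsg.pCore q G :=
      CfsgLib.Solv.mem_pCore_of_mem_fitting hzF (by rw [← hk]; exact pow_orderOf_eq_one z)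
    have hqF' : Cfsg.pCore q G ≤ F := CfsgLib.Solv.pCore_le_fittingSubgroup
    haveI hCn : (centralizer (Cfsg.pCore q G : Set G)).Normal := inferInstance
    have hCnil : Group.IsNilpotent (centralizer (Cfsg.pCore q G : Set G)) :=
      nilp_of_le (fun x hx => mem_centralizer_singleton_iff.2 (mem_centralizer_iff.1 hx z hzc).symm)
        (hCN z hz1)
    refine CfsgLib.Solv.le_fittingSubgroup hCnil (mem_centralizer_iff.2 fun w hw => ?_)
    haveI := hL
    obtain ⟨i, hi⟩ := IsPGroup.iff_orderOf.1 (CfsgLib.Solv.pCore_isPGroup G q) ⟨w, hw⟩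
    rw [Subgroup.orderOf_mk] at hi
    have h := commute_of_coprime_nilpotent (K := L) (a := ⟨w, hFL (hqF' hw)⟩) (b := ⟨c, hcL⟩)
      (by rw [Subgroup.orderOf_mk, Subgroup.orderOf_mk, hi, hj]
          exact Nat.Coprime.pow _ _ ((Nat.coprime_primes hq hl).2 hql))
    exact congrArg Subtype.val h.eq
  exact ⟨hall hCN hFn hmax, fun x hx hx1 => centralizer_le hCN hFn hmax hnp hne1 hx hx1⟩

theorem hall_of_sylow (hCN : Cfsg.IsCNGroup G) {p : ℕ} [Fact p.Prime] {F : Subgroup G} [F.Normal]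
    (hFp : IsPGroup p F) (hC : centralizer (F : Set G) ≤ F) (hidx : ¬ p ∣ F.index) :
    (Nat.card F).Coprime F.index ∧ ∀ x ∈ F, x ≠ 1 → centralizer ({x} : Set G) ≤ F := by
  obtain ⟨n, hn⟩ := hFp.exists_card_eq
  refine ⟨by rw [hn]; exact ((Fact.out : p.Prime).coprime_iff_not_dvd.2 hidx).pow_left n,
    fun x hx hx1 => le_of_prime_power_elements _ _ fun l hl c hc ⟨j, hj⟩ => ?_⟩
  by_cases hlp : l = p
  · subst hlp
    rw [← QuotientGroup.eq_one_iff, ← orderOf_eq_one_iff]
    exact Nat.eq_one_of_dvd_coprimes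
      (((Fact.out : l.Prime).coprime_iff_not_dvd.2 hidx).pow_left j)
      (hj ▸ orderOf_map_dvd (QuotientGroup.mk' F) c) (index_eq_card F ▸ orderOf_dvd_natCard _)
  · have h := eq_one_of_commute hCN hFp hC
      (by rw [hj]; exact ((Nat.coprime_primes hl Fact.out).2 hlp).pow_left j) hx hx1
      (mem_centralizer_singleton_iff.1 hc)
    rw [h]; exact F.one_mem

theorem frobenius_case (hCN : Cfsg.IsCNGroup G) (hnn : ¬ Group.IsNilpotent G)
    {F : Subgroup G} [F.Normal] (hFn : Group.IsNilpotent F) (hne : F ≠ ⊥)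
    (hcop : (Nat.card F).Coprime F.index)
    (hC : ∀ x ∈ F, x ≠ 1 → centralizer ({x} : Set G) ≤ F) :
    ∃ E : Subgroup G, IsComplement' F E ∧ Cfsg.IsFrobeniusComplement E ∧
      (∀ e ∈ E, e ≠ 1 → F ⊓ centralizer ({e} : Set G) = ⊥) ∧ Group.IsNilpotent E ∧
      (IsCyclic E ∨ ∃ C Q : Subgroup G, C ⊔ Q = E ∧ (∀ a ∈ C, ∀ b ∈ Q, a * b = b * a) ∧
        IsCyclic C ∧ Odd (Nat.card C) ∧ ∃ n : ℕ, Nonempty (↥Q ≃* QuaternionGroup (2 ^ n))) := by
  obtain ⟨E, hE⟩ := exists_right_complement'_of_coprime hcop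
  have hfpf : ∀ e ∈ E, e ≠ 1 → F ⊓ centralizer ({e} : Set G) = ⊥ := by
    intro e he he1
    rw [eq_bot_iff]
    intro f hf
    by_contra hf1
    refine he1 ((disjoint_def.1 hE.disjoint) (hC f hf.1 (fun h => hf1 (mem_bot.2 h)) ?_) he)
    exact mem_centralizer_singleton_iff.2 (mem_centralizer_singleton_iff.1 hf.2).symm
  have hE1 : E ≠ ⊥ := by
    rintro rfl
    rw [isComplement'_bot_right] at hE
    subst hE
    exact hnn (Group.nilpotent_of_mulEquiv topEquiv)
  -- the centre of `F` serves as abelian module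
  set V := (center F).map F.subtype with hVdef
  have hVn : V.Normal := inferInstance
  haveI : IsMulCommutative V := inferInstance
  have hVF : V ≤ F := map_subtype_le _
  have hV : V ≠ ⊥ := by
    obtain ⟨r, hr, hrF⟩ := Nat.exists_prime_and_dvd (fun h => hne (card_eq_one.1 h))
    haveI := Fact.mk hr
    obtain ⟨z, hz, hz1, -, hzc⟩ := exists_central hFn hrF
    intro h
    have hzV : z ∈ V := ⟨⟨z, hz⟩, mem_center_iff.2 fun g => Subtype.ext (hzc g g.2).eq, rfl⟩
    rw [h, mem_bot] at hzV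
    exact hz1 hzV
  have hfV : ∀ e ∈ E, e ≠ 1 → V ⊓ centralizer ({e} : Set G) = ⊥ := fun e he he1 =>
    le_bot_iff.1 ((inf_le_inf_right _ hVF).trans (hfpf e he he1).le)
  exact ⟨E, hE, (CfsgLib.Solv.frobenius_of_fpf hE hne hE1 hfpf).1, hfpf, nilpotent_fpf hCN hV hfV,
    structure_fpf hCN hV hfV⟩

omit [Finite G] in
theorem pCore_quot {p : ℕ} {W : Subgroup G} [hW : W.Normal] [(Cfsg.pCore p G).Normal]
    (he : Cfsg.pCore p G = W) (h : Cfsg.pCore p (G ⧸ Cfsg.pCore p G) = ⊥) :
    Cfsg.pCore p (G ⧸ W) = ⊥ := by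
  subst he
  exact h

theorem three_step [Group.IsSolvable G] (hCN : Cfsg.IsCNGroup G) {p : ℕ} [Fact p.Prime]
    (hFp : IsPGroup p (Cfsg.fittingSubgroup G)) (hne : Cfsg.fittingSubgroup G ≠ ⊥)
    (hidx : p ∣ (Cfsg.fittingSubgroup G).index) : Cfsg.IsThreeStepGroup p G := by
  have hp := (Fact.out : p.Prime)
  set F := Cfsg.fittingSubgroup G with hFdef
  haveI hFN : F.Normal := CfsgLib.Solv.fittingSubgroup_normal G
  have hFn : Group.IsNilpotent F := CfsgLib.Solv.fittingSubgroup_isNilpotent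
  have hC : centralizer (F : Set G) ≤ F := CfsgLib.Solv.centralizer_fittingSubgroup_le
  have hFcore : Cfsg.pCore p G = F :=
    le_antisymm CfsgLib.Solv.pCore_le_fittingSubgroup (le_sSup ⟨hFN, hFp⟩)
  set π := QuotientGroup.mk' F with hπ
  have hπs : Function.Surjective π := QuotientGroup.mk'_surjective F
  have hCQ : Cfsg.IsCNGroup (G ⧸ F) :=
    Cfsg.Agent.S1473.aux _ G rfl hCN F inferInstance
  have hcore : Cfsg.pCore p (G ⧸ F) = ⊥ := by
    haveI := CfsgLib.Solv.pCore_normal G p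
    have h := CfsgLib.Solv.pCore_quotient_self (G := G) (p := p)
    exact pCore_quot hFcore h
  set Fb := Cfsg.fittingSubgroup (G ⧸ F) with hFb
  haveI : Fb.Normal := CfsgLib.Solv.fittingSubgroup_normal _
  have hFbn : Group.IsNilpotent Fb := CfsgLib.Solv.fittingSubgroup_isNilpotent
  have hFbp : (Nat.card Fb).Coprime p := CfsgLib.Inv.FStar.fitting_coprime hcore
  set K := Fb.comap π with hK
  have hFK : F ≤ K := fun f hf => by
    rw [hK, mem_comap, hπ, QuotientGroup.mk'_apply, (QuotientGroup.eq_one_iff f).2 hf]; exact one_mem _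
  have hKi : K.index = Fb.index := index_comap_of_surjective _ hπs
  have hcardK : Nat.card K = Nat.card F * Nat.card Fb := by
    refine Nat.eq_of_mul_eq_mul_right (Nat.pos_of_ne_zero (hKi ▸ index_ne_zero_of_finite) : 0 < Fb.index) ?_
    rw [mul_assoc, Fb.card_mul_index, ← index_eq_card, card_mul_index, ← hKi, card_mul_index]
  obtain ⟨a, ha⟩ := hFp.exists_card_eq
  have hFsub : Nat.card (F.subgroupOf K) = Nat.card F := Nat.card_congr (subgroupOfEquivOfLe hFK).toEquiv
  have hFsi : (F.subgroupOf K).index = Nat.card Fb := by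
    refine Nat.eq_of_mul_eq_mul_left (Nat.card_pos (α := F)) ?_
    rw [← hFsub, card_mul_index, hFsub, hcardK]
  have hcop : (Nat.card (F.subgroupOf K)).Coprime (F.subgroupOf K).index := by
    rw [hFsub, hFsi, ha]; exact hFbp.symm.pow_left a
  obtain ⟨A₀, hA₀⟩ := exists_right_complement'_of_coprime hcop
  set A := A₀.map K.subtype with hAdef
  have hAK : A ≤ K := map_subtype_le _
  have hAsub : A.subgroupOf K = A₀ := comap_map_eq_self_of_injective K.subtype_injective A₀
  have hAcard : Nat.card A = Nat.card Fb := by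
    rw [Subgroup.card_map_of_injective K.subtype_injective, ← hA₀.symm.index_eq_card, hFsi]
  have hAp : (Nat.card A).Coprime p := hAcard ▸ hFbp
  have hFA : F ⊓ A = ⊥ := inf_eq_bot_of_coprime (by rw [ha]; exact hAp.symm.pow_left a)
  have hKsup : F ⊔ A = K := by
    refine le_antisymm (sup_le hFK hAK) fun k hk => ?_
    have : (⟨k, hk⟩ : K) ∈ F.subgroupOf K ⊔ A₀ := by rw [hA₀.sup_eq_top]; exact mem_top _
    obtain ⟨f, hf, b, hb, he⟩ := mem_sup_of_normal_left.1 this
    rw [show k = (f : G) * b from (congrArg Subtype.val he).symm]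
    exact mul_mem (mem_sup_left hf) (mem_sup_right (mem_map_of_mem _ hb))
  have hfpf := fpf_of_coprime hCN hFp hC hAp
  set V := (center F).map F.subtype with hVdef
  have hVn : V.Normal := inferInstance
  haveI : IsMulCommutative V := inferInstance
  have hV : V ≠ ⊥ := by
    haveI : Nontrivial F := (nontrivial_iff_ne_bot F).2 hne
    haveI := hFp.center_nontrivial
    rw [Ne, hVdef, map_eq_bot_iff_of_injective _ F.subtype_injective]
    exact (nontrivial_iff_ne_bot _).1 inferInstance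
  have hfV : ∀ B : Subgroup G, (Nat.card B).Coprime p → ∀ e ∈ B, e ≠ 1 →
      V ⊓ centralizer ({e} : Set G) = ⊥ := fun B hB e he he1 =>
    le_bot_iff.1 ((inf_le_inf_right _ (map_subtype_le _)).trans (fpf_of_coprime hCN hFp hC hB e he he1).le)
  have hVnorm : ∀ B : Subgroup G, B ≤ normalizer (V : Set G) := fun B => by
    rw [normalizer_eq_top]; exact le_top
  -- Frattini argument
  set N := normalizer (A : Set G) with hN
  have hAN : A ≤ N := le_normalizer
  have hfrat : ∀ g : G, ∃ f ∈ F, f⁻¹ * g ∈ N := by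
    intro g
    set A' := A.map (MulAut.conj g).toMonoidHom with hA'
    have hA'K : A' ≤ K := by
      rintro _ ⟨x, hx, rfl⟩
      exact (inferInstance : K.Normal).conj_mem x (hAK hx) g
    have hc : Nat.card (A'.subgroupOf K) = (F.subgroupOf K).index := by
      rw [Nat.card_congr (subgroupOfEquivOfLe hA'K).toEquiv, hA',
        Subgroup.card_map_of_injective (MulAut.conj g).injective, hAcard, hFsi]
    obtain ⟨k, hk⟩ := CfsgLib.Solv.schur_zassenhaus_conj (F.subgroupOf K) A₀ (A'.subgroupOf K) hcop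
      (Or.inl inferInstance) hA₀.symm.index_eq_card.symm hc
    obtain ⟨f, hf, b, hb, hfb⟩ := mem_sup_of_normal_left.1 (by rw [hKsup]; exact k.2 : (k : G) ∈ F ⊔ A)
    refine ⟨f, hf, ?_⟩
    have hmem : g⁻¹ * (k : G) ∈ N := by
      refine mem_normalizer_fintype fun x hx => ?_
      have h1 : (k * ⟨x, hAK hx⟩ * k⁻¹ : K) ∈ A'.subgroupOf K := by
        rw [← hk]
        exact ⟨⟨x, hAK hx⟩, by rw [← hAsub]; exact hx, rfl⟩
      obtain ⟨y, hy, he⟩ := (mem_subgroupOf.1 h1 : ((k * ⟨x, hAK hx⟩ * k⁻¹ : K) : G) ∈ A')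
      have he' : g * y * g⁻¹ = (k : G) * x * (k : G)⁻¹ := he
      rw [show g⁻¹ * (k : G) * x * (g⁻¹ * (k : G))⁻¹ = g⁻¹ * ((k : G) * x * (k : G)⁻¹) * g by group,
        ← he', show g⁻¹ * (g * y * g⁻¹) * g = y by group]
      exact hy
    rw [← hfb] at hmem
    have h2 := N.mul_mem hmem (N.inv_mem (hAN hb))
    rw [show g⁻¹ * (f * b) * b⁻¹ = g⁻¹ * f by group] at h2
    simpa using N.inv_mem h2
  have hNF : ∀ x ∈ N, x ∈ F → x = 1 := by
    intro x hxN hxF
    by_contra hx1
    have hA0 : A ≠ ⊥ := by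
      intro h
      rw [h, Subgroup.card_bot] at hAcard
      have := CfsgLib.Solv.centralizer_fittingSubgroup_le (G := G ⧸ F)
      rw [← hFb, card_eq_one.1 hAcard.symm] at this
      have hd : p ∣ Nat.card (G ⧸ F) := index_eq_card F ▸ hidx
      obtain ⟨y, hy⟩ := exists_prime_orderOf_dvd_card' p hd
      have hy1 : y = 1 := mem_bot.1 (this (mem_centralizer_iff.2 fun m hm => by
        rw [SetLike.mem_coe, mem_bot] at hm; rw [hm, one_mul, mul_one]))
      rw [hy1, orderOf_one] at hy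
      exact hp.ne_one hy.symm
    obtain ⟨b, hb, hb1⟩ := A.bot_or_exists_ne_one.resolve_left hA0
    have hcomm : x * b * x⁻¹ * b⁻¹ ∈ F ⊓ A := ⟨by
      rw [show x * b * x⁻¹ * b⁻¹ = x * (b * x⁻¹ * b⁻¹) by group]
      exact F.mul_mem hxF (hFN.conj_mem _ (F.inv_mem hxF) b),
      A.mul_mem ((mem_normalizer_iff.1 hxN b).1 hb) (A.inv_mem hb)⟩
    rw [hFA, mem_bot, mul_inv_eq_one, mul_inv_eq_iff_eq_mul] at hcomm
    have : x ∈ F ⊓ centralizer ({b} : Set G) := ⟨hxF, mem_centralizer_singleton_iff.2 hcomm⟩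
    rw [hfpf b hb hb1, mem_bot] at this
    exact hx1 this
  have hNsurj : ∀ y : G ⧸ F, ∃ n ∈ N, π n = y := by
    intro y
    obtain ⟨g, rfl⟩ := hπs y
    obtain ⟨f, hf, hfN⟩ := hfrat g
    refine ⟨_, hfN, ?_⟩
    rw [map_mul, map_inv, show π f = 1 from (QuotientGroup.eq_one_iff f).2 hf, inv_one, one_mul]
  have hNK : ∀ x ∈ N, x ∈ K → x ∈ A := by
    intro x hxN hxK
    obtain ⟨f, hf, b, hb, rfl⟩ := mem_sup_of_normal_left.1 (hKsup ▸ hxK)
    have : f = 1 := hNF f (by simpa using N.mul_mem hxN (N.inv_mem (hAN hb))) hf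
    rw [this, one_mul]; exact hb
  -- `A` has odd order
  have hodd : Odd (Nat.card A) := by
    refine Nat.not_even_iff_odd.1 fun hev => ?_
    obtain ⟨⟨t, htA, hto, huniq, -⟩, -⟩ :=
      CfsgLib.Solv.frobenius_involution (K := V) hV (hfV A hAp) (even_iff_two_dvd.1 hev)
    have ht1 : t ≠ 1 := fun h => by rw [h, orderOf_one] at hto; exact absurd hto (by decide)
    haveI : Group.IsNilpotent N := nilp_of_le (fun n hn => mem_centralizer_singleton_iff.2 (by
      have h := huniq (n * t * n⁻¹) ((mem_normalizer_iff.1 hn t).1 htA)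
        (by rw [← hto]; exact (MulAut.conj n).orderOf_eq t)
      exact mul_inv_eq_iff_eq_mul.1 h)) (hCN t ht1)
    haveI : Group.IsNilpotent (G ⧸ F) := Group.nilpotent_of_surjective (π.comp N.subtype) (fun y => by
      obtain ⟨n, hn, rfl⟩ := hNsurj y
      exact ⟨⟨n, hn⟩, rfl⟩)
    have htop : (⊤ : Subgroup (G ⧸ F)) ≤ Fb :=
      CfsgLib.Solv.le_fittingSubgroup (Group.nilpotent_of_mulEquiv topEquiv.symm)
    have hd : p ∣ Nat.card Fb := by
      rw [eq_top_iff.2 htop, card_top, ← index_eq_card]; exact hidx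
    exact hp.not_dvd_one (Nat.Coprime.symm hFbp ▸ Nat.dvd_gcd dvd_rfl hd)
  haveI : IsZGroup A := zgroup_of_odd hV (hVnorm A) (hfV A hAp) hodd
  haveI : Group.IsNilpotent A := nilpotent_fpf hCN hV (hfV A hAp)
  have hAcyc : IsCyclic A := inferInstance
  -- centralizers in `N` of elements of `A`
  have hCA : ∀ b ∈ A, b ≠ 1 → ∀ n ∈ N, Commute n b → n ∈ A := by
    intro b hb hb1 n hn hnb
    refine hNK n hn ?_
    have hnorm : ∀ m ∈ N, m * b * m⁻¹ ∈ zpowers b := by
      intro m hm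
      have hmA := (mem_normalizer_iff.1 hm b).1 hb
      rw [eq_of_card_eq_of_cyclic hAcyc (zpowers_le.2 hb) (zpowers_le.2 hmA)
        (by rw [Nat.card_zpowers, Nat.card_zpowers]; exact ((MulAut.conj m).orderOf_eq b).symm)]
      exact mem_zpowers _
    set M := (N ⊓ centralizer ({b} : Set G)).map π with hM
    haveI : M.Normal := ⟨by
      rintro _ ⟨c, ⟨hcN, hcb⟩, rfl⟩ y
      obtain ⟨m, hm, rfl⟩ := hNsurj y
      refine ⟨m * c * m⁻¹, ⟨N.mul_mem (N.mul_mem hm hcN) (N.inv_mem hm),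
        mem_centralizer_singleton_iff.2 ?_⟩, by simp⟩
      obtain ⟨i, hi⟩ := mem_zpowers_iff.1 (hnorm m⁻¹ (N.inv_mem hm))
      have h1 : Commute c (m⁻¹ * b * m⁻¹⁻¹) := by
        rw [← hi]
        exact (show Commute c b from mem_centralizer_singleton_iff.1 hcb).zpow_right i
      have h2 := h1.map (MulAut.conj m).toMonoidHom
      simp only [MulEquiv.coe_toMonoidHom, MulAut.conj_apply, inv_inv] at h2
      rw [show m * (m⁻¹ * b * m) * m⁻¹ = b by group] at h2
      exact h2.eq⟩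
    haveI := nilp_of_le (inf_le_right : N ⊓ centralizer ({b} : Set G) ≤ _) (hCN b hb1)
    have hMn : Group.IsNilpotent M := Group.nilpotent_of_surjective
      (π.subgroupMap (N ⊓ centralizer ({b} : Set G))) (π.subgroupMap_surjective _)
    exact CfsgLib.Solv.le_fittingSubgroup hMn
      (mem_map_of_mem π ⟨hn, mem_centralizer_singleton_iff.2 hnb.eq⟩)
  have hA0 : A ≠ ⊥ := by
    intro h
    obtain ⟨g, hg⟩ : ∃ g : G, g ∉ F := by
      by_contra hcon
      rw [not_exists_not] at hcon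
      rw [(eq_top_iff' F).2 hcon, index_top] at hidx
      exact hp.not_dvd_one hidx
    rw [h, Subgroup.card_bot] at hAcard
    have := CfsgLib.Solv.centralizer_fittingSubgroup_le (G := G ⧸ F)
    rw [← hFb, card_eq_one.1 hAcard.symm] at this
    exact hg ((QuotientGroup.eq_one_iff g).1 (mem_bot.1 (this (mem_centralizer_iff.2 fun m hm => by
      rw [SetLike.mem_coe, mem_bot] at hm; rw [hm, one_mul, mul_one]))))
  have hKp : ∀ q : ℕ, q.Prime → q ∣ K.index → q = p := by
    intro q hq hqd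
    by_contra hqp
    haveI := Fact.mk hq
    obtain ⟨x, hxN, hxA, hxo⟩ : ∃ x ∈ N, x ∉ A ∧ orderOf x = q := by
      obtain ⟨S⟩ : Nonempty (Sylow q (G ⧸ F)) := inferInstance
      have hS : ¬ (S : Subgroup (G ⧸ F)) ≤ Fb := fun h =>
        S.not_dvd_index ((hKi ▸ hqd).trans (index_dvd_of_le h))
      obtain ⟨s, hs, hsF⟩ := SetLike.not_le_iff_exists.1 hS
      obtain ⟨n, hn, rfl⟩ := hNsurj s
      obtain ⟨j, hj⟩ := IsPGroup.iff_orderOf.1 S.isPGroup' ⟨_, hs⟩
      rw [Subgroup.orderOf_mk] at hj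
      have hno : orderOf n = q ^ j := by
        rw [← hj]
        refine Nat.dvd_antisymm (orderOf_dvd_of_pow_eq_one ?_) (orderOf_map_dvd π n)
        refine hNF _ (N.pow_mem hn _) ?_
        rw [← QuotientGroup.eq_one_iff]
        show π (n ^ _) = 1
        rw [map_pow, pow_orderOf_eq_one]
      have hj0 : j ≠ 0 := fun h => hsF (by
        rw [h, pow_zero, orderOf_eq_one_iff] at hj; rw [hj]; exact one_mem _)
      have hxo : orderOf (n ^ (q ^ (j - 1))) = q := by
        rw [orderOf_pow' _ (pow_ne_zero _ hq.ne_zero), hno,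
          Nat.gcd_eq_right (pow_dvd_pow q (Nat.sub_le j 1)), Nat.pow_div (Nat.sub_le j 1) hq.pos,
          show j - (j - 1) = 1 by omega, pow_one]
      refine ⟨_, N.pow_mem hn _, fun hx => hsF ?_, hxo⟩
      exact hAK (hCA _ hx (fun h => hq.ne_one (by rw [← hxo, h, orderOf_one])) n hn
        ((Commute.refl n).pow_right _))
    obtain ⟨r, hr, hrA⟩ := Nat.exists_prime_and_dvd (fun h => hA0 (card_eq_one.1 h))
    haveI := Fact.mk hr
    obtain ⟨b, hb⟩ := exists_prime_orderOf_dvd_card' (G := A) r hrA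
    have hbo : orderOf (b : G) = r := by rw [Subgroup.orderOf_coe, hb]
    have hb1 : (b : G) ≠ 1 := fun h => hr.ne_one (by rw [← hbo, h, orderOf_one])
    have hxb : x * b * x⁻¹ ∈ zpowers (b : G) := by
      have hmA := (mem_normalizer_iff.1 hxN b).1 b.2
      rw [eq_of_card_eq_of_cyclic hAcyc (zpowers_le.2 b.2) (zpowers_le.2 hmA)
        (by rw [Nat.card_zpowers, Nat.card_zpowers]; exact ((MulAut.conj x).orderOf_eq (b : G)).symm)]
      exact mem_zpowers _
    set B := zpowers (b : G) ⊔ zpowers x with hB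
    have hBp : (Nat.card B).Coprime p := by
      rw [hB, card_eq_mul_of_isComplIn (compl_zpowers hq hxo (fun h => hxA ((zpowers_le.2 b.2) h)) hxb),
        Nat.card_zpowers, Nat.card_zpowers, hbo, hxo]
      exact Nat.Coprime.mul_left (hAp.coprime_dvd_left hrA) ((Nat.coprime_primes hq hp).2 hqp)
    have hcomm := (prime_commute hV (hVnorm B) (hfV B hBp) (le_sup_right (a := zpowers (b : G)) (mem_zpowers x))
      (le_sup_left (b := zpowers x) (mem_zpowers (b : G))) hq hr hxo hbo hxb).1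
    exact hxA (hCA b b.2 hb1 x hxN hcomm)
  refine ⟨hFcore.symm ▸ hne, A, hA0, hAcyc, hodd, hAp, ?_⟩
  rw [hFcore, hKsup]
  refine ⟨inferInstance, ?_, ⟨_, Nat.eq_prime_pow_of_unique_prime_dvd index_ne_zero_of_finite
    (fun {q} hq hqd => hKp q hq hqd)⟩, fun b hb hb1 => hfpf b hb hb1, ?_⟩
  · intro h
    have hd : p ∣ Nat.card Fb * K.index := by
      rw [hKi, Fb.card_mul_index, ← index_eq_card]; exact hidx
    rw [h, index_top, mul_one] at hd
    exact hp.not_dvd_one (Nat.Coprime.symm hFbp ▸ Nat.dvd_gcd dvd_rfl hd)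
  · intro x hx b hb hb1 hmem
    obtain ⟨f, hf, hfx⟩ := hfrat x
    refine hx ?_
    have hn : f⁻¹ * x ∈ A := by
      refine hCA b hb hb1 _ hfx ?_
      set n := f⁻¹ * x
      have hπn : π n = π x := by
        rw [map_mul, map_inv, show π f = 1 from (QuotientGroup.eq_one_iff f).2 hf, inv_one, one_mul]
      have h1 : n * b * n⁻¹ * b⁻¹ ∈ F ⊓ A := by
        refine ⟨?_, A.mul_mem ((mem_normalizer_iff.1 hfx b).1 hb) (A.inv_mem hb)⟩
        refine (QuotientGroup.eq_one_iff _).1 ?_
        show π (n * b * n⁻¹ * b⁻¹) = 1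
        have h0 : π (x * b * x⁻¹ * b⁻¹) = 1 := (QuotientGroup.eq_one_iff _).2 hmem
        simp only [map_mul, map_inv, hπn] at h0 ⊢
        exact h0
      rw [hFA, mem_bot, mul_inv_eq_one, mul_inv_eq_iff_eq_mul] at h1
      exact h1
    rw [show x = f * (f⁻¹ * x) by group]
    exact K.mul_mem (hFK hf) (hAK hn)

end CfsgLib.OddLocal.CN
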