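import Cfsg.Agent.Solv.CoprimeAction
import Cfsg.Agent.Solv.PLengthOne
import Cfsg.Agent.Fus.CoreBasic

/-!
Factorisations `G = K U` and the structure of solvable groups of `p`-length one.
-/

set_option autoImplicit false

namespace CfsgLib.OddLocal

open Subgroup CfsgLib.Solv
open scoped Pointwise commutatorElement

universe u

variable {G : Type u} [Group G] [Finite G]

theorem exists_mul_sup {K U : Subgroup G} [K.Normal] (h : K ⊔ U = ⊤) (g : G) :
    ∃ k ∈ K, ∃ u ∈ U, g = k * u := by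
  have : g ∈ ((K ⊔ U : Subgroup G) : Set G) := by rw [h]; trivial
  rw [normal_mul] at this
  obtain ⟨k, hk, u, hu, rfl⟩ := this
  exact ⟨k, hk, u, hu, rfl⟩

theorem exists_mul_sup' {K U : Subgroup G} [K.Normal] (h : K ⊔ U = ⊤) (g : G) :
    ∃ u ∈ U, ∃ k ∈ K, g = u * k := by
  obtain ⟨k, hk, u, hu, e⟩ := exists_mul_sup h g⁻¹
  exact ⟨u⁻¹, inv_mem hu, k⁻¹, inv_mem hk, by rw [← inv_inv g, e, mul_inv_rev]⟩

theorem focal_inf {K U H : Subgroup G} [K.Normal] (hKU : K ⊔ U = ⊤) (hH : H ≤ U)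
    (hcop : (Nat.card H).Coprime (Nat.card K)) :
    H ⊓ _root_.commutator G = H ⊓ ⁅U, U⁆ := by
  refine le_antisymm (fun h hh => ⟨hh.1, ?_⟩) (inf_le_inf_left _ (by
    rw [_root_.commutator_def]; exact commutator_mono le_top le_top))
  set D : Subgroup G := ⁅U, U⁆ with hD
  have hgen : _root_.commutator G ≤ K ⊔ D := by
    rw [_root_.commutator_def, commutator_le]
    intro a _ b _
    obtain ⟨k, hk, u, hu, rfl⟩ := exists_mul_sup hKU a
    obtain ⟨k', hk', u', hu', rfl⟩ := exists_mul_sup hKU b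
    set f := QuotientGroup.mk' K
    have h1 : f ⁅k * u, k' * u'⁆ = f ⁅u, u'⁆ := by
      rw [map_commutatorElement, map_commutatorElement, map_mul, map_mul,
        show f k = 1 from (QuotientGroup.eq_one_iff k).2 hk,
        show f k' = 1 from (QuotientGroup.eq_one_iff k').2 hk', one_mul, one_mul]
    have h2 : (⁅u, u'⁆)⁻¹ * ⁅k * u, k' * u'⁆ ∈ K := QuotientGroup.eq.1 h1.symm
    have := mul_mem (mem_sup_right (commutator_mem_commutator hu hu') : ⁅u, u'⁆ ∈ K ⊔ D)
      (mem_sup_left h2)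
    rwa [mul_inv_cancel_left] at this
  have hmem : h ∈ ((K ⊔ D : Subgroup G) : Set G) := hgen hh.2
  rw [normal_mul] at hmem
  obtain ⟨k, hk, d, hd, hkd⟩ := hmem
  have hdU : d ∈ U := commutator_le_self U hd
  have hkU : k ∈ U := by
    have := mul_mem (hH hh.1) (inv_mem hdU)
    rwa [← hkd, mul_inv_cancel_right] at this
  haveI : (D.subgroupOf U).Normal := by
    have : D.subgroupOf U = _root_.commutator U := by
      rw [subgroupOf, hD, ← map_subtype_commutator, comap_map_eq_self_of_injective U.subtype_injective]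
    rw [this]; infer_instance
  set π := QuotientGroup.mk' (D.subgroupOf U)
  have e : π ⟨h, hH hh.1⟩ = π ⟨k, hkU⟩ := by
    rw [show (⟨h, hH hh.1⟩ : U) = ⟨k, hkU⟩ * ⟨d, hdU⟩ from Subtype.ext hkd.symm, map_mul,
      show π ⟨d, hdU⟩ = 1 from (QuotientGroup.eq_one_iff _).2 (mem_subgroupOf.2 hd), mul_one]
  have h1 : π ⟨h, hH hh.1⟩ = 1 := orderOf_eq_one_iff.1 (Nat.eq_one_of_dvd_coprimes hcop
    ((orderOf_map_dvd _ _).trans (by rw [Subgroup.orderOf_mk]; exact orderOf_dvd_natCard H hh.1))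
    (by rw [e]; exact (orderOf_map_dvd _ _).trans (by rw [Subgroup.orderOf_mk]; exact orderOf_dvd_natCard K hk)))
  exact mem_subgroupOf.1 ((QuotientGroup.eq_one_iff _).1 h1)

theorem control {K U H : Subgroup G} [K.Normal] [Group.IsSolvable K] (hKU : K ⊔ U = ⊤) (hH : H ≤ U)
    (hcop : (Nat.card H).Coprime (Nat.card K)) {g : G} (hg : H.map (MulAut.conj g).toMonoidHom ≤ U) :
    ∃ u ∈ U, ∃ c ∈ K ⊓ centralizer (H : Set G), g = u * c := by
  obtain ⟨u, hu, k, hk, rfl⟩ := exists_mul_sup' hKU g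
  set R := K ⊓ U with hR
  set H' := MulAut.conj k • H with hH'
  have hH'U : H' ≤ U := by
    intro x hx
    rw [hH', mem_conj_smul_iff] at hx
    have h2 : u * k * (k⁻¹ * x * k) * (u * k)⁻¹ ∈ U := hg ⟨_, hx, rfl⟩
    have h3 := mul_mem (mul_mem (inv_mem hu) h2) hu
    rwa [show u⁻¹ * (u * k * (k⁻¹ * x * k) * (u * k)⁻¹) * u = x by group] at h3
  have hHR : H ≤ normalizer (R : Set G) :=
    le_normalizer_inf_of_le (by rw [normalizer_eq_top]; exact le_top) (hH.trans le_normalizer)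
  have hH'R : H' ≤ normalizer (R : Set G) :=
    le_normalizer_inf_of_le (by rw [normalizer_eq_top]; exact le_top) (hH'U.trans le_normalizer)
  have hcopR : (Nat.card H).Coprime (Nat.card R) := hcop.of_dvd_right (card_dvd_of_le inf_le_left)
  have hcopR' : (Nat.card H').Coprime (Nat.card R) := by rwa [hH', card_conj_smul]
  have hle : H' ≤ H ⊔ R := by
    intro x hx
    have hxU := hH'U hx
    rw [hH', mem_conj_smul_iff] at hx
    set h0 := k⁻¹ * x * k
    have hd : h0⁻¹ * x ∈ K := by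
      refine (QuotientGroup.eq_one_iff _).1 ?_
      show QuotientGroup.mk' K _ = 1
      simp only [h0, map_mul, map_inv]
      rw [show QuotientGroup.mk' K k = 1 from (QuotientGroup.eq_one_iff k).2 hk]
      group
    have := mul_mem (mem_sup_left hx : h0 ∈ H ⊔ R) (mem_sup_right ⟨hd, U.mul_mem (U.inv_mem (hH hx)) hxU⟩)
    rwa [mul_inv_cancel_left] at this
  have hsup : H ⊔ R = H' ⊔ R := by
    refine (eq_of_le_of_card_ge (sup_le hle le_sup_right) ?_).symm
    rw [card_sup_of_le_normalizer hHR hcopR, card_sup_of_le_normalizer hH'R hcopR', hH', card_conj_smul]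
  haveI : Group.IsSolvable R := isSolvable_of_le inf_le_left
  obtain ⟨w0, hw0, hwe⟩ := conj_complement_in_sup' hHR hH'R hsup hcopR hcopR' (Or.inl inferInstance)
  obtain ⟨w, hw, a, ha, rfl⟩ := exists_mul_of_mem_sup hHR hw0
  rw [map_mul, mul_smul, conj_smul_eq_self_of_mem_normalizer (Subgroup.le_normalizer ha)] at hwe
  have hn : w⁻¹ * k ∈ normalizer (H : Set G) := by
    refine mem_normalizer_of_conj_smul_eq ?_
    rw [map_mul, mul_smul, ← hH', ← hwe, ← mul_smul, ← map_mul, inv_mul_cancel, map_one, one_smul]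
  have hc : w⁻¹ * k ∈ K := mul_mem (inv_mem hw.1) hk
  refine ⟨u * w, mul_mem hu hw.2, w⁻¹ * k, ⟨hc, mem_centralizer_of_mem_normalizer
    (by rw [normalizer_eq_top]; exact le_top) (Subgroup.inf_eq_bot_of_coprime hcop) hc hn⟩, by group⟩

theorem normalizer_eq {K U H : Subgroup G} [K.Normal] [Group.IsSolvable K] (hKU : K ⊔ U = ⊤) (hH : H ≤ U)
    (hcop : (Nat.card H).Coprime (Nat.card K)) :
    normalizer (H : Set G) = (K ⊓ centralizer (H : Set G)) ⊔ (U ⊓ normalizer (H : Set G)) := by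
  refine le_antisymm (fun g hg => ?_) (sup_le (inf_le_right.trans (centralizer_le_normalizer _)) inf_le_right)
  obtain ⟨u, hu, c, hc, rfl⟩ := control hKU hH hcop (g := g) (by
    rintro _ ⟨h, hh, rfl⟩
    exact hH ((mem_normalizer_iff.1 hg h).1 hh))
  have hun : u ∈ normalizer (H : Set G) := by
    have := mul_mem hg (inv_mem (centralizer_le_normalizer _ hc.2 : c ∈ normalizer (H : Set G)))
    rwa [mul_inv_cancel_right] at this
  exact mul_mem (mem_sup_right ⟨hu, hun⟩) (mem_sup_left hc)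

/-- p-length one data: a normal p'-subgroup K with G = K N(S) and K S normal of p'-index -/
theorem plen_one_data {p : ℕ} [Fact p.Prime] [Group.IsSolvable G] (hpl : Cfsg.PLengthLE p 1 G)
    (S : Sylow p G) :
    ∃ K : Subgroup G, K.Normal ∧ (Nat.card K).Coprime p ∧
      ((S : Subgroup G) ⊔ K).Normal ∧ K ⊔ normalizer ((S : Subgroup G) : Set G) = ⊤ := by
  set U1 := (Cfsg.upperPSeries p G 1).1 with hU1
  set U2 := (Cfsg.upperPSeries p G 2).1 with hU2
  have hU1c : (Nat.card U1).Coprime p := by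
    have e : U1 = (Cfsg.pPrimeCore p (G ⧸ (⊥ : Subgroup G))).comap (QuotientGroup.mk' ⊥) := rfl
    rw [e]
    have hc := CfsgLib.Fus.coprime_card_pPrimeCore (G := G ⧸ (⊥ : Subgroup G)) p
    refine hc.of_dvd_left (dvd_of_eq ?_)
    rw [← card_map_of_injective (f := QuotientGroup.mk' (⊥ : Subgroup G))
      (fun a b hab => by simpa [QuotientGroup.eq, inv_mul_eq_one] using hab),
      map_comap_eq_self_of_surjective (QuotientGroup.mk'_surjective _)]
  have hQ : IsPGroup p (Cfsg.pCore p (G ⧸ U1)) := CfsgLib.Fus.isPGroup_pCore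
  have e2 : U2 = (Cfsg.pCore p (G ⧸ U1)).comap (QuotientGroup.mk' U1) := rfl
  have e3 : (Cfsg.pPrimeCore p (G ⧸ U2)).comap (QuotientGroup.mk' U2) = ⊤ := hpl
  have htop : (⊤ : Subgroup (G ⧸ U2)) = Cfsg.pPrimeCore p (G ⧸ U2) := by
    rw [← map_comap_eq_self_of_surjective (QuotientGroup.mk'_surjective U2) (Cfsg.pPrimeCore p (G ⧸ U2)),
      e3, map_top_of_surjective _ (QuotientGroup.mk'_surjective U2)]
  have hidx : (U2.index).Coprime p := by
    rw [index_eq_card, ← Subgroup.card_top (G := G ⧸ U2), htop]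
    exact CfsgLib.Fus.coprime_card_pPrimeCore p
  have hU12 : U1 ≤ U2 := by rw [e2]; exact QuotientGroup.le_comap_mk' U1 _
  have hSU2 : (S : Subgroup G) ≤ U2 := fun s hs => by
    refine (QuotientGroup.eq_one_iff (N := U2) s).1 (orderOf_eq_one_iff.1 ?_)
    obtain ⟨k, hk⟩ := IsPGroup.iff_orderOf.1 S.isPGroup' ⟨s, hs⟩
    rw [Subgroup.orderOf_mk] at hk
    refine Nat.eq_one_of_dvd_coprimes (a := p ^ k) (b := U2.index) (hidx.symm.pow_left k) ?_ ?_
    · exact hk ▸ orderOf_map_dvd (QuotientGroup.mk' U2) s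
    · rw [index_eq_card]; exact orderOf_dvd_natCard _
  set M := (S : Subgroup G) ⊔ U1 with hM
  have hMU2 : M ≤ U2 := sup_le hSU2 hU12
  have heq : M = U2 := by
    refine le_antisymm hMU2 (relIndex_eq_one.1 ?_)
    have h1 : M.relIndex U2 ∣ U1.relIndex U2 := relIndex_dvd_of_le_left U2 le_sup_right
    have h2 : U1.relIndex U2 = Nat.card (Cfsg.pCore p (G ⧸ U1)) := by
      have := relIndex_ker (K := U2) (QuotientGroup.mk' U1)
      rw [QuotientGroup.ker_mk'] at this
      rw [this, e2, map_comap_eq_self_of_surjective (QuotientGroup.mk'_surjective U1)]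
    obtain ⟨n, hn⟩ := IsPGroup.iff_card.1 hQ
    rw [h2, hn] at h1
    have h3 : M.relIndex U2 ∣ (S : Subgroup G).index :=
      (relIndex_dvd_of_le_left U2 le_sup_left).trans (Dvd.intro _ (relIndex_mul_index hSU2))
    exact Nat.eq_one_of_dvd_coprimes
      (((Fact.out : p.Prime).coprime_iff_not_dvd.2 S.not_dvd_index).pow_left n) h1 h3
  haveI : U1.Normal := (Cfsg.upperPSeries p G 1).2
  haveI : U2.Normal := (Cfsg.upperPSeries p G 2).2
  haveI hMn : M.Normal := by rw [heq]; infer_instance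
  refine ⟨U1, inferInstance, hU1c, hMn, ?_⟩
  obtain ⟨n, hn⟩ := IsPGroup.iff_card.1 S.isPGroup'
  exact CfsgLib.Solv.PLen.sup_normalizer_eq_top (K := M) hM.symm
    (by rw [hn]; exact hU1c.symm.pow_left n) (Or.inl inferInstance)

/-- Sylow subgroups are conjugate under the normal p'-part when S K is normal -/
theorem exists_conj_le {p : ℕ} [Fact p.Prime] {K : Subgroup G} [K.Normal] (S : Sylow p G)
    (hSK : ((S : Subgroup G) ⊔ K).Normal) {Q : Subgroup G} (hQ : IsPGroup p Q) :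
    ∃ k ∈ K, MulAut.conj k • Q ≤ (S : Subgroup G) := by
  obtain ⟨R, hR⟩ := hQ.exists_le_sylow
  obtain ⟨g, hg⟩ := MulAction.exists_smul_eq G R S
  have hRM : (R : Subgroup G) ≤ (S : Subgroup G) ⊔ K := by
    intro r hr
    have h1 : g * r * g⁻¹ ∈ (S : Subgroup G) := by
      rw [← hg, Sylow.coe_subgroup_smul, mem_conj_smul_iff]
      simpa [mul_assoc] using hr
    have := hSK.conj_mem _ (mem_sup_left h1) g⁻¹
    simpa [mul_assoc] using this
  set M := (S : Subgroup G) ⊔ K
  obtain ⟨⟨a, ha⟩, hag⟩ := MulAction.exists_smul_eq M (R.subtype hRM) (S.subtype le_sup_left)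
  obtain ⟨k, hk, s, hs, rfl⟩ := exists_mul_of_mem_sup
    (by rw [normalizer_eq_top]; exact le_top : (S : Subgroup G) ≤ normalizer (K : Set G)) ha
  refine ⟨s⁻¹ * k * s, by simpa using Normal.conj_mem inferInstance k hk s⁻¹, fun x hx => ?_⟩
  rw [mem_conj_smul_iff] at hx
  set q := (s⁻¹ * k * s)⁻¹ * x * (s⁻¹ * k * s) with hq
  have hqR : q ∈ (R : Subgroup G) := hR hx
  have hmem : (⟨k * s * q * (k * s)⁻¹, mul_mem (mul_mem ha (hRM hqR)) (inv_mem ha)⟩ : M) ∈
      ((S.subtype le_sup_left : Sylow p M) : Subgroup M) := by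
    rw [← hag, Sylow.coe_subgroup_smul, mem_conj_smul_iff]
    rw [Sylow.coe_subtype, mem_subgroupOf]
    simpa [mul_assoc] using hqR
  rw [Sylow.coe_subtype, mem_subgroupOf] at hmem
  have h3 := mul_mem (mul_mem (inv_mem hs) hmem) hs
  rwa [show s⁻¹ * (k * s * q * (k * s)⁻¹) * s = x by rw [hq]; group] at h3

end CfsgLib.OddLocal
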