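import Cfsg.Agent.OddLocal.Transitivity
import Cfsg.Agent.OddLocal.Factor
import Cfsg.Agent.Solv.BalanceSolvable
import Cfsg.Agent.Solv.NormalSquare
import Cfsg.Agent.Solv.RankTwoNormal
import Cfsg.Agent.Solv.PGroups
import Cfsg.Agent.S1457

/-!
Bender–Glauberman, Section 7: abelian `p`-subgroups satisfying the transitivity hypothesis.
-/

set_option autoImplicit false
set_option linter.style.haveILetI false
set_option linter.unusedSectionVars false

open Cfsg CfsgLib.Solv
open scoped commutatorElement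

namespace CfsgLib.OddLocal.TransHyp

variable {p : ℕ} [hp : Fact p.Prime]

section Solvable

variable {X : Type*} [Group X] [Finite X] [Group.IsSolvable X]

theorem mk_eq_one_of_commutator {S : Subgroup X} (hS : IsPGroup p S) {x : X} (hx : x ∈ S)
    (h : x ∈ pPrimeCore p X) : x = 1 := by
  obtain ⟨j, hj⟩ := hS ⟨x, hx⟩
  rw [← orderOf_eq_one_iff]
  exact Nat.eq_one_of_dvd_coprimes ((pPrimeCore_coprime X p).symm.pow_left j)
    (orderOf_dvd_of_pow_eq_one (congrArg Subtype.val hj))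
    (Subgroup.orderOf_mk (H := pPrimeCore p X) x h ▸ orderOf_dvd_natCard _)

/-- An invariant `p'`-subgroup centralises `A` modulo `O_{p'}` if `A ≤ O_{p',p}`. -/
theorem map_le_centralizer {A Y : Subgroup X} (hAR : A ≤ pPrimePCore p X)
    (hY : (Nat.card Y).Coprime p) (hAY : A ≤ Subgroup.normalizer (Y : Set X))
    [(pPrimeCore p X).Normal] :
    Y.map (QuotientGroup.mk' (pPrimeCore p X)) ≤
      Subgroup.centralizer ((A.map (QuotientGroup.mk' (pPrimeCore p X)) : Subgroup _) : Set _) := by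
  set f := QuotientGroup.mk' (pPrimeCore p X)
  haveI := pCore_normal (X ⧸ pPrimeCore p X) p
  have hbot : pCore p (X ⧸ pPrimeCore p X) ⊓ Y.map f = ⊥ := by
    refine inf_eq_bot_of_coprime_card ?_
    obtain ⟨n, hn⟩ := IsPGroup.iff_card.1 (pCore_isPGroup (X ⧸ pPrimeCore p X) p)
    rw [hn]
    exact (hY.coprime_dvd_left (Y.card_map_dvd f)).symm.pow_left n
  rintro _ ⟨y, hy, rfl⟩
  rw [Subgroup.mem_centralizer_iff]
  rintro _ ⟨a, ha, rfl⟩
  have h1 : f a * f y * (f a)⁻¹ * (f y)⁻¹ ∈ pCore p (X ⧸ pPrimeCore p X) ⊓ Y.map f := by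
    refine Subgroup.mem_inf.2 ⟨?_, ?_⟩
    · have hfa : f a ∈ pCore p (X ⧸ pPrimeCore p X) := hAR ha
      have := mul_mem hfa ((inferInstance : (pCore p (X ⧸ pPrimeCore p X)).Normal).conj_mem _
        (inv_mem hfa) (f y))
      simpa [mul_assoc] using this
    · rw [← map_mul, ← map_inv, ← map_mul, ← map_inv, ← map_mul]
      exact Subgroup.mem_map_of_mem f (mul_mem ((Subgroup.mem_normalizer_iff.1 (hAY ha) y).1 hy)
        (inv_mem hy))
  rw [hbot, Subgroup.mem_bot] at h1
  exact mul_inv_eq_iff_eq_mul.1 (mul_inv_eq_one.1 h1)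

/-- If moreover `A` is self-centralising on `p`-elements up to the given test, `Y ≤ O_{p'}`. -/
theorem le_pPrimeCore_of_test {A Y : Subgroup X} (hA : IsPGroup p A) (hAR : A ≤ pPrimePCore p X)
    (hY : (Nat.card Y).Coprime p) (hAY : A ≤ Subgroup.normalizer (Y : Set X))
    (hC : (∀ S : Sylow p X, A ≤ S → (S : Subgroup X) ⊓ Subgroup.centralizer (A : Set X) ≤ A) ∨
      p ≠ 2 ∧ ∀ x ∈ Subgroup.centralizer (A : Set X), x ^ p = 1 → x ∈ A) :
    Y ≤ pPrimeCore p X := by
  haveI := pPrimeCore_normal X p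
  set O := pPrimeCore p X with hO
  set f := QuotientGroup.mk' O
  haveI := pCore_normal (X ⧸ O) p
  set R := pCore p (X ⧸ O)
  obtain ⟨S, hAS⟩ := hA.exists_le_sylow
  have hRS : R ≤ (S : Subgroup X).map f :=
    pCore_le_sylow (S.mapSurjective (QuotientGroup.mk'_surjective O))
  have hlift : ∀ r ∈ R, r ∈ Subgroup.centralizer ((A.map f : Subgroup _) : Set (X ⧸ O)) →
      ∃ s ∈ (S : Subgroup X) ⊓ Subgroup.centralizer (A : Set X), f s = r ∧
        (r ^ p = 1 → s ^ p = 1) := by
    intro r hr hrc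
    obtain ⟨s, hs, rfl⟩ := hRS hr
    refine ⟨s, Subgroup.mem_inf.2 ⟨hs, Subgroup.mem_centralizer_iff.2 fun a ha => ?_⟩, rfl,
      fun h => mk_eq_one_of_commutator S.isPGroup' (pow_mem hs p)
        ((QuotientGroup.eq_one_iff (N := O) _).1 (by rw [← map_pow] at h; exact h))⟩
    have h1 : f (a * s * a⁻¹ * s⁻¹) = 1 := by
      rw [map_mul, map_mul, map_mul, map_inv, map_inv,
        Subgroup.mem_centralizer_iff.1 hrc (f a) (Subgroup.mem_map_of_mem f ha)]
      group
    have h2 := mk_eq_one_of_commutator S.isPGroup' (mul_mem (mul_mem (mul_mem (hAS ha) hs)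
      (inv_mem (hAS ha))) (inv_mem hs)) ((QuotientGroup.eq_one_iff (N := O) _).1 h1)
    exact mul_inv_eq_iff_eq_mul.1 (mul_inv_eq_one.1 h2)
  have hYA := map_le_centralizer hAR hY hAY
  have hYc : (Nat.card (Y.map f)).Coprime p := hY.coprime_dvd_left (Y.card_map_dvd f)
  have hAY' : A.map f ≤ Subgroup.centralizer ((Y.map f : Subgroup _) : Set (X ⧸ O)) :=
    Subgroup.le_centralizer_iff.1 hYA
  have hnR : ∀ B : Subgroup (X ⧸ O), B ≤ Subgroup.normalizer (R : Set (X ⧸ O)) := fun B =>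
    le_top.trans (Subgroup.normalizer_eq_top_iff.2 (pCore_normal (X ⧸ O) p)).ge
  have hkey : R ⊓ Subgroup.centralizer ((A.map f : Subgroup _) : Set (X ⧸ O)) ≤
      Subgroup.centralizer ((Y.map f : Subgroup _) : Set (X ⧸ O)) := by
    set D := R ⊓ Subgroup.centralizer ((A.map f : Subgroup _) : Set (X ⧸ O))
    rcases hC with hC | ⟨hp2, hC⟩
    · intro r hr
      obtain ⟨s, hs, rfl, -⟩ := hlift r hr.1 hr.2
      exact hAY' (Subgroup.mem_map_of_mem f (hC S hAS hs))
    · -- `Ȳ` fixes the elements of order `p` of `D`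
      have hYD : Y.map f ≤ Subgroup.normalizer (D : Set (X ⧸ O)) :=
        le_normalizer_inf_of_le (hnR _)
          (hYA.trans Subgroup.le_normalizer)
      intro r hr
      rw [Subgroup.mem_centralizer_iff]
      intro y hy
      let a : MulAut D := Subgroup.normalizerMonoidHom D ⟨y, hYD hy⟩
      have hord : (orderOf a).Coprime p := by
        refine hYc.coprime_dvd_left ((orderOf_map_dvd _ _).trans ?_)
        rw [Subgroup.orderOf_mk, ← Subgroup.orderOf_mk (H := Y.map f) y hy]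
        exact orderOf_dvd_natCard _
      have h1 : a = 1 := by
        refine aut_eq_one_of_fix_omega hp2 ((pCore_isPGroup (X ⧸ O) p).to_le inf_le_left) hord
          fun d hd => ?_
        obtain ⟨s, hs, hse, hsp⟩ := hlift d d.2.1 d.2.2
        have hsA := hC s hs.2 (hsp (congrArg Subtype.val hd))
        refine Subtype.ext ?_
        show y * (d : X ⧸ O) * y⁻¹ = d
        rw [Subgroup.mem_centralizer_iff.1
          (hAY' (hse ▸ Subgroup.mem_map_of_mem f hsA)) y hy, mul_inv_cancel_right]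
      have h2 : y * r * y⁻¹ = r :=
        congrArg (fun d : D => (d : X ⧸ O)) (DFunLike.congr_fun h1 (⟨r, hr⟩ : D))
      exact mul_inv_eq_iff_eq_mul.1 h2
  have h3 := thompson_pq (hA.map f) hYc hAY' R (pCore_isPGroup (X ⧸ O) p) (hnR _) (hnR _) hkey
  have h4 : Y.map f ≤ R := h3.trans (centralizer_pCore_le pPrimeCore_quotient_self)
  have h5 : Y.map f = ⊥ := by
    refine le_bot_iff.1 (le_trans (le_inf h4 le_rfl) ?_)
    refine (inf_eq_bot_of_coprime_card ?_).le
    obtain ⟨n, hn⟩ := IsPGroup.iff_card.1 (pCore_isPGroup (X ⧸ O) p : IsPGroup p R)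
    rw [hn]
    exact hYc.symm.pow_left n
  rwa [Subgroup.map_eq_bot_iff, QuotientGroup.ker_mk'] at h5

theorem le_of_plength_one (hpl : PLengthLE p 1 X) {A : Subgroup X} (hA : IsPGroup p A) :
    A ≤ pPrimePCore p X := by
  obtain ⟨S, hAS⟩ := hA.exists_le_sylow
  obtain ⟨K, hKn, hKc, hn, -⟩ := CfsgLib.OddLocal.plen_one_data hpl S
  haveI := hKn
  haveI := pPrimeCore_normal X p
  haveI := Subgroup.Normal.map hn _ (QuotientGroup.mk'_surjective (pPrimeCore p X))
  refine Subgroup.map_le_iff_le_comap.1 ((Subgroup.map_mono (hAS.trans le_sup_left)).trans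
    (CfsgLib.Solv.le_pCore (N := ((S : Subgroup X) ⊔ K).map (QuotientGroup.mk' (pPrimeCore p X))) ?_))
  have hKO : K.map (QuotientGroup.mk' (pPrimeCore p X)) = ⊥ := by
    rw [Subgroup.map_eq_bot_iff, QuotientGroup.ker_mk']
    exact le_pPrimeCore hKc
  rw [Subgroup.map_sup, hKO, sup_bot_eq]
  exact S.isPGroup'.map _

end Solvable

section Ambient

variable {G : Type*} [Group G] [Finite G]

theorem card_map_coprime {X : Subgroup G} {Y : Subgroup X} (h : (Nat.card Y).Coprime p) :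
    (Nat.card (Y.map X.subtype)).Coprime p := by rwa [card_map_subtype]

theorem subgroupOf_normalizer {X A Y : Subgroup G} (hA : A ≤ Subgroup.normalizer (Y : Set G))
    (hYX : Y ≤ X) :
    A.subgroupOf X ≤ Subgroup.normalizer ((Y.subgroupOf X : Subgroup X) : Set X) := by
  intro a ha
  refine Subgroup.mem_normalizer_fintype fun y hy => Subgroup.mem_subgroupOf.2 ?_
  exact (Subgroup.mem_normalizer_iff.1 (hA (Subgroup.mem_subgroupOf.1 ha)) y).1
    (Subgroup.mem_subgroupOf.1 hy)

/-- `O_{p'}(C(b)) ∩ X ≤ O_{p'}(X)` for a solvable `X` containing the `p`-element `b`. -/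
theorem balance_le {X : Subgroup G} [Group.IsSolvable X] {b : G} (hbX : b ∈ X)
    (hb : ∃ k : ℕ, b ^ p ^ k = 1) :
    (pPrimeCore p (Subgroup.centralizer ({b} : Set G))).map
        (Subgroup.centralizer ({b} : Set G)).subtype ⊓ X ≤ (pPrimeCore p X).map X.subtype := by
  set C := Subgroup.centralizer ({b} : Set G)
  set W := (pPrimeCore p C).map C.subtype ⊓ X with hW
  set P := (Subgroup.zpowers b).subgroupOf X with hP
  have hPp : IsPGroup p P := by
    refine IsPGroup.comap_of_injective ?_ X.subtype X.subtype_injective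
    obtain ⟨k, hk⟩ := hb
    obtain ⟨j, -, hj⟩ := (Nat.dvd_prime_pow hp.out).1 (orderOf_dvd_of_pow_eq_one hk)
    exact IsPGroup.of_card (n := j) (by rw [Nat.card_zpowers, hj])
  have h1 : W.subgroupOf X ≤ pPrimeCore p X := by
    refine le_pPrimeCore_of_centralizes hPp ?_ ?_ ?_
    · rw [card_subgroupOf inf_le_right]
      exact (card_map_coprime (pPrimeCore_coprime _ p)).coprime_dvd_left
        (Subgroup.card_dvd_of_le inf_le_left)
    · intro x hx
      rw [Subgroup.mem_centralizer_iff]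
      intro y hy
      obtain ⟨i, hi⟩ := Subgroup.mem_zpowers_iff.1 (Subgroup.mem_subgroupOf.1 hy)
      have hxc : (x : G) ∈ C := Subgroup.map_subtype_le _ (Subgroup.mem_subgroupOf.1 hx).1
      refine Subtype.ext ?_
      show (y : G) * x = x * y
      rw [← hi]
      exact ((show Commute b x from (Subgroup.mem_centralizer_singleton_iff.1 hxc).symm).zpow_left i).eq
    · intro g hg
      have hgc : (g : G) ∈ C := Subgroup.mem_centralizer_singleton_iff.2
        (congrArg Subtype.val (Subgroup.mem_centralizer_iff.1 hg ⟨b, hbX⟩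
          (Subgroup.mem_subgroupOf.2 (Subgroup.mem_zpowers b)))).symm
      haveI := pPrimeCore_normal C p
      refine Subgroup.mem_normalizer_fintype fun y hy => Subgroup.mem_subgroupOf.2 ⟨?_, (g * y * g⁻¹).2⟩
      obtain ⟨z, hz, hze⟩ := (Subgroup.mem_subgroupOf.1 hy).1
      exact ⟨⟨g, hgc⟩ * z * ⟨g, hgc⟩⁻¹, Subgroup.Normal.conj_mem inferInstance z hz _, by
        show (g : G) * z * (g : G)⁻¹ = (g : G) * y * (g : G)⁻¹
        rw [show (z : G) = y from hze]⟩
  intro x hx
  exact ⟨⟨x, hx.2⟩, h1 (Subgroup.mem_subgroupOf.2 hx), rfl⟩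

/-- For `A ∈ SCN(P)` every `p`-element centralising `A` lies in `A`. -/
theorem full_of_scn (P : Sylow p G) {A : Subgroup G} (hA : IsSCN (P : Subgroup G) A) {x : G}
    (hx : x ∈ Subgroup.centralizer (A : Set G)) (hxp : ∃ j : ℕ, x ^ p ^ j = 1) : x ∈ A := by
  obtain ⟨hAP, hPN, hself⟩ := hA
  set N := Subgroup.normalizer (A : Set G)
  set C := Subgroup.centralizer (A : Set G)
  haveI : (C.subgroupOf N).Normal := by
    refine Subgroup.normal_subgroupOf_of_le_normalizer ?_
    intro g hg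
    refine Subgroup.mem_normalizer_fintype fun c hc => Subgroup.mem_centralizer_iff.2 fun y hy => ?_
    have h1 : g⁻¹ * y * g ∈ A := by
      simpa using (Subgroup.mem_normalizer_iff.1 (inv_mem hg) y).1 hy
    have h2 := Subgroup.mem_centralizer_iff.1 hc _ h1
    calc y * (g * c * g⁻¹) = g * ((g⁻¹ * y * g) * c) * g⁻¹ := by group
      _ = g * (c * (g⁻¹ * y * g)) * g⁻¹ := by rw [h2]
      _ = _ := by group
  have hCN : C ≤ N := Subgroup.centralizer_le_normalizer _
  have hAC : A ≤ C := hself ▸ inf_le_right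
  set Z := Subgroup.zpowers x ⊔ A with hZ
  have hxN : x ∈ N := hCN hx
  have hZp : IsPGroup p Z := by
    obtain ⟨j, hj⟩ := hxp
    obtain ⟨i, -, hi⟩ := (Nat.dvd_prime_pow hp.out).1 (orderOf_dvd_of_pow_eq_one hj)
    exact (IsPGroup.of_card (n := i) (by rw [Nat.card_zpowers, hi])).to_sup_of_normal_right'
      (P.isPGroup'.to_le hAP) (Subgroup.zpowers_le.2 hxN)
  have hZC : Z ≤ C := sup_le (Subgroup.zpowers_le.2 hx) hAC
  set PN : Sylow p N := P.subtype hPN
  obtain ⟨Q, hQ⟩ := (hZp.comap_of_injective N.subtype N.subtype_injective :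
    IsPGroup p (Z.subgroupOf N)).exists_le_sylow
  obtain ⟨n, hn⟩ := MulAction.exists_smul_eq N Q PN
  have hxQ : (⟨x, hxN⟩ : N) ∈ (Q : Subgroup N) :=
    hQ (Subgroup.mem_subgroupOf.2 (Subgroup.mem_sup_left (Subgroup.mem_zpowers x)))
  have h1 : n * ⟨x, hxN⟩ * n⁻¹ ∈ (PN : Subgroup N) := by
    rw [← hn, Sylow.coe_subgroup_smul]
    exact mem_conj_smul_iff.2 (by simpa [mul_assoc] using hxQ)
  have h2 : (n : G) * x * (n : G)⁻¹ ∈ A := by
    rw [← hself]
    refine ⟨h1, ?_⟩
    exact Subgroup.mem_subgroupOf.1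
      ((inferInstance : (C.subgroupOf N).Normal).conj_mem ⟨x, hxN⟩ (Subgroup.mem_subgroupOf.2 hx) n)
  exact (Subgroup.mem_normalizer_iff.1 n.2 x).2 h2

theorem sup_zpowers_normal_abelian {S T : Subgroup G} (hTS : T ≤ S)
    (hS : S ≤ Subgroup.normalizer (T : Set G)) :
    S ≤ Subgroup.normalizer ((T ⊓ Subgroup.centralizer (T : Set G) : Subgroup G) : Set G) ∧
      IsMulCommutative (T ⊓ Subgroup.centralizer (T : Set G) : Subgroup G) ∧
      T ⊓ Subgroup.centralizer (T : Set G) ≤ S := by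
  refine ⟨le_normalizer_inf_of_le hS fun g hg => ?_,
    ⟨⟨fun a b => Subtype.ext (Subgroup.mem_centralizer_iff.1 b.2.2 a a.2.1)⟩⟩, inf_le_left.trans hTS⟩
  refine Subgroup.mem_normalizer_fintype fun c hc => Subgroup.mem_centralizer_iff.2 fun y hy => ?_
  have h1 : g⁻¹ * y * g ∈ T := by
    simpa using (Subgroup.mem_normalizer_iff.1 (inv_mem (hS hg)) y).1 hy
  have h2 := Subgroup.mem_centralizer_iff.1 hc _ h1
  calc y * (g * c * g⁻¹) = g * ((g⁻¹ * y * g) * c) * g⁻¹ := by group
    _ = g * (c * (g⁻¹ * y * g)) * g⁻¹ := by rw [h2]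
    _ = _ := by group

/-- An abelian subgroup normal in a Sylow subgroup of the solvable odd order group `H` lies in
`O_{p',p}(H)`. -/
theorem subgroupOf_le {H : Subgroup G} [Group.IsSolvable H] (hodd : Odd (Nat.card H)) (S : Sylow p H)
    {Z : Subgroup G} (hZS : Z ≤ (S : Subgroup H).map H.subtype) (hZc : IsMulCommutative Z)
    (hn : (S : Subgroup H).map H.subtype ≤ Subgroup.normalizer (Z : Set G)) :
    Z.subgroupOf H ≤ pPrimePCore p H := by
  refine Cfsg.Agent.S1457.result hodd p S _ ?_ ?_ ?_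
  · intro z hz
    obtain ⟨w, hw, e⟩ := hZS (Subgroup.mem_subgroupOf.1 hz)
    rwa [← Subtype.ext e]
  · exact ⟨⟨fun a b => Subtype.ext (Subtype.ext (congrArg (fun w : Z => (w : G))
      (hZc.is_comm.comm ⟨((a : H) : G), Subgroup.mem_subgroupOf.1 a.2⟩
        ⟨((b : H) : G), Subgroup.mem_subgroupOf.1 b.2⟩)))⟩⟩
  · intro s hs
    refine Subgroup.mem_normalizer_fintype fun z hz => Subgroup.mem_subgroupOf.2 ?_
    exact (Subgroup.mem_normalizer_iff.1 (hn (Subgroup.mem_map_of_mem H.subtype hs)) z).1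
      (Subgroup.mem_subgroupOf.1 hz)

/-- A subgroup of index dividing `p` in a `p`-group is normalised by it. -/
theorem le_normalizer_of_relIndex {T S : Subgroup G} (hS : IsPGroup p S) (hTS : T ≤ S)
    (h : Nat.card S ∣ p * Nat.card T) : S ≤ Subgroup.normalizer (T : Set G) := by
  rcases eq_or_lt_of_le hTS with e | hlt
  · exact e ▸ Subgroup.le_normalizer
  have h1 := CfsgLib.OddLocal.Trans.lt_inf_normalizer (q := p) hS hlt
  set U := S ⊓ Subgroup.normalizer (T : Set G) with hU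
  obtain ⟨i, hi⟩ := IsPGroup.iff_card.1 (hS.to_le hTS : IsPGroup p T)
  obtain ⟨j, hj⟩ := IsPGroup.iff_card.1 (hS.to_le inf_le_left : IsPGroup p U)
  have hij : i < j := by
    by_contra hji
    refine h1.ne (Subgroup.eq_of_le_of_card_ge h1.le ?_)
    rw [hi, hj]; exact Nat.pow_le_pow_right hp.out.pos (not_lt.1 hji)
  have h2 : U = S := by
    refine Subgroup.eq_of_le_of_card_ge inf_le_left ?_
    refine (Nat.le_of_dvd (Nat.mul_pos hp.out.pos Nat.card_pos) h).trans ?_
    rw [hi, hj, ← pow_succ']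
    exact Nat.pow_le_pow_right hp.out.pos hij
  exact h2 ▸ inf_le_right

variable (hG : IsMinSimpleOddOrder G) {A : Subgroup G} (hAp : IsPGroup p A)

include hG

theorem ne_two (h : p ∣ Nat.card G) : p ≠ 2 := by
  rintro rfl
  exact (Nat.not_even_iff_odd.2 hG.1) (even_iff_two_dvd.2 h)

/-- The case `A = Ω₁(C(A))` with proper subgroups of `p`-length one. -/
theorem inv_le_case_a (hp2 : p ≠ 2)
    (hC : ∀ x ∈ Subgroup.centralizer (A : Set G), x ^ p = 1 → x ∈ A)
    {X : Subgroup G} (hX : X ≠ ⊤) (hpl : PLengthLE p 1 X) (hAX : A ≤ X) (hAp : IsPGroup p A)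
    {Y : Subgroup G} (hYX : Y ≤ X) (hY : (Nat.card Y).Coprime p)
    (hAY : A ≤ Subgroup.normalizer (Y : Set G)) : Y ≤ (pPrimeCore p X).map X.subtype := by
  haveI := CfsgLib.OddLocal.Trans.solvable_proper hG hX
  have hAp' : IsPGroup p (A.subgroupOf X) := hAp.comap_of_injective X.subtype X.subtype_injective
  have h := le_pPrimeCore_of_test hAp' (le_of_plength_one hpl hAp')
    (Y := Y.subgroupOf X) (by rwa [card_subgroupOf hYX]) (subgroupOf_normalizer hAY hYX)
    (Or.inr ⟨hp2, fun x hx hxp => Subgroup.mem_subgroupOf.2 (hC x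
      (Subgroup.mem_centralizer_iff.2 fun a ha => congrArg Subtype.val
        (Subgroup.mem_centralizer_iff.1 hx ⟨a, hAX ha⟩ (Subgroup.mem_subgroupOf.2 ha)))
      (congrArg Subtype.val hxp))⟩)
  intro y hy
  exact ⟨⟨y, hYX hy⟩, h (Subgroup.mem_subgroupOf.2 hy), rfl⟩

/-- The case `A ∈ SCN(P)` noncyclic. -/
theorem inv_le_case_b (hp2 : p ≠ 2) (P : Sylow p G) (hA : IsSCN (P : Subgroup G) A)
    (hAc : IsMulCommutative A) (hr : ¬ PRankLE p 1 A) {X : Subgroup G} (hX : X ≠ ⊤) (hAX : A ≤ X)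
    {Y : Subgroup G} (hYX : Y ≤ X) (hY : (Nat.card Y).Coprime p)
    (hAY : A ≤ Subgroup.normalizer (Y : Set G)) : Y ≤ (pPrimeCore p X).map X.subtype := by
  haveI := CfsgLib.OddLocal.Trans.solvable_proper hG hX
  obtain ⟨hAP, hPN, -⟩ := id hA
  have hAp : IsPGroup p A := P.isPGroup'.to_le hAP
  -- a normal elementary subgroup of order `p ^ 2`
  have hnc : ¬ IsCyclic A := by
    intro hcyc
    refine hr fun E hE hEp => ?_
    haveI : IsCyclic E := Subgroup.isCyclic E
    rw [pow_one, ← IsCyclic.exponent_eq_card]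
    exact Nat.le_of_dvd hp.out.pos (Monoid.exponent_dvd_of_forall_pow_eq_one fun x =>
      Subtype.ext (hEp x x.2))
  haveI hAPn : (A.subgroupOf (P : Subgroup G)).Normal := Subgroup.normal_subgroupOf_of_le_normalizer hPN
  obtain ⟨B₀, hB₀A, hB₀n, hB₀e, hB₀c⟩ := exists_normal_rank_two_le hp2 P.isPGroup'
    (A.subgroupOf (P : Subgroup G))
    (fun h => hnc ((Subgroup.subgroupOfEquivOfLe hAP).isCyclic.1 h))
  haveI := hB₀n
  set B := B₀.map (P : Subgroup G).subtype with hB
  have hBA : B ≤ A := (Subgroup.map_mono hB₀A).trans (Subgroup.map_subgroupOf_eq_of_le hAP).le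
  have hBP : B ≤ P := Subgroup.map_subtype_le _
  have hBcard : Nat.card B = p ^ 2 := by rw [hB, card_map_subtype, hB₀c]
  have hB₀1 : B₀ ≠ ⊥ := fun e => by
    rw [e, Subgroup.card_bot] at hB₀c
    exact (Nat.one_lt_pow two_ne_zero hp.out.one_lt).ne hB₀c
  obtain ⟨z₀, hz₀, hz₀1⟩ := (B₀ ⊓ Subgroup.center (P : Subgroup G)).bot_or_exists_ne_one.resolve_left
    (CfsgLib.Perm.inf_center_ne_bot P.isPGroup' B₀ hB₀1)
  set z : G := (z₀ : G)
  have hz1 : z ≠ 1 := fun e => hz₀1 (Subtype.ext e)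
  have hzB : z ∈ B := Subgroup.mem_map_of_mem _ hz₀.1
  have hPz : (P : Subgroup G) ≤ Subgroup.centralizer ({z} : Set G) := fun x hx =>
    Subgroup.mem_centralizer_singleton_iff.2
      (congrArg Subtype.val (Subgroup.mem_center_iff.1 hz₀.2 ⟨x, hx⟩))
  have hpow : ∀ b ∈ B, ∃ k : ℕ, b ^ p ^ k = 1 := fun b hb => by
    obtain ⟨k, hk⟩ := hAp ⟨b, hBA hb⟩
    exact ⟨k, congrArg Subtype.val hk⟩
  set Hz := Subgroup.centralizer ({z} : Set G)
  have hHz : Hz ≠ ⊤ := CfsgLib.OddLocal.Trans.centralizer_singleton_ne_top hG hz1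
  haveI := CfsgLib.OddLocal.Trans.solvable_proper hG hHz
  have hoddOf : ∀ H : Subgroup G, Odd (Nat.card H) := fun H => hG.1.of_dvd_nat H.card_subgroup_dvd_card
  -- invariant subgroups of `C(z)`
  have hzcase : ∀ U : Subgroup G, U ≤ Hz → (Nat.card U).Coprime p →
      A ≤ Subgroup.normalizer (U : Set G) → U ≤ (pPrimeCore p Hz).map Hz.subtype := by
    intro U hUH hU hAU
    have hAH : A ≤ Hz := hAP.trans hPz
    set PH : Sylow p Hz := P.subtype hPz
    have hAR : A.subgroupOf Hz ≤ pPrimePCore p Hz := subgroupOf_le (hoddOf Hz) PH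
      (by rw [P.coe_subtype, Subgroup.map_subgroupOf_eq_of_le hPz]; exact hAP) hAc
      (by rw [P.coe_subtype, Subgroup.map_subgroupOf_eq_of_le hPz]; exact hPN)
    have h := le_pPrimeCore_of_test (hAp.comap_of_injective Hz.subtype Hz.subtype_injective) hAR
      (Y := U.subgroupOf Hz) (by rwa [card_subgroupOf hUH]) (subgroupOf_normalizer hAU hUH)
      (Or.inl fun S hAS s hs => by
        obtain ⟨j, hj⟩ := S.isPGroup' ⟨s, hs.1⟩
        refine Subgroup.mem_subgroupOf.2 (full_of_scn P hA (Subgroup.mem_centralizer_iff.2 fun a ha => ?_)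
          ⟨j, congrArg (fun t : (S : Subgroup Hz) => ((t : Hz) : G)) hj⟩)
        exact congrArg Subtype.val (Subgroup.mem_centralizer_iff.1 hs.2 ⟨a, hAH ha⟩
          (Subgroup.mem_subgroupOf.2 ha)))
    intro y hy
    exact ⟨⟨y, hUH hy⟩, h (Subgroup.mem_subgroupOf.2 hy), rfl⟩
  -- invariant subgroups of `C(b)`
  have hbcase : ∀ b ∈ B, b ≠ 1 → ∀ U : Subgroup G, U ≤ Subgroup.centralizer ({b} : Set G) →
      (Nat.card U).Coprime p → A ≤ Subgroup.normalizer (U : Set G) →
      U ≤ (pPrimeCore p (Subgroup.centralizer ({b} : Set G))).map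
        (Subgroup.centralizer ({b} : Set G)).subtype := by
    intro b hb hb1 U hUH hU hAU
    set H := Subgroup.centralizer ({b} : Set G)
    haveI := CfsgLib.OddLocal.Trans.solvable_proper hG
      (CfsgLib.OddLocal.Trans.centralizer_singleton_ne_top hG hb1)
    set T := (P : Subgroup G) ⊓ H with hT
    have hidx : Nat.card (P : Subgroup G) ∣ p * Nat.card T := by
      have h1 := index_centralizer_normal_sq P.isPGroup' B₀ hB₀c
      obtain ⟨b₀, hb₀, hbe⟩ := hb
      have h2 : Subgroup.centralizer (B₀ : Set (P : Subgroup G)) ≤ H.subgroupOf (P : Subgroup G) :=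
        fun x hx => Subgroup.mem_subgroupOf.2 (Subgroup.mem_centralizer_singleton_iff.2 (by
          rw [← hbe]; exact congrArg Subtype.val (Subgroup.mem_centralizer_iff.1 hx b₀ hb₀).symm))
      have h3 := (Subgroup.index_dvd_of_le h2).trans h1
      have e : Nat.card (H.subgroupOf (P : Subgroup G)) = Nat.card T := by
        rw [hT, ← card_map_subtype _ (H.subgroupOf (P : Subgroup G)),
          Subgroup.subgroupOf_map_subtype, inf_comm]
      rw [← Subgroup.index_mul_card (H.subgroupOf (P : Subgroup G)), e]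
      exact mul_dvd_mul h3 dvd_rfl
    obtain ⟨S, hS⟩ := (P.isPGroup'.to_le (inf_le_left : T ≤ P) : IsPGroup p T).comap_of_injective
      H.subtype H.subtype_injective |>.exists_le_sylow
    set S' := (S : Subgroup H).map H.subtype
    have hTS : T ≤ S' := fun t ht => ⟨⟨t, ht.2⟩, hS (Subgroup.mem_subgroupOf.2 ht), rfl⟩
    have hSN : S' ≤ Subgroup.normalizer (T : Set G) := by
      refine le_normalizer_of_relIndex (S.isPGroup'.map _) hTS (dvd_trans ?_ hidx)
      obtain ⟨Q, hQ⟩ := (S.isPGroup'.map H.subtype : IsPGroup p S').exists_le_sylow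
      exact (Subgroup.card_dvd_of_le hQ).trans (dvd_of_eq ((Q.card_eq_multiplicity).trans
        P.card_eq_multiplicity.symm))
    obtain ⟨hn, hc, hle⟩ := sup_zpowers_normal_abelian hTS hSN
    have hAH : A ≤ H := fun a ha => Subgroup.mem_centralizer_singleton_iff.2
      (congrArg Subtype.val (hAc.is_comm.comm ⟨a, ha⟩ ⟨b, hBA hb⟩))
    have hzT : z ∈ T ⊓ Subgroup.centralizer (T : Set G) := ⟨⟨hBP hzB, hAH (hBA hzB)⟩,
      Subgroup.mem_centralizer_iff.2 fun t ht => Subgroup.mem_centralizer_singleton_iff.1 (hPz ht.1)⟩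
    have hzR : (Subgroup.zpowers z).subgroupOf H ≤ pPrimePCore p H :=
      (Subgroup.comap_mono (Subgroup.zpowers_le.2 hzT)).trans (subgroupOf_le (hoddOf H) S hle hc hn)
    haveI := pPrimeCore_normal H p
    set f := QuotientGroup.mk' (pPrimeCore p H)
    have hAzU : Subgroup.zpowers z ≤ Subgroup.normalizer (U : Set G) :=
      (Subgroup.zpowers_le.2 (hBA hzB)).trans hAU
    have hcz := map_le_centralizer hzR (Y := U.subgroupOf H) (by rwa [card_subgroupOf hUH])
      (subgroupOf_normalizer hAzU hUH)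
    set O := (pPrimeCore p H).map H.subtype
    have hcop : (Nat.card (Subgroup.zpowers z)).Coprime (Nat.card U) := by
      obtain ⟨k, hk⟩ := hpow z hzB
      exact (hU.symm.pow_left k).coprime_dvd_left
        (by rw [Nat.card_zpowers]; exact orderOf_dvd_of_pow_eq_one hk)
    haveI : IsMulCommutative (Subgroup.zpowers z) := inferInstance
    suffices hsup : ⁅U, Subgroup.zpowers z⁆ ⊔
        (U ⊓ Subgroup.centralizer ((Subgroup.zpowers z : Subgroup G) : Set G)) ≤ O by
      intro u hu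
      obtain ⟨x, hx, c, hc', rfl⟩ := commutator_sup_inf_centralizer hAzU hcop
        (Or.inl (isSolvable_of_isMulCommutative _)) u hu
      exact hsup (Subgroup.mul_mem_sup hx hc')
    refine sup_le ?_ fun u hu => ?_
    · rw [Subgroup.commutator_le]
      intro u hu w hw
      have hwH : w ∈ H := (Subgroup.zpowers_le.2 (hAH (hBA hzB))) hw
      have h1 := Subgroup.mem_centralizer_iff.1 (hcz (Subgroup.mem_map_of_mem f
        (show (⟨u, hUH hu⟩ : H) ∈ U.subgroupOf H from Subgroup.mem_subgroupOf.2 hu))) (f ⟨w, hwH⟩)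
        (Subgroup.mem_map_of_mem f (Subgroup.mem_subgroupOf.2 hw))
      refine ⟨⁅(⟨u, hUH hu⟩ : H), ⟨w, hwH⟩⁆, (QuotientGroup.eq_one_iff _).1 ?_, rfl⟩
      show f ⁅(⟨u, hUH hu⟩ : H), ⟨w, hwH⟩⁆ = 1
      rw [map_commutatorElement, commutatorElement_eq_one_iff_mul_comm]
      exact h1.symm
    · obtain ⟨hu1, hu2⟩ := Subgroup.mem_inf.1 hu
      have hAUz : A ≤ Subgroup.normalizer ((U ⊓ Hz : Subgroup G) : Set G) :=
        le_normalizer_inf_of_le hAU ((hAP.trans hPz).trans Subgroup.le_normalizer)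
      have h1 := hzcase (U ⊓ Hz) inf_le_right
        (hU.coprime_dvd_left (Subgroup.card_dvd_of_le inf_le_left)) hAUz
        ⟨hu1, Subgroup.mem_centralizer_singleton_iff.2
          (Subgroup.mem_centralizer_iff.1 hu2 z (Subgroup.mem_zpowers z)).symm⟩
      exact balance_le (hAH (hBA hzB)) (hpow z hzB) ⟨h1, hUH hu1⟩
  haveI : IsMulCommutative B := ⟨⟨fun a b => Subtype.ext (congrArg (fun w : A => (w : G))
    (hAc.is_comm.comm ⟨a, hBA a.2⟩ ⟨b, hBA b.2⟩))⟩⟩
  have hBnc : ¬ IsCyclic B := by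
    intro h
    have h1 : Monoid.exponent B ∣ p := by
      refine Monoid.exponent_dvd_of_forall_pow_eq_one fun x => ?_
      obtain ⟨w, hw, hwe⟩ := x.2
      refine Subtype.ext ?_
      rw [Subgroup.coe_pow, ← hwe, ← map_pow, hB₀e.2 w hw, map_one]; rfl
    rw [IsCyclic.exponent_eq_card, hBcard] at h1
    have := Nat.le_of_dvd hp.out.pos h1
    nlinarith [hp.out.two_le]
  refine le_of_noncyclic_centralizers hBnc (hBA.trans hAY) ?_ fun b hb hb1 => ?_
  · rw [hBcard]; exact hY.symm.pow_left 2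
  have hAb : A ≤ Subgroup.centralizer ({b} : Set G) := fun a ha =>
    Subgroup.mem_centralizer_singleton_iff.2
      (congrArg Subtype.val (hAc.is_comm.comm ⟨a, ha⟩ ⟨b, hBA hb⟩))
  have h1 := hbcase b hb hb1 (Y ⊓ Subgroup.centralizer ({b} : Set G)) inf_le_right
    (hY.coprime_dvd_left (Subgroup.card_dvd_of_le inf_le_left))
    (le_normalizer_inf_of_le hAY (hAb.trans Subgroup.le_normalizer))
  exact (le_inf h1 (inf_le_left.trans hYX)).trans (balance_le (hAX (hBA hb)) (hpow b hb))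

end Ambient

end CfsgLib.OddLocal.TransHyp
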