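import Cfsg.Agent.OddLocal.UniqueBasic
import Cfsg.Agent.OddLocal.BenderMax
import Cfsg.Agent.Solv.Engel
import Cfsg.Agent.Solv.WielandtLocal
import Cfsg.Agent.S1396
import Cfsg.Agent.S1886

/-!
Bender–Glauberman, Theorem 8.3: large elementary subgroups of the Fitting subgroup of a maximal
subgroup give members of the family of subgroups lying in a unique maximal subgroup.
-/

set_option autoImplicit false
set_option linter.style.haveILetI false
set_option linter.unusedSectionVars false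

open Cfsg CfsgLib.Solv
open scoped commutatorElement

namespace CfsgLib.OddLocal.FitUniq

open Uniq Bender

variable {G : Type*} [Group G] [Finite G]

theorem fittingOf_le_self (M : Subgroup G) : fittingOf M ≤ M := Subgroup.map_subtype_le _

theorem normalizes_fittingOf (M : Subgroup G) : M ≤ Subgroup.normalizer (fittingOf M : Set G) := by
  intro x hx
  haveI := CfsgLib.Solv.fittingSubgroup_normal M
  exact map_le_normalizer (x := ⟨x, hx⟩)
    (Subgroup.normalizer_eq_top_iff.2 (inferInstance : (fittingSubgroup M).Normal) ▸ Subgroup.mem_top _)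

theorem isNilpotent_fittingOf (M : Subgroup G) : Group.IsNilpotent (fittingOf M) := by
  haveI := CfsgLib.Solv.fittingSubgroup_isNilpotent (G := M)
  exact Group.nilpotent_of_mulEquiv
    ((fittingSubgroup M).equivMapOfInjective M.subtype M.subtype_injective)

/-- The `p`-subgroups of `F(M)` lie in `O_p(M)`. -/
theorem le_opc_of_le_fittingOf {M E : Subgroup G} {p : ℕ} [Fact p.Prime] (hEF : E ≤ fittingOf M)
    (hE : IsPGroup p E) : E ≤ opc p M := by
  intro e he
  obtain ⟨w, hw, hwe⟩ := hEF he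
  obtain ⟨k, hk⟩ := hE ⟨e, he⟩
  refine ⟨w, mem_pCore_of_mem_fitting (k := k) hw (M.subtype_injective ?_), hwe⟩
  rw [map_pow, hwe, map_one]
  exact congrArg Subtype.val hk

theorem normalizes_opc_le (M : Subgroup G) (r : ℕ) : M ≤ Subgroup.normalizer (opc r M : Set G) :=
  Subgroup.le_normalizer.trans (normalizes_opc r M)

theorem opc_comm (M : Subgroup G) {r q : ℕ} [Fact r.Prime] [Fact q.Prime] (h : r ≠ q) :
    opc r M ≤ Subgroup.centralizer (opc q M : Set G) :=
  le_centralizer_of_normalizes ((Subgroup.map_subtype_le _).trans (normalizes_opc_le M q))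
    ((Subgroup.map_subtype_le _).trans (normalizes_opc_le M r))
    (disjoint_iff.1 (IsPGroup.disjoint_of_ne r q h _ _ (isPGroup_opc r M) (isPGroup_opc q M)))

theorem rank_of_le {A B : Subgroup G} {p k : ℕ} (h : A ≤ B) (hB : PRankLE p k B) : PRankLE p k A := by
  intro C hC hCp
  have hc : IsMulCommutative (C.map (Subgroup.inclusion h)) := ⟨⟨by
    rintro ⟨_, a, ha, rfl⟩ ⟨_, b, hb, rfl⟩
    exact Subtype.ext (congrArg (fun z : C => Subgroup.inclusion h (z : A))
      (hC.is_comm.comm ⟨a, ha⟩ ⟨b, hb⟩))⟩⟩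
  have := hB _ hc (by
    rintro _ ⟨a, ha, rfl⟩
    rw [← map_pow, hCp a ha, map_one])
  rwa [Subgroup.card_map_of_injective (Subgroup.inclusion_injective h)] at this

theorem rank_of_map {S : Subgroup G} {B : Subgroup S} {p k : ℕ} (h : PRankLE p k (B.map S.subtype)) :
    PRankLE p k B := by
  intro C hC hCp
  set e := (B.equivMapOfInjective S.subtype S.subtype_injective).toMonoidHom
  have hc : IsMulCommutative (C.map e) := ⟨⟨by
    rintro ⟨_, a, ha, rfl⟩ ⟨_, b, hb, rfl⟩
    exact Subtype.ext (congrArg (fun z : C => e (z : B)) (hC.is_comm.comm ⟨a, ha⟩ ⟨b, hb⟩))⟩⟩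
  have := h _ hc (by
    rintro _ ⟨a, ha, rfl⟩
    rw [← map_pow, hCp a ha, map_one])
  rwa [Subgroup.card_map_of_injective
    (B.equivMapOfInjective S.subtype S.subtype_injective).injective] at this

variable (hG : IsMinSimpleOddOrder G) {M : Subgroup G} (hM : IsCoatom M)
include hG hM

/-- Elements of `M` centralising `F(M)` lie in `F(M)`. -/
theorem mem_fittingOf_of_centralizes {x : G} (hxM : x ∈ M)
    (hx : x ∈ Subgroup.centralizer (fittingOf M : Set G)) : x ∈ fittingOf M := by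
  haveI := Trans.solvable_proper hG hM.1
  exact ⟨⟨x, hxM⟩, centralizer_fittingSubgroup_le (Subgroup.mem_centralizer_iff.2 fun w hw =>
    Subtype.ext (Subgroup.mem_centralizer_iff.1 hx w (Subgroup.mem_map_of_mem _ hw))), rfl⟩

/-- A subgroup of `F(M)` with the transitivity hypothesis, all primes of `F(M)` and centre of rank
three has no nontrivial invariant subgroups avoiding those primes. -/
theorem inv_eq_bot {p : ℕ} [Fact p.Prime] {X B : Subgroup G} (hX : TransitivityHypothesis X)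
    (hXF : X ≤ fittingOf M)
    (hπ : ∀ r : ℕ, r.Prime → r ∣ Nat.card (fittingOf M) → r ∣ Nat.card X)
    (hB : IsElementaryAbelian p B) (hB3 : p ^ 3 ≤ Nat.card B)
    (hBX : B ≤ X ⊓ Subgroup.centralizer (X : Set G))
    {Y : Subgroup G} (hY : Y ∈ invSubgroups ⊤ X (primesNotDvd (Nat.card (fittingOf M)))) :
    Y = ⊥ := by
  set F := fittingOf M with hF
  haveI hFnil : Group.IsNilpotent F := isNilpotent_fittingOf M
  haveI hXnil : Group.IsNilpotent X :=
    Group.nilpotent_of_mulEquiv (Subgroup.subgroupOfEquivOfLe hXF)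
  have hcop : (Nat.card X).Coprime (Nat.card Y) := Nat.coprime_of_dvd fun r hr h1 h2 =>
    (hY.2.1 r hr h2).2 (h1.trans (Subgroup.card_dvd_of_le hXF))
  refine le_bot_iff.1 (le_of_forall_invariant_pGroup hY.2.2 hcop (Or.inl inferInstance)
    fun q U hq hU hUY hXU => ?_)
  by_contra hU1
  haveI := Fact.mk hq
  have hqF : ¬ q ∣ Nat.card F := by
    obtain ⟨k, hk⟩ := IsPGroup.iff_card.1 hU
    have hk0 : k ≠ 0 := fun e => hU1 (Subgroup.card_eq_one.1 (by rw [hk, e, pow_zero])).le
    exact (hY.2.1 q hq (((dvd_pow_self q hk0).trans hk.symm.dvd).trans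
      (Subgroup.card_dvd_of_le hUY))).2
  have hqX : ¬ q ∣ Nat.card X := fun h => hqF (h.trans (Subgroup.card_dvd_of_le hXF))
  have hgood : Trans.Good X q F := Trans.good_of_subnormal hG hX hqX hπ hXF
    (isSubnormal_of_isNilpotent _)
    ⟨fun Q₁ h₁ Q₂ h₂ => Trans.conj_of_rank_three hG hX hqX hB hB3 hBX h₁ h₂, subset_rfl⟩
  have hF1 : F ≠ ⊥ := fun e => hX.1 (le_bot_iff.1 (e ▸ hXF))
  have hFt : F ≠ ⊤ := fun e => hM.1 (top_le_iff.1 (e ▸ fittingOf_le_self M))
  have hFn : M ≤ Subgroup.normalizer (F : Set G) := normalizes_fittingOf M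
  set W := piCoreOf (Trans.pc X) (Subgroup.centralizer (F : Set G))
  have hW : W = ⊥ := by
    have hWC : W ≤ Subgroup.centralizer (F : Set G) := Trans.piCoreOf_le _ _
    have hWM : W ≤ M := hWC.trans ((Subgroup.centralizer_le_normalizer _).trans
      (Uniq.normalizer_eq hG hM hF1 hFt hFn).le)
    have hWF : W ≤ F := fun x hx => mem_fittingOf_of_centralizes hG hM (hWM hx) (hWC hx)
    have h1 := inf_eq_bot_of_coprime_card (A := F) (K := W)
      (Trans.coprime_of_piNat hπ (Trans.piNat_piCoreOf _ _))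
    rwa [inf_eq_right.2 hWF] at h1
  obtain ⟨Q₀, hQ₀, -⟩ := Trans.exists_max_ge (P := F) (U := ⊥) (q := q)
    (Trans.mem_inv_of_isPGroup le_top IsPGroup.of_bot
      (le_top.trans (Subgroup.normalizer_eq_top (H := (⊥ : Subgroup G))).ge))
  have hQ₀n : M ≤ Subgroup.normalizer (Q₀ : Set G) := by
    intro m hm
    obtain ⟨k, hk, hke⟩ := hgood.1 Q₀ hQ₀ _ (Trans.conj_max m (hFn hm) hQ₀)
    change k ∈ W at hk
    rw [hW, Subgroup.mem_bot] at hk
    rw [hk, Trans.map_conj_one] at hke
    exact Subgroup.mem_normalizer_iff_map_conj_eq.2 hke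
  have hQ₀1 : Q₀ = ⊥ := by
    by_contra hne
    have hQq := Trans.inv_isPGroup hQ₀.1
    have hQt : Q₀ ≠ ⊤ := Trans.ne_top_of_solvable hG (haveI := hQq.isNilpotent; inferInstance)
    have hQM : Q₀ ≤ M := Subgroup.le_normalizer.trans (Uniq.normalizer_eq hG hM hne hQt hQ₀n).le
    have h1 := Trans.le_piCoreOf (π := {s | s ∉ (Nat.card F).primeFactors}) hQM hQ₀n
      (PiNat.of_isPGroup hQq fun h => hqF (Nat.dvd_of_mem_primeFactors h))
    rw [piCoreOf_compl_eq_bot hG hM.1] at h1
    exact hne (le_bot_iff.1 h1)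
  obtain ⟨Q, hQ, hUQ⟩ := Trans.exists_max_ge (Trans.mem_inv_of_isPGroup (H := ⊤) le_top hU hXU)
  obtain ⟨k, -, hke⟩ := Trans.conj_of_rank_three hG hX hqX hB hB3 hBX (hgood.2 hQ₀) hQ
  rw [hQ₀1, Subgroup.map_bot] at hke
  exact hU1 (hke ▸ hUQ)

/-- BG 8.3(a). -/
theorem inUniqueMaximal_of_not_pGroup {p : ℕ} [hp : Fact p.Prime] {A₀ : Subgroup G}
    (hA₀ : A₀ ≤ fittingOf M) (hA₀e : IsElementaryAbelian p A₀) (hA₀3 : p ^ 3 ≤ Nat.card A₀)
    (hnp : ¬ IsPGroup p (fittingOf M)) :
    InUniqueMaximal (fittingOf M ⊓ Subgroup.centralizer (A₀ : Set G)) := by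
  set F := fittingOf M with hF
  set X := F ⊓ Subgroup.centralizer (A₀ : Set G) with hXdef
  haveI := Trans.solvable_proper hG hM.1
  have hXF : X ≤ F := inf_le_left
  have hXM : X ≤ M := hXF.trans (fittingOf_le_self M)
  have hA₀c : A₀ ≤ Subgroup.centralizer (A₀ : Set G) := fun x hx =>
    Subgroup.mem_centralizer_iff.2 fun a ha =>
      congrArg (fun w : A₀ => (w : G)) (hA₀e.1.is_comm.comm ⟨a, ha⟩ ⟨x, hx⟩)
  have hA₀X : A₀ ≤ X := le_inf hA₀ hA₀c
  have hA₀p : A₀ ≤ opc p M := le_opc_of_le_fittingOf hA₀ (isPGroup_elementary hA₀e)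
  have hOr : ∀ r : ℕ, r.Prime → r ≠ p → opc r M ≤ X := fun r hr hne =>
    haveI := Fact.mk hr
    le_inf (opc_le_fittingOf M hr) ((opc_comm M hne).trans (Subgroup.centralizer_le hA₀p))
  have hpA : p ∣ Nat.card A₀ := by
    obtain ⟨n, hn⟩ := Sig.card_eq_pow hA₀e
    rw [hn]
    refine dvd_pow_self p fun e => ?_
    rw [hn, e, pow_zero] at hA₀3
    exact absurd hA₀3 (not_le.2 (Nat.one_lt_pow (by norm_num) hp.out.one_lt))
  have hpF : p ∣ Nat.card F := hpA.trans (Subgroup.card_dvd_of_le hA₀)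
  have hπ : ∀ r : ℕ, r.Prime → r ∣ Nat.card F → r ∣ Nat.card X := by
    intro r hr hd
    by_cases h : r = p
    · exact h ▸ hpA.trans (Subgroup.card_dvd_of_le hA₀X)
    haveI := Fact.mk hr
    obtain ⟨k, hk⟩ := IsPGroup.iff_card.1 (isPGroup_opc r M)
    have hk0 : k ≠ 0 := fun e => opc_ne_bot hd (Subgroup.card_eq_one.1 (by rw [hk, e, pow_zero]))
    exact ((dvd_pow_self r hk0).trans hk.symm.dvd).trans (Subgroup.card_dvd_of_le (hOr r hr h))
  have hX1 : X ≠ ⊥ := fun e => by
    have h0 : A₀ = ⊥ := le_bot_iff.1 (hA₀X.trans e.le)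
    rw [h0, Subgroup.card_bot] at hA₀3
    exact absurd hA₀3 (not_le.2 (Nat.one_lt_pow (by norm_num) hp.out.one_lt))
  -- invariant `π'`-subgroups of `M` are trivial
  have hinM : ∀ Y : Subgroup G, Y ≤ M → X ≤ Subgroup.normalizer (Y : Set G) →
      PiNat (Trans.pc X) (Nat.card Y) → Y = ⊥ := by
    intro Y hYM hXY hY
    have hcopF : (Nat.card F).Coprime (Nat.card Y) := Trans.coprime_of_piNat hπ hY
    have hFY : F ⊓ Y = ⊥ := inf_eq_bot_of_coprime_card hcopF
    have hXC : X ≤ Subgroup.centralizer (Y : Set G) := by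
      intro x hx
      rw [Subgroup.mem_centralizer_iff]
      intro y hy
      have h1 : ⁅x, y⁆ ∈ F ⊓ Y := by
        refine Subgroup.mem_inf.2 ⟨?_, ?_⟩
        · rw [show ⁅x, y⁆ = x * (y * x⁻¹ * y⁻¹) by simp [commutatorElement_def, mul_assoc]]
          exact mul_mem (hXF hx)
            ((Subgroup.mem_normalizer_iff.1 (normalizes_fittingOf M (hYM hy)) _).1 (inv_mem (hXF hx)))
        · rw [commutatorElement_def]
          exact mul_mem ((Subgroup.mem_normalizer_iff.1 (hXY hx) y).1 hy) (inv_mem hy)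
      rw [hFY, Subgroup.mem_bot] at h1
      exact (commutatorElement_eq_one_iff_mul_comm.1 h1).symm
    have hcopp : (Nat.card Y).Coprime p :=
      (hcopF.coprime_dvd_left hpF).symm
    have hYp : Y ≤ Subgroup.centralizer (opc p M : Set G) := by
      refine thompson_pq (isPGroup_elementary hA₀e) hcopp (hA₀X.trans hXC) _ (isPGroup_opc p M)
        ((hA₀.trans (fittingOf_le_self M)).trans (normalizes_opc_le M p))
        (hYM.trans (normalizes_opc_le M p)) ?_
      exact le_trans (le_inf (inf_le_left.trans (opc_le_fittingOf M hp.out)) inf_le_right) hXC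
    have hYF : Y ≤ Subgroup.centralizer (F : Set G) := by
      refine Subgroup.le_centralizer_iff.1 (fittingOf_le M fun r hr => ?_)
      by_cases h : r = p
      · exact h ▸ Subgroup.le_centralizer_iff.1 hYp
      · exact (hOr r hr h).trans hXC
    have hle : Y ≤ F := fun y hy => mem_fittingOf_of_centralizes hG hM (hYM hy) (hYF hy)
    rwa [inf_eq_right.2 hle] at hFY
  -- the centres of the `O_r(M)`
  set π := (Nat.card F).primeFactors with hπdef
  have hpr : ∀ r ∈ π, r.Prime := fun r hr => Nat.prime_of_mem_primeFactors hr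
  have htwo : ∀ r ∈ π, ∃ t ∈ π, t ≠ r := by
    intro r _
    by_contra! hcon
    refine hnp (IsPGroup.of_card (n := (Nat.card F).primeFactorsList.length)
      (Nat.eq_prime_pow_of_unique_prime_dvd Nat.card_pos.ne' fun {d} hd hdd => ?_))
    rw [hcon d (Nat.mem_primeFactors.2 ⟨hd, hdd, Nat.card_pos.ne'⟩),
      ← hcon p (Nat.mem_primeFactors.2 ⟨hp.out, hpF, Nat.card_pos.ne'⟩)]
  let Z : ℕ → Subgroup G := fun r => opc r M ⊓ Subgroup.centralizer (opc r M : Set G)
  have hZX : ∀ r ∈ π, Z r ≤ X := by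
    intro r hr
    by_cases h : r = p
    · subst h
      exact le_inf (inf_le_left.trans (opc_le_fittingOf M hp.out))
        (inf_le_right.trans (Subgroup.centralizer_le hA₀p))
    · exact inf_le_left.trans (hOr r (hpr r hr) h)
  have hZp : ∀ r ∈ π, IsPGroup r (Z r) := fun r hr =>
    haveI := Fact.mk (hpr r hr); (isPGroup_opc r M).to_le inf_le_left
  have hZn : ∀ r, M ≤ Subgroup.normalizer (Z r : Set G) := fun r =>
    le_normalizer_inf_of_le (normalizes_opc_le M r)
      ((normalizes_opc_le M r).trans (normalizer_centralizer _))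
  have hZ1 : ∀ r ∈ π, Z r ≠ ⊥ := by
    intro r hr
    haveI := Fact.mk (hpr r hr)
    obtain ⟨z, hz, hz1⟩ := ((⊤ : Subgroup (opc r M)) ⊓
      Subgroup.center (opc r M)).bot_or_exists_ne_one.resolve_left
      (CfsgLib.Perm.inf_center_ne_bot (isPGroup_opc r M) ⊤ (by
        haveI : Nontrivial (opc r M) := (Subgroup.nontrivial_iff_ne_bot _).2
          (opc_ne_bot (Nat.dvd_of_mem_primeFactors hr))
        exact top_ne_bot))
    intro e
    have : (z : G) ∈ Z r := ⟨z.2, Subgroup.mem_centralizer_iff.2 fun y hy =>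
      congrArg Subtype.val (Subgroup.mem_center_iff.1 hz.2 ⟨y, hy⟩)⟩
    rw [e, Subgroup.mem_bot] at this
    exact hz1 (Subtype.ext this)
  have hZM : ∀ r ∈ π, Subgroup.normalizer (Z r : Set G) = M := fun r hr =>
    Uniq.normalizer_eq hG hM (hZ1 r hr)
      (fun e => hM.1 (top_le_iff.1 (e ▸ (hZX r hr).trans hXM))) (hZn r)
  -- the transitivity hypothesis
  have hT : TransitivityHypothesis X := by
    refine ⟨hX1, fun e => hM.1 (top_le_iff.1 (e ▸ hXM)), fun L hL hXL =>
      le_antisymm (sSup_le fun Y hY => ?_) (le_sSup ⟨Trans.piCoreOf_le _ _,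
        Trans.piNat_piCoreOf _ _,
        hXL.trans (Subgroup.le_normalizer.trans (Trans.normalizes_piCoreOf _ _))⟩)⟩
    obtain ⟨hYL, hYπ, hXY⟩ := hY
    haveI := Trans.solvable_proper hG hL
    set O := piCore (Trans.pc X) L with hO
    haveI : O.Characteristic := piCore_characteristic
    set f := QuotientGroup.mk' O
    have hbot := (Cfsg.Agent.S1886.result (X := L) (Trans.pc X)).1
    have hF' := ((Cfsg.Agent.S1886.result (X := L ⧸ O) (Trans.pc X)).2 hbot).1
    have hcomm : ∀ q : ℕ, q.Prime → ∀ y ∈ Y.subgroupOf L,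
        f y ∈ Subgroup.centralizer (pCore q (L ⧸ O) : Set (L ⧸ O)) := by
      intro q hq y hy
      haveI := Fact.mk hq
      by_cases hqπ : q ∈ π
      swap
      · have hb : pCore q (L ⧸ O) = ⊥ := by
          haveI := pCore_normal (L ⧸ O) q
          refine le_bot_iff.1 (hbot ▸ le_piCore (PiNat.of_isPGroup (pCore_isPGroup _ q) ⟨hq, fun h =>
            hqπ (Nat.mem_primeFactors.2 ⟨hq, h.trans (Subgroup.card_dvd_of_le hXF),
              Nat.card_pos.ne'⟩)⟩))
        rw [hb, Subgroup.mem_centralizer_iff]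
        intro a ha
        rw [Subgroup.coe_bot, Set.mem_singleton_iff] at ha
        simp [ha]
      obtain ⟨r, hr, hrq⟩ := htwo q hqπ
      haveI := Fact.mk (hpr r hr)
      set D : Subgroup L := ⨅ t : {t // t ∈ π ∧ t ≠ r}, pPrimeCore (t : ℕ) L with hD
      haveI hDn : D.Normal := Subgroup.normal_iInf_normal fun t => pPrimeCore_normal L _
      have hZD : (Z r).subgroupOf L ≤ D := by
        intro z hz
        refine Subgroup.mem_iInf.2 fun ⟨t, ht, htr⟩ => ?_
        haveI := Fact.mk (hpr t ht)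
        refine le_pPrimeCore_of_centralizes (P := (Z t).subgroupOf L) (Q := (Z r).subgroupOf L)
          ((hZp t ht).comap_of_injective L.subtype L.subtype_injective) ?_ ?_ ?_ hz
        · rw [card_subgroupOf ((hZX r hr).trans hXL)]
          obtain ⟨k, hk⟩ := IsPGroup.iff_card.1 (hZp r hr)
          rw [hk]
          exact ((Nat.coprime_primes (hpr r hr) (hpr t ht)).2 (Ne.symm htr)).pow_left k
        · intro x hx
          refine Subgroup.mem_centralizer_iff.2 fun w hw => Subtype.ext ?_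
          exact Subgroup.mem_centralizer_iff.1
            ((inf_le_left.trans (opc_comm M htr.symm)).trans (Subgroup.centralizer_le inf_le_left)
              (Subgroup.mem_subgroupOf.1 hx)) w (Subgroup.mem_subgroupOf.1 hw)
        · intro x hx
          have hxM : (x : G) ∈ M := by
            rw [← hZM t ht]
            exact Subgroup.centralizer_le_normalizer _ (Subgroup.mem_centralizer_iff.2 fun w hw =>
              congrArg Subtype.val (Subgroup.mem_centralizer_iff.1 hx
                ⟨w, ((hZX t ht).trans hXL) hw⟩ (Subgroup.mem_subgroupOf.2 hw)))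
          refine Subgroup.mem_normalizer_fintype fun w hw => Subgroup.mem_subgroupOf.2 ?_
          exact (Subgroup.mem_normalizer_iff.1 (hZn r hxM) w).1 (Subgroup.mem_subgroupOf.1 hw)
      haveI : (D.map f).Normal := hDn.map f (QuotientGroup.mk'_surjective O)
      haveI := pCore_normal (L ⧸ O) q
      have hdisj : D.map f ⊓ pCore q (L ⧸ O) = ⊥ := by
        refine inf_eq_bot_of_coprime_card ?_
        obtain ⟨k, hk⟩ := IsPGroup.iff_card.1 (pCore_isPGroup (L ⧸ O) q)
        rw [hk]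
        refine Nat.Coprime.pow_right k (Nat.Coprime.coprime_dvd_left (D.card_map_dvd f) ?_)
        refine ((Fact.out : q.Prime).coprime_iff_not_dvd.2 fun h => ?_).symm
        exact not_dvd_card_pPrimeCore (h.trans (Subgroup.card_dvd_of_le
          (iInf_le (fun t : {t // t ∈ π ∧ t ≠ r} => pPrimeCore (t : ℕ) L) ⟨q, hqπ, Ne.symm hrq⟩)))
      set W := (Subgroup.centralizer (pCore q (L ⧸ O) : Set (L ⧸ O))).comap f with hW
      haveI : W.Normal := Subgroup.Normal.comap inferInstance f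
      have hZW : (Z r).subgroupOf L ≤ W := fun z hz => Subgroup.mem_comap.2
        (le_centralizer_of_normalizes (le_top.trans (Subgroup.normalizer_eq_top (H := pCore q (L ⧸ O))).ge)
          (le_top.trans (Subgroup.normalizer_eq_top (H := D.map f)).ge) hdisj (Subgroup.mem_map_of_mem f (hZD hz)))
      have hcomW : ⁅Y, Z r⁆ ≤ W.map L.subtype := by
        rw [Subgroup.commutator_le]
        intro a ha b hb
        refine ⟨⁅(⟨a, hYL ha⟩ : L), ⟨b, hXL (hZX r hr hb)⟩⁆, ?_, rfl⟩
        have hbW : (⟨b, hXL (hZX r hr hb)⟩ : L) ∈ W := hZW (Subgroup.mem_subgroupOf.2 hb)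
        rw [commutatorElement_def]
        exact mul_mem ((inferInstance : W.Normal).conj_mem _ hbW _) (inv_mem hbW)
      haveI : Group.IsSolvable (Z r) := haveI := (hZp r hr).isNilpotent; inferInstance
      obtain ⟨x, hx, c, hc, hyxc⟩ := commutator_sup_inf_centralizer (K := Y) (A := Z r)
        ((hZX r hr).trans hXY)
        ((Trans.coprime_self hYπ).coprime_dvd_left (Subgroup.card_dvd_of_le (hZX r hr)))
        (Or.inl inferInstance) y (Subgroup.mem_subgroupOf.1 hy)
      have hYc : Y ⊓ Subgroup.centralizer (Z r : Set G) = ⊥ := by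
        refine hinM _ (inf_le_right.trans ((Subgroup.centralizer_le_normalizer _).trans (hZM r hr).le))
          (le_normalizer_inf_of_le hXY ((hXM.trans (hZn r)).trans (normalizer_centralizer _)))
          (PiNat.of_dvd hYπ (Subgroup.card_dvd_of_le inf_le_left))
      rw [hYc, Subgroup.mem_bot] at hc
      obtain ⟨w, hw, hwe⟩ := hcomW hx
      have : y = w := Subtype.ext (by rw [hyxc, hc, mul_one]; exact hwe.symm)
      exact this ▸ hw
    -- `Y` maps trivially
    intro y hy
    refine ⟨⟨y, hYL hy⟩, ?_, rfl⟩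
    have hmem : f ⟨y, hYL hy⟩ ∈ fittingSubgroup (L ⧸ O) := by
      refine centralizer_fittingSubgroup_le (Subgroup.mem_centralizer_iff.2 fun w hw => ?_)
      rw [SetLike.mem_coe, fittingSubgroup_eq_iSup_pCore] at hw
      refine Subgroup.mem_centralizer_singleton_iff.1
        ((iSup_le fun q => fun v hv => ?_ : (⨆ q : Nat.Primes, pCore (q : ℕ) (L ⧸ O)) ≤
          Subgroup.centralizer {f ⟨y, hYL hy⟩}) hw)
      exact Subgroup.mem_centralizer_singleton_iff.2 (Subgroup.mem_centralizer_iff.1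
        (hcomm q q.2 ⟨y, hYL hy⟩ (Subgroup.mem_subgroupOf.2 hy)) v hv)
    refine (QuotientGroup.eq_one_iff _).1 (orderOf_eq_one_iff.1 ?_)
    refine Nat.eq_one_of_dvd_coprimes (a := Nat.card (fittingSubgroup (L ⧸ O))) (b := Nat.card Y)
      (Nat.coprime_of_dvd fun s hs h1 h2 => hF' s hs (hYπ s hs h2) h1) ?_ ?_
    · exact Subgroup.orderOf_mk (H := fittingSubgroup (L ⧸ O)) _ hmem ▸ orderOf_dvd_natCard _
    · refine (orderOf_map_dvd f _).trans ?_
      rw [Subgroup.orderOf_mk, ← Subgroup.orderOf_mk (H := Y) y hy]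
      exact orderOf_dvd_natCard _
  refine ⟨M, ⟨hM, hXM⟩, fun L ⟨hL, hXL⟩ => eq_of_inv hG hM ?_ (M := X)
    (inf_le_inf le_rfl (Subgroup.centralizer_le hA₀)) (fun Y hY =>
      inv_eq_bot hG hM hT hXF hπ hA₀e hA₀3
        (le_inf hA₀X fun a ha => Subgroup.mem_centralizer_iff.2 fun x hx =>
          (Subgroup.mem_centralizer_iff.1 hx.2 a ha).symm) hY) hL hXL⟩
  obtain ⟨t, ht, htp⟩ := htwo p (Nat.mem_primeFactors.2 ⟨hp.out, hpF, Nat.card_pos.ne'⟩)
  exact Finset.one_lt_card.2 ⟨t, ht, p, Nat.mem_primeFactors.2 ⟨hp.out, hpF, Nat.card_pos.ne'⟩, htp⟩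

omit hM in
/-- The unique maximal member of `F(M)` for a `p`-group `F(M)`: the Sylow subgroup. -/
theorem sylow_of_pGroup {p : ℕ} [hp : Fact p.Prime] (hM : IsCoatom M)
    (hFp : IsPGroup p (fittingOf M)) (hF1 : fittingOf M ≠ ⊥) (P : Sylow p M) :
    pPrimeCore p M = ⊥ ∧
      ∃ Q : Sylow p G, (Q : Subgroup G) = (P : Subgroup M).map M.subtype := by
  haveI := Trans.solvable_proper hG hM.1
  have hcore : pPrimeCore p M = ⊥ := by
    have h1 := Trans.le_piCoreOf (π := {s | s ∉ (Nat.card (fittingOf M)).primeFactors})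
      (core_le (p := p) M) (le_normalizer_core M) (fun s hs hd hmem => by
        obtain ⟨k, hk⟩ := IsPGroup.iff_card.1 hFp
        have h2 := Nat.dvd_of_mem_primeFactors hmem
        rw [hk] at h2
        rw [(Nat.prime_dvd_prime_iff_eq hs hp.out).1 (hs.dvd_of_dvd_pow h2)] at hd
        exact (hp.out.coprime_iff_not_dvd.1 (coprime_core M).symm) hd)
    rw [piCoreOf_compl_eq_bot hG hM.1, le_bot_iff, Subgroup.map_eq_bot_iff, Subgroup.ker_subtype,
      le_bot_iff] at h1
    exact h1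
  refine ⟨hcore, ?_⟩
  set S := (P : Subgroup M).map M.subtype with hS
  have hSp : IsPGroup p S := P.isPGroup'.map _
  have hSM : S ≤ M := Subgroup.map_subtype_le _
  have hFS : fittingOf M ≤ S := Subgroup.map_mono (by
    haveI := CfsgLib.Solv.fittingSubgroup_normal M
    exact IsPGroup.le_sylow_of_normal
      (hFp.of_equiv ((fittingSubgroup M).equivMapOfInjective M.subtype M.subtype_injective).symm) P)
  have hS1 : S ≠ ⊥ := fun e => hF1 (le_bot_iff.1 (e ▸ hFS))
  have hZ1 := CfsgLib.Inv.ZJ.zJ_ne_bot (e := p) (Or.inr rfl) hSp hS1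
  have hodd : Odd (Nat.card M) := hG.1.of_dvd_nat M.card_subgroup_dvd_card
  have hn := sup_normalizer_zJ hodd P
  rw [hcore, bot_sup_eq] at hn
  have hMZ : M ≤ Subgroup.normalizer ((CfsgLib.Inv.ZJ.zJ p S : Subgroup G) : Set G) := by
    intro m hm
    have h1 := map_le_normalizer (x := ⟨m, hm⟩) (hn ▸ Subgroup.mem_top (⟨m, hm⟩ : M))
    rwa [CfsgLib.Inv.ZJ.map_zJ M.subtype_injective] at h1
  have hNM : Subgroup.normalizer (S : Set G) ≤ M :=
    (CfsgLib.Inv.ZJ.normalizer_le_zJ S).trans (Uniq.normalizer_eq hG hM hZ1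
      (fun e => hM.1 (top_le_iff.1 (e ▸ (CfsgLib.Inv.ZJ.zJ_le S).trans hSM))) hMZ).le
  refine exists_sylow_eq_of_normalizer hSp fun R hR hSR hRN => ?_
  have hRM : R ≤ M := hRN.trans hNM
  have h2 := P.3 (hR.comap_of_injective M.subtype M.subtype_injective)
    (Subgroup.map_le_iff_le_comap.1 hSR)
  rw [← Subgroup.map_subgroupOf_eq_of_le hRM]
  exact congrArg (Subgroup.map M.subtype) h2

/-- BG 8.3(b). -/
theorem scn_of_pGroup {p : ℕ} [hp : Fact p.Prime] (hFp : IsPGroup p (fittingOf M))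
    (hF1 : fittingOf M ≠ ⊥) (P : Sylow p M) {A : Subgroup G}
    (hA : IsSCN ((P : Subgroup M).map M.subtype) A) (hA3 : ¬ PRankLE p 2 A) :
    A ≤ fittingOf M ∧ InUniqueMaximal A := by
  obtain ⟨hcore, Q, hQ⟩ := sylow_of_pGroup hG hM hFp hF1 P
  haveI := Trans.solvable_proper hG hM.1
  have hAc : IsMulCommutative A := ⟨⟨fun a b => Subtype.ext
    (Subgroup.mem_centralizer_iff.1 (hA.2.2.ge b.2).2 a a.2)⟩⟩
  have hAM : A ≤ M := hA.1.trans (Subgroup.map_subtype_le _)
  have hAp : IsPGroup p A := (P.isPGroup'.map _).to_le hA.1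
  have hodd : Odd (Nat.card M) := hG.1.of_dvd_nat M.card_subgroup_dvd_card
  have hAF : A ≤ fittingOf M := by
    intro a ha
    have h1 := TransHyp.subgroupOf_le hodd P hA.1 hAc hA.2.1
      (show (⟨a, hAM ha⟩ : M) ∈ A.subgroupOf M from Subgroup.mem_subgroupOf.2 ha)
    haveI := pPrimeCore_normal M p
    haveI := pCore_normal (M ⧸ pPrimeCore p M) p
    haveI : (pPrimePCore p M).Normal := by unfold Cfsg.pPrimePCore; infer_instance
    have hp' : IsPGroup p (pPrimePCore p M) := by
      intro x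
      obtain ⟨k, hk⟩ := pCore_isPGroup (M ⧸ pPrimeCore p M) p ⟨_, x.2⟩
      refine ⟨k, Subtype.ext ?_⟩
      have h2 : QuotientGroup.mk' (pPrimeCore p M) ((x : M) ^ p ^ k) = 1 := by
        rw [map_pow]; exact congrArg Subtype.val hk
      have h3 := (QuotientGroup.eq_one_iff _).1 h2
      rwa [hcore, Subgroup.mem_bot] at h3
    exact opc_le_fittingOf M hp.out ⟨⟨a, hAM ha⟩, le_pCore hp' h1, rfl⟩
  obtain ⟨B, hBA, hBe, hB3⟩ := exists_cube hA3
  have hA1 : A ≠ ⊥ := fun e => by
    have h0 : B = ⊥ := le_bot_iff.1 (hBA.trans e.le)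
    rw [h0, Subgroup.card_bot] at hB3
    exact absurd hB3 (not_le.2 (Nat.one_lt_pow (by norm_num) hp.out.one_lt))
  have hpA : p ∣ Nat.card A := by
    obtain ⟨k, hk⟩ := IsPGroup.iff_card.1 hAp
    exact hk ▸ dvd_pow_self p fun e => hA1 (Subgroup.card_eq_one.1 (by rw [hk, e, pow_zero]))
  have hr1 : ¬ PRankLE p 1 A := fun h => hA3 (rank_mono h)
  have hT : TransitivityHypothesis A := Cfsg.Agent.S1396.result hG p
    (hpA.trans (Subgroup.card_subgroup_dvd_card _)) A hAp hAc (Or.inr ⟨Q, hQ.symm ▸ hA, hr1⟩)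
  refine ⟨hAF, inUniqueMaximal_of_inv hG hM hAp hA1 hAM fun Y hY hAY => ?_⟩
  refine (inv_eq_bot hG hM hT hAF (fun r hr hd => ?_) hBe hB3 ?_ ⟨le_top, fun s hs hd => ?_, hAY⟩).le.trans
    bot_le
  · obtain ⟨k, hk⟩ := IsPGroup.iff_card.1 hFp
    rw [hk] at hd
    rwa [(Nat.prime_dvd_prime_iff_eq hr hp.out).1 (hr.dvd_of_dvd_pow hd)]
  · exact le_inf hBA fun x hx => Subgroup.mem_centralizer_iff.2 fun a ha =>
      congrArg (fun w : A => (w : G)) (hAc.is_comm.comm ⟨a, ha⟩ ⟨x, hBA hx⟩)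
  · refine ⟨hs, fun h => ?_⟩
    obtain ⟨k, hk⟩ := IsPGroup.iff_card.1 hFp
    rw [hk] at h
    rw [(Nat.prime_dvd_prime_iff_eq hs hp.out).1 (hs.dvd_of_dvd_pow h)] at hd
    exact (hp.out.coprime_iff_not_dvd.1 hY.symm) hd

/-- BG 8.4. -/
theorem of_fitting_rank_three {p : ℕ} [hp : Fact p.Prime] (hF : ¬ PRankLE p 2 (fittingOf M))
    {A : Subgroup G} (hAp : IsPGroup p A) (hAnc : ¬ IsCyclic A)
    (hA3 : ¬ PRankLE p 2 (Subgroup.centralizer (A : Set G))) : InUniqueMaximal A := by
  obtain ⟨E, hEF, hEe, hE3⟩ := exists_cube hF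
  obtain ⟨A₀, hEA, hA₀⟩ := Finite.exists_le_maximal
    (p := fun B : Subgroup G => B ≤ fittingOf M ∧ IsElementaryAbelian p B) (a := E) ⟨hEF, hEe⟩
  obtain ⟨hA₀F, hA₀e⟩ := hA₀.1
  have hA₀3 : p ^ 3 ≤ Nat.card A₀ := hE3.trans (Subgroup.card_le_of_le hEA)
  have hpG : p ∣ Nat.card G := by
    obtain ⟨n, hn⟩ := Sig.card_eq_pow hA₀e
    refine dvd_trans ?_ (Subgroup.card_subgroup_dvd_card A₀)
    rw [hn]
    refine dvd_pow_self p fun e => ?_
    rw [hn, e, pow_zero] at hA₀3
    exact absurd hA₀3 (not_le.2 (Nat.one_lt_pow (by norm_num) hp.out.one_lt))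
  have hp2 := TransHyp.ne_two hG hpG
  by_cases hFp : IsPGroup p (fittingOf M)
  · obtain ⟨P⟩ : Nonempty (Sylow p M) := inferInstance
    set S := (P : Subgroup M).map M.subtype with hS
    have hFS : fittingOf M ≤ S := Subgroup.map_mono (by
      haveI := CfsgLib.Solv.fittingSubgroup_normal M
      exact IsPGroup.le_sylow_of_normal
        (hFp.of_equiv ((fittingSubgroup M).equivMapOfInjective M.subtype M.subtype_injective).symm) P)
    have hr : ¬ PRankLE p 2 S := fun h => hF (rank_of_le hFS h)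
    obtain ⟨B, hBn, hBc, hBs, hB3⟩ := SCN3.exists_scn3 hp2 (P.isPGroup'.map M.subtype) hr
    set B' := B.map S.subtype with hB'
    haveI hB'c : IsMulCommutative B' := ⟨⟨by
      rintro ⟨_, a, ha, rfl⟩ ⟨_, b, hb, rfl⟩
      exact Subtype.ext (congrArg (fun w : B => ((w : S) : G)) (hBc.is_comm.comm ⟨a, ha⟩ ⟨b, hb⟩))⟩⟩
    have hscn : IsSCN S B' := by
      refine ⟨Subgroup.map_subtype_le _, ?_, le_antisymm ?_ ?_⟩
      · intro x hx
        exact map_le_normalizer (x := ⟨x, hx⟩)
          (Subgroup.normalizer_eq_top_iff.2 hBn ▸ Subgroup.mem_top _)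
      · rintro x ⟨hxS, hxc⟩
        refine ⟨⟨x, hxS⟩, ?_, rfl⟩
        rw [← hBs]
        exact Subgroup.mem_centralizer_iff.2 fun a ha => Subtype.ext
          (Subgroup.mem_centralizer_iff.1 hxc a (Subgroup.mem_map_of_mem _ ha))
      · exact le_inf (Subgroup.map_subtype_le _) fun x hx =>
          Subgroup.mem_centralizer_iff.2 fun a ha => commute_of_isMulCommutative ha hx
    have hB'3 : ¬ PRankLE p 2 B' := fun h => hB3 (rank_of_map h)
    have hF1 : fittingOf M ≠ ⊥ := fun e => by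
      have h0 : E = ⊥ := le_bot_iff.1 (hEF.trans e.le)
      rw [h0, Subgroup.card_bot] at hE3
      exact absurd hE3 (not_le.2 (Nat.one_lt_pow (by norm_num) hp.out.one_lt))
    exact of_rank_three_member hG hp2 hB'c hB'3 (scn_of_pGroup hG hM hFp hF1 P hscn hB'3).2 hAp hAnc hA3
  · have hU := inUniqueMaximal_of_not_pGroup hG hM hA₀F hA₀e hA₀3 hFp
    have hA₀U : InUniqueMaximal A₀ := of_centralizing hG hU (isPGroup_elementary hA₀e) hA₀e.1
      (Sig.not_isCyclic hA₀e ((Nat.pow_le_pow_right hp.out.pos (by norm_num)).trans hA₀3))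
      fun a ha => Subgroup.mem_centralizer_iff.2 fun x hx =>
        (Subgroup.mem_centralizer_iff.1 hx.2 a ha).symm
    refine of_rank_three_member hG hp2 hA₀e.1 ?_ hA₀U hAp hAnc hA3
    intro h
    have h1 := h ⊤ (by haveI := hA₀e.1; infer_instance) fun a _ => Subtype.ext (hA₀e.2 a a.2)
    rw [Subgroup.card_top] at h1
    exact absurd (hA₀3.trans h1) (not_le.2 (Nat.pow_lt_pow_right hp.out.one_lt (by norm_num)))

end CfsgLib.OddLocal.FitUniq
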