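import Mathlib

/-!
Solvable groups of odd order acting on a two-dimensional space: they fix a line over an
algebraically closed field, so in characteristic `p` commutators act as elements of order `p`.
-/

set_option autoImplicit false
set_option linter.style.haveILetI false

open Matrix

namespace CfsgLib.OddLocal.GLTwo

universe u

variable {K : Type*} [Field K]

/-- Two independent vectors of `K ^ 2` span. -/
theorem exists_comb {v w : Fin 2 → K} (hv : v ≠ 0) (h : ∀ c : K, w ≠ c • v) (u : Fin 2 → K) :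
    ∃ α β : K, u = α • v + β • w := by
  have hli : LinearIndependent K ![v, w] :=
    (LinearIndependent.pair_iff' hv).2 fun c hc => h c hc.symm
  have hsp : Submodule.span K (Set.range ![v, w]) = ⊤ :=
    hli.span_eq_top_of_card_eq_finrank (by simp)
  have hu : u ∈ Submodule.span K (Set.range ![v, w]) := by rw [hsp]; trivial
  rw [Matrix.range_cons, Matrix.range_cons, Matrix.range_empty, Set.union_empty,
    Set.singleton_union, Submodule.mem_span_pair] at hu
  obtain ⟨α, β, hu⟩ := hu
  exact ⟨α, β, hu.symm⟩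

theorem mulVec_inj {A : Type*} [Group A] (ψ : A →* GL (Fin 2) K) (a : A) {x y : Fin 2 → K}
    (h : (ψ a : Matrix (Fin 2) (Fin 2) K) *ᵥ x = (ψ a : Matrix (Fin 2) (Fin 2) K) *ᵥ y) :
    x = y := by
  have h' := congrArg (fun z => (ψ a⁻¹ : Matrix (Fin 2) (Fin 2) K) *ᵥ z) h
  simp only [Matrix.mulVec_mulVec, ← Units.val_mul, ← map_mul, inv_mul_cancel, map_one,
    Units.val_one, Matrix.one_mulVec] at h'
  exact h'

/-- A solvable group of odd order in `GL₂` over an algebraically closed field fixes a line. -/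
theorem exists_line [IsAlgClosed K] (A : Type u) [Group A] [Finite A] (hsolv : Group.IsSolvable A)
    (hodd : Odd (Nat.card A)) (ψ : A →* GL (Fin 2) K) :
    ∃ v : Fin 2 → K, v ≠ 0 ∧ ∀ a, ∃ c : K, (ψ a : Matrix (Fin 2) (Fin 2) K) *ᵥ v = c • v := by
  induction hn : Nat.card A using Nat.strong_induction_on generalizing A with
  | _ n ih =>
    let M : A → Matrix (Fin 2) (Fin 2) K := fun a => (ψ a : Matrix (Fin 2) (Fin 2) K)
    have hMmul : ∀ a b, M (a * b) = M a * M b := fun a b => by simp [M]
    rcases subsingleton_or_nontrivial A with hA | hA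
    · refine ⟨![1, 0], fun h => one_ne_zero (congrFun h 0), fun a => ⟨1, ?_⟩⟩
      rw [Subsingleton.elim a 1, map_one, one_smul, Units.val_one, Matrix.one_mulVec]
    haveI := hsolv
    have hlt : commutator A < ⊤ := Group.IsSolvable.commutator_lt_top_of_nontrivial A
    obtain ⟨N, hN, hNc⟩ := (eq_top_or_exists_le_coatom (commutator A)).resolve_left hlt.ne
    haveI : N.Normal := Subgroup.Normal.of_commutator_le _ hNc
    obtain ⟨y, -, hy⟩ := SetLike.exists_of_lt (lt_top_iff_ne_top.2 hN.1)
    have htop : N ⊔ Subgroup.zpowers y = ⊤ :=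
      hN.2 _ (lt_of_le_of_ne le_sup_left fun e =>
        hy (e ▸ Subgroup.mem_sup_right (Subgroup.mem_zpowers y)))
    -- stabilisers of lines are subgroups
    have stab : ∀ v : Fin 2 → K, v ≠ 0 → (∀ a ∈ N, ∃ c : K, M a *ᵥ v = c • v) →
        (∃ c : K, M y *ᵥ v = c • v) → ∀ a, ∃ c : K, M a *ᵥ v = c • v := by
      intro v hv hNv hyv
      let S : Subgroup A :=
        { carrier := {a | ∃ c : K, M a *ᵥ v = c • v}
          one_mem' := ⟨1, by simp [M]⟩
          mul_mem' := by
            rintro a b ⟨c, hc⟩ ⟨d, hd⟩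
            refine ⟨d * c, ?_⟩
            rw [hMmul, ← Matrix.mulVec_mulVec, hd, Matrix.mulVec_smul, hc, smul_smul]
          inv_mem' := by
            rintro a ⟨c, hc⟩
            have hc0 : c ≠ 0 := by
              rintro rfl
              refine hv (mulVec_inj ψ a ?_)
              rw [Matrix.mulVec_zero]; simpa using hc
            refine ⟨c⁻¹, mulVec_inj ψ a ?_⟩
            show M a *ᵥ (M a⁻¹ *ᵥ v) = M a *ᵥ (c⁻¹ • v)
            rw [Matrix.mulVec_smul, hc, smul_smul, inv_mul_cancel₀ hc0, one_smul,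
              Matrix.mulVec_mulVec, ← hMmul, mul_inv_cancel]
            simp [M] }
      have hS : (⊤ : Subgroup A) ≤ S := htop ▸ sup_le hNv (Subgroup.zpowers_le.2 hyv)
      exact fun a => hS (Subgroup.mem_top a)
    by_cases hsc : ∀ a ∈ N, ∀ v : Fin 2 → K, ∃ c : K, M a *ᵥ v = c • v
    · obtain ⟨c, hc⟩ := Module.End.exists_eigenvalue (Matrix.toLin' (M y))
      obtain ⟨v, hv⟩ := hc.exists_hasEigenvector
      refine ⟨v, hv.2, stab v hv.2 (fun a ha => hsc a ha v) ⟨c, ?_⟩⟩
      rw [← Matrix.toLin'_apply]; exact hv.apply_eq_smul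
    push_neg at hsc
    obtain ⟨m, hm, u₀, hu₀⟩ := hsc
    obtain ⟨v, hv, hNv⟩ := ih _ (by
      rw [← hn]
      exact lt_of_le_of_ne (Subgroup.card_le_card_group N)
        fun e => hN.1 (Subgroup.eq_top_of_card_eq N e))
      N inferInstance (hodd.of_dvd_nat N.card_subgroup_dvd_card) (ψ.comp N.subtype) rfl
    have hNv' : ∀ a ∈ N, ∃ c : K, M a *ᵥ v = c • v := fun a ha => hNv ⟨a, ha⟩
    refine ⟨v, hv, stab v hv hNv' ?_⟩
    by_contra! hw
    set w := M y *ᵥ v with hwdef
    -- a normalising element maps eigenvectors of `N` to eigenvectors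
    have key : ∀ z : Fin 2 → K, (∀ a ∈ N, ∃ c : K, M a *ᵥ z = c • z) →
        ∀ a ∈ N, ∃ c : K, M a *ᵥ (M y *ᵥ z) = c • (M y *ᵥ z) := by
      intro z hz a ha
      obtain ⟨c, hc⟩ := hz (y⁻¹ * a * y) (Subgroup.Normal.conj_mem' inferInstance a ha y)
      refine ⟨c, ?_⟩
      rw [Matrix.mulVec_mulVec, ← hMmul, show a * y = y * (y⁻¹ * a * y) by group, hMmul,
        ← Matrix.mulVec_mulVec, hc, Matrix.mulVec_smul]
    have hNw := key v hNv'
    have hNu := key w hNw
    obtain ⟨a, ha⟩ := hNv' m hm
    obtain ⟨b, hb⟩ := hNw m hm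
    have hab : a ≠ b := by
      rintro rfl
      obtain ⟨α, β, e⟩ := exists_comb hv hw u₀
      refine hu₀ a ?_
      rw [e, Matrix.mulVec_add, Matrix.mulVec_smul, Matrix.mulVec_smul, ha, hb, smul_add,
        smul_comm a α, smul_comm a β]
    obtain ⟨c, hc⟩ := hNu m hm
    obtain ⟨α, β, e⟩ := exists_comb hv hw (M y *ᵥ w)
    have hli : LinearIndependent K ![v, w] :=
      (LinearIndependent.pair_iff' hv).2 fun c hc => hw c hc.symm
    have h0 : (α * a - c * α) • v + (β * b - c * β) • w = 0 := by
      rw [e, Matrix.mulVec_add, Matrix.mulVec_smul, Matrix.mulVec_smul, ha, hb] at hc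
      rw [sub_smul, sub_smul, ← smul_smul, ← smul_smul, ← smul_smul, ← smul_smul,
        sub_add_sub_comm, hc, smul_add, sub_self]
    obtain ⟨e1, e2⟩ := LinearIndependent.pair_iff.1 hli _ _ h0
    have hβ : β = 0 := by
      by_contra hβ
      have hcb : c = b := mul_left_cancel₀ hβ (by linear_combination -e2)
      have hα : α = 0 := by
        by_contra hα
        exact hab (mul_left_cancel₀ hα (by linear_combination e1 + hcb * α))
      have e3 : M y *ᵥ w = M y *ᵥ (β • v) := by
        rw [e, hα, zero_smul, zero_add, Matrix.mulVec_smul, ← hwdef]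
      exact hw β (mulVec_inj ψ y e3)
    have h2 : M (y * y) *ᵥ v = α • v := by
      rw [hMmul, ← Matrix.mulVec_mulVec, ← hwdef, e, hβ, zero_smul, add_zero]
    have hpow : ∀ k : ℕ, M ((y * y) ^ k) *ᵥ v = α ^ k • v := by
      intro k
      induction k with
      | zero => simp [M]
      | succ k ihk =>
        rw [pow_succ, hMmul, ← Matrix.mulVec_mulVec, h2, Matrix.mulVec_smul, ihk, smul_smul,
          ← pow_succ']
    obtain ⟨k, hk⟩ := hodd
    have hy1 : y * (y * y) ^ k = 1 := by
      rw [← pow_two, ← pow_mul, ← pow_succ', ← hk]; exact pow_card_eq_one'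
    have h3 : v = α ^ k • w := by
      have := congrArg (fun g => M g *ᵥ v) hy1
      simp only [hMmul, ← Matrix.mulVec_mulVec, hpow, Matrix.mulVec_smul] at this
      rw [← hwdef] at this
      rw [this]; simp [M]
    have hk0 : α ^ k ≠ 0 := fun h => hv (by rw [h3, h, zero_smul])
    exact hw (α ^ k)⁻¹ (by rw [h3, smul_smul, inv_mul_cancel₀ hk0, one_smul])

/-- A `2 × 2` matrix of determinant `1` fixing a nonzero vector is unipotent. -/
theorem sub_one_sq {M : Matrix (Fin 2) (Fin 2) K} (hdet : M.det = 1) {v : Fin 2 → K} (hv : v ≠ 0)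
    (hfix : M *ᵥ v = v) : (M - 1) * (M - 1) = 0 := by
  have h0 : (M - 1).det = 0 :=
    Matrix.exists_mulVec_eq_zero_iff.1 ⟨v, hv, by rw [Matrix.sub_mulVec, Matrix.one_mulVec, hfix, sub_self]⟩
  rw [Matrix.det_fin_two] at h0 hdet
  simp [Matrix.one_apply] at h0
  ext i j
  fin_cases i <;> fin_cases j <;>
    simp [Matrix.mul_apply, Matrix.one_apply, Fin.sum_univ_two, Matrix.sub_apply]
  · linear_combination (M 0 0 - 1) * (hdet - h0) - h0
  · linear_combination M 0 1 * (hdet - h0)
  · linear_combination M 1 0 * (hdet - h0)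
  · linear_combination (M 1 1 - 1) * (hdet - h0) - h0

/-- In characteristic `p`, commutators of a solvable group of odd order in `GL₂` have order
dividing `p`. -/
theorem commutator_pow_eq_one [IsAlgClosed K] (p : ℕ) [Fact p.Prime] [CharP K p] {A : Type u}
    [Group A] [Finite A] (hsolv : Group.IsSolvable A) (hodd : Odd (Nat.card A))
    (ψ : A →* GL (Fin 2) K) {a : A} (ha : a ∈ commutator A) : ψ a ^ p = 1 := by
  obtain ⟨v, hv, hline⟩ := exists_line A hsolv hodd ψ
  choose c hc using hline
  have hinj : ∀ {r s : K}, r • v = s • v → r = s := fun h => by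
    by_contra hne
    exact hv ((smul_eq_zero.1 (show (_ - _) • v = 0 by rw [sub_smul, h, sub_self])).resolve_left
      (sub_ne_zero.2 hne))
  let χ : A →* K :=
    { toFun := c
      map_one' := hinj (by rw [← hc, map_one, Units.val_one, Matrix.one_mulVec, one_smul])
      map_mul' := fun x z => hinj (by
        rw [← hc, map_mul, Units.val_mul, ← Matrix.mulVec_mulVec, hc, Matrix.mulVec_smul, hc,
          smul_smul, mul_comm]) }
  have h1 : χ.toHomUnits a = 1 := (Abelianization.commutator_subset_ker χ.toHomUnits ha :)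
  have h2 : Matrix.GeneralLinearGroup.det (ψ a) = 1 :=
    (Abelianization.commutator_subset_ker (Matrix.GeneralLinearGroup.det.comp ψ) ha :)
  have hfix : (ψ a : Matrix (Fin 2) (Fin 2) K) *ᵥ v = v := by
    rw [hc, show c a = 1 from congrArg Units.val h1, one_smul]
  have hdet : (ψ a : Matrix (Fin 2) (Fin 2) K).det = 1 := congrArg Units.val h2
  set N : Matrix (Fin 2) (Fin 2) K := (ψ a : Matrix (Fin 2) (Fin 2) K) - 1 with hNdef
  have hN : N * N = 0 := sub_one_sq hdet hv hfix
  have hpow : ∀ k : ℕ, (ψ a : Matrix (Fin 2) (Fin 2) K) ^ k = 1 + k • N := by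
    intro k
    induction k with
    | zero => simp
    | succ k ih =>
      rw [pow_succ, ih, show (ψ a : Matrix (Fin 2) (Fin 2) K) = 1 + N by simp [hNdef]]
      rw [add_mul, one_mul, smul_mul_assoc, mul_add, hN, mul_one, add_zero, succ_nsmul]
      abel
  apply Units.ext
  rw [Units.val_pow_eq_pow_val, hpow, Units.val_one, ← Nat.cast_smul_eq_nsmul K, CharP.cast_eq_zero,
    zero_smul, add_zero]

end CfsgLib.OddLocal.GLTwo
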