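import Cfsg.Agent.OddLocal.BenderMax
import Cfsg.Agent.Solv.PLengthOne
import Cfsg.Prelude.Def_CaseTheorems
import Mathlib

/-!
Bender: invariant `q`-subgroups of a solvable group normalised by a self-centralising subgroup of the
Fitting subgroup of a maximal local subgroup with at least two primes in its Fitting subgroup.
-/

set_option autoImplicit false
set_option linter.style.haveILetI false
set_option linter.unusedSectionVars false
set_option maxHeartbeats 400000

open Cfsg CfsgLib.Solv
open scoped commutatorElement Pointwise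

namespace CfsgLib.OddLocal.LocalInv

open Bender

variable {G : Type*} [Group G] [Finite G]

theorem le_of_opc_le {F W : Subgroup G} (hF : Group.IsNilpotent F)
    (h : ∀ r : ℕ, r.Prime → opc r F ≤ W) : F ≤ W := by
  haveI := hF
  intro x hx
  have h1 : fittingSubgroup F = ⊤ :=
    top_le_iff.1 (CfsgLib.Solv.le_fittingSubgroup (N := (⊤ : Subgroup F)) inferInstance)
  have h2 : (⊤ : Subgroup F) ≤ W.subgroupOf F := by
    rw [← h1, fittingSubgroup_eq_iSup_pCore]
    exact iSup_le fun r => Subgroup.map_le_iff_le_comap.1 (h (r : ℕ) r.2)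
  exact h2 (Subgroup.mem_top ⟨x, hx⟩)

theorem pGroup_le_opc {F W : Subgroup G} (hF : Group.IsNilpotent F) {r : ℕ} [Fact r.Prime]
    (hW : W ≤ F) (hWr : IsPGroup r W) : W ≤ opc r F := by
  obtain ⟨S⟩ : Nonempty (Sylow r F) := inferInstance
  have hSn : (S : Subgroup F).Normal :=
    (haveI := hF; inferInstance)
  haveI := hSn
  haveI := Sylow.unique_of_normal S hSn
  obtain ⟨S', hS'⟩ := (hWr.comap_of_injective F.subtype F.subtype_injective).exists_le_sylow
  have h3 : W.subgroupOf F ≤ pCore r F :=
    (Subsingleton.elim S' S ▸ hS').trans (CfsgLib.Solv.le_pCore S.2)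
  intro b hb
  exact ⟨⟨b, hW hb⟩, h3 hb, rfl⟩

theorem opc_comm' {F : Subgroup G} (hF : Group.IsNilpotent F) {r t : ℕ} [Fact r.Prime] [Fact t.Prime]
    (h : r ≠ t) : opc r F ≤ Subgroup.centralizer (opc t F : Set G) :=
  Bender.le_centralizer_of_normalizes
    ((Subgroup.map_subtype_le _).trans (Subgroup.le_normalizer.trans (normalizes_opc t F)))
    ((Subgroup.map_subtype_le _).trans (Subgroup.le_normalizer.trans (normalizes_opc r F)))
    (disjoint_iff.1 (IsPGroup.disjoint_of_ne r t h _ _ (isPGroup_opc r F) (isPGroup_opc t F)))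

/-- In a nilpotent group the `p'`-subgroups lie in `O_{p'}`. -/
theorem coprime_le_pPrimeCore {Y : Type*} [Group Y] [Finite Y] [Group.IsNilpotent Y] {p : ℕ}
    [Fact p.Prime] (W : Subgroup Y) (hW : (Nat.card W).Coprime p) : W ≤ pPrimeCore p Y := by
  haveI := CfsgLib.Solv.pPrimeCore_normal Y p
  intro w hw
  rw [← QuotientGroup.eq_one_iff, ← orderOf_eq_one_iff]
  have h1 : fittingSubgroup (Y ⧸ pPrimeCore p Y) = ⊤ :=
    top_le_iff.1 (CfsgLib.Solv.le_fittingSubgroup (N := (⊤ : Subgroup _)) inferInstance)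
  rw [fittingSubgroup_eq_pCore pPrimeCore_quotient_self] at h1
  have h2 : IsPGroup p (⊤ : Subgroup (Y ⧸ pPrimeCore p Y)) := h1 ▸ pCore_isPGroup (Y ⧸ pPrimeCore p Y) p
  obtain ⟨n, hn⟩ := IsPGroup.iff_card.1 h2
  rw [Subgroup.card_top] at hn
  refine Nat.eq_one_of_dvd_coprimes (hW.pow_right n)
    ((orderOf_map_dvd (QuotientGroup.mk' (pPrimeCore p Y)) w).trans (Subgroup.orderOf_dvd_natCard W hw)) ?_
  rw [← hn]; exact orderOf_dvd_natCard _

theorem isSolvable_sup {R M : Subgroup G} (hR : Group.IsSolvable R) (hM : Group.IsSolvable M)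
    (hMR : M ≤ Subgroup.normalizer (R : Set G)) : Group.IsSolvable ↥(R ⊔ M) := by
  set L := R ⊔ M
  haveI : (R.subgroupOf L).Normal :=
    Subgroup.normal_subgroupOf_of_le_normalizer (sup_le Subgroup.le_normalizer hMR)
  set f := QuotientGroup.mk' (R.subgroupOf L)
  haveI := hR
  haveI := hM
  let g : M →* L ⧸ R.subgroupOf L := f.comp (Subgroup.inclusion le_sup_right)
  have hg : Function.Surjective g := by
    intro y
    obtain ⟨⟨l, hl⟩, rfl⟩ := QuotientGroup.mk'_surjective _ y
    obtain ⟨r, hr, m, hm, rfl⟩ := exists_mul_of_mem_sup hMR (sup_comm R M ▸ hl : l ∈ M ⊔ R)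
    refine ⟨⟨m, hm⟩, (QuotientGroup.eq).2 ?_⟩
    show m⁻¹ * (r * m) ∈ R
    have := (Subgroup.mem_normalizer_iff''.1 (hMR hm) r).1 hr
    simpa [mul_assoc] using this
  haveI : Group.IsSolvable (R.subgroupOf L) :=
    Group.isSolvable_of_isSolvable_injective
      (f := ((Subgroup.subgroupOfEquivOfLe (le_sup_left : R ≤ L)).toMonoidHom))
      (fun a b h => (Subgroup.subgroupOfEquivOfLe (le_sup_left : R ≤ L)).injective h)
  haveI : Group.IsSolvable (L ⧸ R.subgroupOf L) := Group.isSolvable_of_surjective (f := g) hg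
  exact (Group.isSolvable_iff_subgroup_quotient (R.subgroupOf L)).2 ⟨inferInstance, inferInstance⟩

variable (H M R : Subgroup G) (hH : IsLocalSubgroup H)
  (hHmax : ∀ L : Subgroup G, IsLocalSubgroup L → H ≤ L → L = H)
  (hF2 : 2 ≤ (Nat.card (fittingOf H)).primeFactors.card)
  (hM : M ≤ fittingOf H) (hCM : fittingOf H ⊓ Subgroup.centralizer (M : Set G) ≤ M)
  (hR : Group.IsSolvable R) (hMR : M ≤ Subgroup.normalizer (R : Set G))
  (hXR : H ⊓ Subgroup.centralizer (fittingOf H : Set G) ≤ Subgroup.normalizer (R : Set G))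
include hH hHmax hF2 hM hCM hR hMR hXR

theorem inv_le (q : ℕ) [hq : Fact q.Prime] (hqF : ¬ q ∣ Nat.card (fittingOf H)) :
    (∀ U : Subgroup G, U ≤ R → U ≤ Subgroup.centralizer (M : Set G) →
        (Nat.card U).Coprime (Nat.card (fittingOf H)) → U = ⊥) ∧
      ∀ Q ∈ invSubgroups R M {q}, Q ≤ piCoreOf (primesNotDvd (Nat.card (fittingOf H))) R := by
  classical
  set F := fittingOf H with hF
  haveI hFn : Group.IsNilpotent F := by
    haveI := CfsgLib.Solv.fittingSubgroup_isNilpotent (G := H)
    exact Group.nilpotent_of_mulEquiv ((fittingSubgroup H).equivMapOfInjective H.subtype H.subtype_injective)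
  have hFH : F ≤ H := Subgroup.map_subtype_le _
  have hHF : H ≤ Subgroup.normalizer (F : Set G) := by
    haveI := CfsgLib.Solv.fittingSubgroup_normal H
    refine le_trans ?_ (Subgroup.le_normalizer_map H.subtype)
    rw [Subgroup.normalizer_eq_top_iff.2 (inferInstance : (fittingSubgroup H).Normal),
      ← MonoidHom.range_eq_map, Subgroup.range_subtype]
  have hMn : Group.IsNilpotent M := Group.nilpotent_of_mulEquiv (Subgroup.subgroupOfEquivOfLe hM)
  -- central elements of each prime
  have hcent : ∀ r : ℕ, r.Prime → r ∣ Nat.card F → ∃ Z : Subgroup G, Z ≤ M ∧ IsPGroup r Z ∧ Z ≠ ⊥ ∧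
      Subgroup.centralizer (Z : Set G) ≤ H := by
    intro r hr hrd
    haveI := Fact.mk hr
    obtain ⟨S⟩ : Nonempty (Sylow r F) := inferInstance
    have hS1 : (S : Subgroup F) ≠ ⊥ := S.ne_bot_of_dvd_card hrd
    have hSn : (S : Subgroup F).Normal :=
      (haveI := hFn; inferInstance)
    haveI := hSn
    set Sp := opc r F with hSp
    have hSle : (S : Subgroup F).map F.subtype ≤ Sp := Subgroup.map_mono (CfsgLib.Solv.le_pCore S.2)
    have hSp1 : Sp ≠ ⊥ := fun e => hS1 (by
      rw [e, le_bot_iff, Subgroup.map_eq_bot_iff_of_injective _ F.subtype_injective] at hSle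
      exact hSle)
    have hSppg : IsPGroup r Sp := isPGroup_opc r F
    set Z := (Subgroup.center Sp).map Sp.subtype with hZ
    have hZSp : Z ≤ Sp := Subgroup.map_subtype_le _
    have hZ1 : Z ≠ ⊥ := by
      rw [hZ, Ne, Subgroup.map_eq_bot_iff_of_injective _ Sp.subtype_injective]
      haveI : Nontrivial Sp := (Subgroup.nontrivial_iff_ne_bot _).2 hSp1
      haveI := hSppg.center_nontrivial
      exact (Subgroup.nontrivial_iff_ne_bot _).1 inferInstance
    have hZc : F ≤ Subgroup.centralizer (Z : Set G) := by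
      refine le_of_opc_le hFn fun t ht => ?_
      haveI := Fact.mk ht
      intro a ha
      refine Subgroup.mem_centralizer_iff.2 fun z hz => ?_
      by_cases htr : t = r
      · subst htr
        obtain ⟨z', hz', rfl⟩ := hz
        exact (congrArg Subtype.val (Subgroup.mem_center_iff.1 hz' ⟨a, ha⟩)).symm
      · have h1 := Bender.le_centralizer_of_normalizes (A := opc t F) (B := opc r F)
          ((Subgroup.map_subtype_le _).trans (Subgroup.le_normalizer.trans (normalizes_opc r F)))
          ((Subgroup.map_subtype_le _).trans (Subgroup.le_normalizer.trans (normalizes_opc t F)))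
          (disjoint_iff.1 (IsPGroup.disjoint_of_ne t r htr _ _ (isPGroup_opc t F) (isPGroup_opc r F)))
        exact Subgroup.mem_centralizer_iff.1 (h1 ha) z (hZSp hz)
    have hZF : Z ≤ F := hZSp.trans (Subgroup.map_subtype_le _)
    have hZM : Z ≤ M := (le_inf hZF ((Subgroup.le_centralizer_iff.1 hZc).trans
      (Subgroup.centralizer_le hM))).trans hCM
    have hHZ : H ≤ Subgroup.normalizer (Z : Set G) := by
      intro h hh
      have h1 : h ∈ Subgroup.normalizer (Sp : Set G) := normalizes_opc r F (hHF hh)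
      rw [Subgroup.mem_normalizer_iff_map_conj_eq, hZ]
      show ((Subgroup.center Sp).map Sp.subtype).map _ = _
      rw [Subgroup.map_map]
      have h2 := Subgroup.characteristic_iff_map_eq.1 (inferInstance : (Subgroup.center Sp).Characteristic)
        (Subgroup.normalizerMonoidHom Sp ⟨h, h1⟩)
      conv_rhs => rw [← h2, Subgroup.map_map]
      rfl
    exact ⟨Z, hZM, hSppg.to_le hZSp, hZ1, (Subgroup.centralizer_le_normalizer _).trans
      (hHmax _ ⟨r, Z, hr, hSppg.to_le hZSp, hZ1, rfl⟩ hHZ).le⟩
  set π := (Nat.card F).primeFactors with hπ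
  have hother : ∀ p : ℕ, ∃ r : ℕ, r.Prime ∧ r ∣ Nat.card F ∧ r ≠ p := by
    intro p
    obtain ⟨r, hr, hne⟩ := Finset.exists_mem_ne (lt_of_lt_of_le one_lt_two hF2) p
    exact ⟨r, Nat.prime_of_mem_primeFactors hr, Nat.dvd_of_mem_primeFactors hr, hne⟩
  have hCMH : Subgroup.centralizer (M : Set G) ≤ H := by
    obtain ⟨r, hr, hrd, -⟩ := hother 0
    obtain ⟨Z, hZM, -, -, hZH⟩ := hcent r hr hrd
    exact (Subgroup.centralizer_le hZM).trans hZH
  -- the key lemma
  have hfirst : ∀ U : Subgroup G, U ≤ R → U ≤ Subgroup.centralizer (M : Set G) →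
      (Nat.card U).Coprime (Nat.card F) → U = ⊥ := by
    intro U hUR hUM hUF
    have hUH : U ≤ H := hUM.trans hCMH
    have hUFc : U ≤ Subgroup.centralizer (F : Set G) := by
      refine Subgroup.le_centralizer_iff.1 (le_of_opc_le hFn fun r hr => ?_)
      haveI := Fact.mk hr
      by_cases hrd : r ∣ Nat.card F
      swap
      · intro a ha
        obtain ⟨k, hk⟩ := IsPGroup.iff_card.1 (isPGroup_opc r F)
        have hk0 : k = 0 := by
          by_contra h0
          exact hrd ((hk ▸ dvd_pow_self r h0).trans (Subgroup.card_dvd_of_le (Subgroup.map_subtype_le _)))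
        rw [hk0, pow_zero] at hk
        rw [Subgroup.card_eq_one.1 hk, Subgroup.mem_bot] at ha
        rw [ha]; exact one_mem _
      have hUr : (Nat.card U).Coprime r := hUF.coprime_dvd_right hrd
      have hUn : U ≤ Subgroup.normalizer (opc r F : Set G) := hUH.trans (hHF.trans (normalizes_opc r F))
      refine Subgroup.le_centralizer_iff.1 (thompson_pq (isPGroup_opc r M) hUr
        (Subgroup.le_centralizer_iff.1 (hUM.trans (Subgroup.centralizer_le (Subgroup.map_subtype_le _))))
        (opc r F) (isPGroup_opc r F)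
        (((Subgroup.map_subtype_le _).trans hM).trans (Subgroup.le_normalizer.trans (normalizes_opc r F)))
        hUn ?_)
      rintro a ⟨ha, hac⟩
      refine Subgroup.centralizer_le (fun u hu => hUM hu) (Subgroup.mem_centralizer_iff.2 fun b hb => ?_)
      have haM : a ∈ Subgroup.centralizer (M : Set G) := by
        refine Subgroup.mem_centralizer_iff.2 fun m hm => ?_
        have h1 : M ≤ Subgroup.centralizer ({a} : Set G) := by
          refine le_of_opc_le hMn fun t ht => ?_
          haveI := Fact.mk ht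
          intro m hm
          refine Subgroup.mem_centralizer_singleton_iff.2 ?_
          by_cases htr : t = r
          · subst htr; exact Subgroup.mem_centralizer_iff.1 hac m hm
          · exact Subgroup.mem_centralizer_iff.1 (opc_comm' hFn (fun e => htr e.symm) ha) m
              (pGroup_le_opc hFn ((Subgroup.map_subtype_le _).trans hM) (isPGroup_opc t M) hm)
        exact Subgroup.mem_centralizer_singleton_iff.1 (h1 hm)
      exact Subgroup.mem_centralizer_iff.1 hb a (hCM ⟨Subgroup.map_subtype_le _ ha, haM⟩) |>.symm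
    -- so it is a coprime solvable normal part of `C_H(F)`
    set X := H ⊓ Subgroup.centralizer (F : Set G) with hX
    set Y := R ⊓ X with hY
    haveI : Group.IsSolvable Y := haveI := hR; isSolvable_of_le inf_le_left
    have hHX : H ≤ Subgroup.normalizer (X : Set G) := by
      rw [le_normalizer_iff_forall_conj_mem]
      rintro h hh a ⟨ha, hac⟩
      refine ⟨H.mul_mem (H.mul_mem hh ha) (H.inv_mem hh), Subgroup.mem_centralizer_iff.2 fun b hb => ?_⟩
      have h3 := Subgroup.mem_centralizer_iff.1 hac _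
        (le_normalizer_iff_forall_conj_mem.1 hHF h⁻¹ (H.inv_mem hh) b hb)
      rw [inv_inv] at h3
      calc b * (h * a * h⁻¹) = h * ((h⁻¹ * b * h) * a) * h⁻¹ := by group
        _ = h * (a * (h⁻¹ * b * h)) * h⁻¹ := by rw [h3]
        _ = h * a * h⁻¹ * b := by group
    -- nilpotent normal subgroups of `X` are central
    have hnil : ∀ W : Subgroup G, W ≤ X → X ≤ Subgroup.normalizer (W : Set G) → Group.IsNilpotent W →
        W ≤ F := by
      intro W hW hXW hWn
      have h1 : W ≤ fittingOf X := by
        haveI : (W.subgroupOf X).Normal := Subgroup.normal_subgroupOf_of_le_normalizer hXW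
        haveI := hWn
        haveI : Group.IsNilpotent (W.subgroupOf X) :=
          Group.nilpotent_of_mulEquiv (Subgroup.subgroupOfEquivOfLe hW).symm
        intro w hw
        exact ⟨⟨w, hW hw⟩, CfsgLib.Solv.le_fittingSubgroup (N := W.subgroupOf X) inferInstance hw, rfl⟩
      refine h1.trans ?_
      have hXn : H ≤ Subgroup.normalizer (fittingOf X : Set G) := by
        intro h hh
        rw [Subgroup.mem_normalizer_iff_map_conj_eq]
        show ((fittingSubgroup X).map X.subtype).map _ = (fittingSubgroup X).map X.subtype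
        rw [Subgroup.map_map]
        have h2 := Subgroup.characteristic_iff_map_eq.1
          (CfsgLib.Solv.fittingSubgroup_characteristic (G := X))
          (Subgroup.normalizerMonoidHom X ⟨h, hHX hh⟩)
        conv_rhs => rw [← h2, Subgroup.map_map]
        rfl
      have hle : fittingOf X ≤ H := (Subgroup.map_subtype_le _).trans inf_le_left
      haveI : ((fittingOf X).subgroupOf H).Normal := Subgroup.normal_subgroupOf_of_le_normalizer hXn
      haveI : Group.IsNilpotent ((fittingOf X).subgroupOf H) := by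
        haveI := CfsgLib.Solv.fittingSubgroup_isNilpotent (G := X)
        haveI : Group.IsNilpotent (fittingOf X) := Group.nilpotent_of_mulEquiv
          ((fittingSubgroup X).equivMapOfInjective X.subtype X.subtype_injective)
        exact Group.nilpotent_of_mulEquiv (Subgroup.subgroupOfEquivOfLe hle).symm
      intro w hw
      exact ⟨⟨w, hle hw⟩, CfsgLib.Solv.le_fittingSubgroup (N := (fittingOf X).subgroupOf H) inferInstance hw,
        rfl⟩
    have hYX : X ≤ Subgroup.normalizer (Y : Set G) :=
      le_normalizer_inf_of_le hXR Subgroup.le_normalizer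
    have hFY : ((fittingSubgroup Y).map Y.subtype) ≤ F := by
      refine hnil _ ((Subgroup.map_subtype_le _).trans inf_le_right) ?_ ?_
      · intro h hh
        rw [Subgroup.mem_normalizer_iff_map_conj_eq, Subgroup.map_map]
        have h2 := Subgroup.characteristic_iff_map_eq.1
          (CfsgLib.Solv.fittingSubgroup_characteristic (G := Y))
          (Subgroup.normalizerMonoidHom Y ⟨h, hYX hh⟩)
        conv_rhs => rw [← h2, Subgroup.map_map]
        rfl
      · haveI := CfsgLib.Solv.fittingSubgroup_isNilpotent (G := Y)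
        exact Group.nilpotent_of_mulEquiv ((fittingSubgroup Y).equivMapOfInjective _ Y.subtype_injective)
    have hYF : Y ≤ F := by
      intro y hy
      refine hFY ⟨⟨y, hy⟩, centralizer_fittingSubgroup_le (Subgroup.mem_centralizer_iff.2 fun b hb => ?_), rfl⟩
      exact Subtype.ext (Subgroup.mem_centralizer_iff.1 hy.2.2 (b : G) (hFY ⟨b, hb, rfl⟩))
    exact Subgroup.card_eq_one.1 (Nat.eq_one_of_dvd_coprimes hUF dvd_rfl
      (Subgroup.card_dvd_of_le (fun u hu => hYF ⟨hUR hu, hUH hu, hUFc hu⟩)))
  refine ⟨hfirst, fun Q hQ => ?_⟩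
  obtain ⟨hQR, hQq', hMQ⟩ := hQ
  have hQpg : IsPGroup q Q := IsPGroup.of_card (n := (Nat.card Q).primeFactorsList.length)
    (Nat.eq_prime_pow_of_unique_prime_dvd Nat.card_pos.ne' fun hd hdd => hQq' _ hd hdd)
  obtain ⟨kQ, hkQ⟩ := IsPGroup.iff_card.1 hQpg
  have hQF : (Nat.card Q).Coprime (Nat.card F) := by
    rw [hkQ]; exact (hq.out.coprime_iff_not_dvd.2 hqF).pow_left kQ
  set L := R ⊔ M with hL
  haveI hLs : Group.IsSolvable L := isSolvable_sup hR (haveI := hMn; inferInstance) hMR
  have hRL : R ≤ L := le_sup_left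
  have hML : M ≤ L := le_sup_right
  -- for each prime
  have hkey : ∀ p : ℕ, p.Prime → p ∣ Nat.card F → Q ≤ (pPrimeCore p L).map L.subtype := by
    intro p hp hpF
    haveI := Fact.mk hp
    set A := (pPrimeCore p M).map M.subtype with hA
    set P := opc p M with hP
    have hAM : A ≤ M := Subgroup.map_subtype_le _
    have hPM : P ≤ M := Subgroup.map_subtype_le _
    have hAp : (Nat.card A).Coprime p := by rw [hA, card_map_subtype]; exact pPrimeCore_coprime M p
    have hPA : P ≤ Subgroup.centralizer (A : Set G) := by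
      refine Bender.le_centralizer_of_normalizes ?_ ?_ ?_
      · refine hPM.trans (Subgroup.le_normalizer.trans ?_)
        intro h hh
        rw [Subgroup.mem_normalizer_iff_map_conj_eq, hA, Subgroup.map_map]
        have h2 := Subgroup.characteristic_iff_map_eq.1 (pPrimeCore_characteristic (p := p) (G := M))
          (Subgroup.normalizerMonoidHom M ⟨h, hh⟩)
        conv_rhs => rw [← h2, Subgroup.map_map]
        rfl
      · exact hAM.trans (Subgroup.le_normalizer.trans (normalizes_opc p M))
      · obtain ⟨k, hk⟩ := IsPGroup.iff_card.1 (isPGroup_opc p M)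
        exact inf_eq_bot_of_coprime_card (by rw [hP, hk]; exact hAp.symm.pow_left k)
    have hcore : ∀ W : Subgroup G, W ≤ M → (Nat.card W).Coprime p → W ≤ A := by
      intro W hW hWc w hw
      haveI := hMn
      exact ⟨⟨w, hW hw⟩, coprime_le_pPrimeCore (W.subgroupOf M) (by rw [card_subgroupOf hW]; exact hWc) hw, rfl⟩
    obtain ⟨r, hr, hrF, hrp⟩ := hother p
    obtain ⟨Zr, hZrM, hZrp, -, hZrH⟩ := hcent r hr hrF
    haveI := Fact.mk hr
    have hZrA : Zr ≤ A := hcore Zr hZrM (by
      obtain ⟨k, hk⟩ := IsPGroup.iff_card.1 hZrp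
      rw [hk]; exact ((Nat.coprime_primes hr hp).2 hrp).pow_left k)
    have hCAH : Subgroup.centralizer (A : Set G) ≤ H := (Subgroup.centralizer_le hZrA).trans hZrH
    obtain ⟨Zp, hZpM, hZpp, -, hZpH⟩ := hcent p hp hpF
    have hZpP : Zp ≤ P := pGroup_le_opc hMn hZpM hZpp
    have hCPH : Subgroup.centralizer (P : Set G) ≤ H := (Subgroup.centralizer_le hZpP).trans hZpH
    -- `A ≤ O_{p'}(L)`
    haveI := CfsgLib.Solv.pPrimeCore_normal L p
    set O := pPrimeCore p L with hO
    set f := QuotientGroup.mk' O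
    haveI := CfsgLib.Solv.pCore_normal (L ⧸ O) p
    set T := pCore p (L ⧸ O) with hT
    have hTp : IsPGroup p T := pCore_isPGroup (L ⧸ O) p
    set A' := (A.subgroupOf L).map f
    set P' := (P.subgroupOf L).map f
    have hPpg : IsPGroup p (P.subgroupOf L) :=
      (isPGroup_opc p M).of_equiv (Subgroup.subgroupOfEquivOfLe (hPM.trans hML)).symm
    have hA'c : (Nat.card A').Coprime p :=
      (by rw [card_subgroupOf (hAM.trans hML)]; exact hAp : (Nat.card (A.subgroupOf L)).Coprime p).coprime_dvd_left
        ((A.subgroupOf L).card_map_dvd f)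
    have hPA' : P' ≤ Subgroup.centralizer (A' : Set (L ⧸ O)) := by
      rintro _ ⟨a, ha, rfl⟩
      refine Subgroup.mem_centralizer_iff.2 ?_
      rintro _ ⟨b, hb, rfl⟩
      rw [← map_mul, ← map_mul]
      exact congrArg f (Subtype.ext (Subgroup.mem_centralizer_iff.1 (hPA ha) (b : G) hb))
    have hkey' : T ⊓ Subgroup.centralizer (P' : Set (L ⧸ O)) ≤ Subgroup.centralizer (A' : Set (L ⧸ O)) := by
      rintro t ⟨ht, htc⟩
      obtain ⟨S, hPS⟩ := hPpg.exists_le_sylow
      obtain ⟨s, hs, rfl⟩ := pCore_le_sylow (S.mapSurjective (QuotientGroup.mk'_surjective O)) ht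
      have hsH : (s : G) ∈ H := by
        refine hCPH (Subgroup.mem_centralizer_iff.2 fun b hb => ?_)
        have hbS : (⟨b, hML (hPM hb)⟩ : L) ∈ (S : Subgroup L) := hPS hb
        have h1 : ⁅(⟨b, hML (hPM hb)⟩ : L), s⁆ ∈ O := by
          rw [← QuotientGroup.eq_one_iff]
          show f ⁅(⟨b, hML (hPM hb)⟩ : L), s⁆ = 1
          rw [map_commutatorElement, commutatorElement_eq_one_iff_mul_comm]
          exact Subgroup.mem_centralizer_iff.1 htc _ ⟨⟨b, hML (hPM hb)⟩, hb, rfl⟩
        have h2 : ⁅(⟨b, hML (hPM hb)⟩ : L), s⁆ ∈ (S : Subgroup L) := by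
          rw [commutatorElement_def]
          exact mul_mem (mul_mem (mul_mem hbS hs) (inv_mem hbS)) (inv_mem hs)
        have h3 : (S : Subgroup L) ⊓ O = ⊥ := by
          obtain ⟨k, hk⟩ := IsPGroup.iff_card.1 S.2
          exact inf_eq_bot_of_coprime_card (by rw [hk]; exact (pPrimeCore_coprime L p).symm.pow_left k)
        have h4 := h3.le ⟨h2, h1⟩
        rw [Subgroup.mem_bot, commutatorElement_eq_one_iff_mul_comm] at h4
        exact congrArg Subtype.val h4
      refine Subgroup.mem_centralizer_iff.2 ?_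
      rintro _ ⟨a, ha, rfl⟩
      rw [← commutatorElement_eq_one_iff_mul_comm, ← map_commutatorElement, ← orderOf_eq_one_iff]
      have hmemT : f ⁅a, s⁆ ∈ T := by
        rw [map_commutatorElement]
        exact Subgroup.commutator_le_right ⊤ T (Subgroup.commutator_mem_commutator (Subgroup.mem_top _) ht)
      obtain ⟨n, hn⟩ := IsPGroup.iff_card.1 hTp
      have h5 : (orderOf (f ⁅a, s⁆)).Coprime p := by
        haveI := hFn
        set B := (pPrimeCore p F).map F.subtype
        have hB : ((⁅a, s⁆ : L) : G) ∈ B := by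
          have haB : (a : G) ∈ B := by
            refine ⟨⟨(a : G), hM (hAM ha)⟩, coprime_le_pPrimeCore (A.subgroupOf F) ?_ ha, rfl⟩
            rw [card_subgroupOf (hAM.trans hM)]; exact hAp
          have hHB : H ≤ Subgroup.normalizer (B : Set G) := by
            intro h hh
            rw [Subgroup.mem_normalizer_iff_map_conj_eq, Subgroup.map_map]
            have h2 := Subgroup.characteristic_iff_map_eq.1 (pPrimeCore_characteristic (p := p) (G := F))
              (Subgroup.normalizerMonoidHom F ⟨h, hHF hh⟩)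
            show _ = (pPrimeCore p F).map F.subtype
            conv_rhs => rw [← h2, Subgroup.map_map]
            rfl
          show (a : G) * s * (a : G)⁻¹ * (s : G)⁻¹ ∈ B
          rw [show (a : G) * s * (a : G)⁻¹ * (s : G)⁻¹ = (a : G) * ((s : G) * (a : G)⁻¹ * (s : G)⁻¹) by group]
          exact B.mul_mem haB (le_normalizer_iff_forall_conj_mem.1 hHB _ hsH _ (B.inv_mem haB))
        refine Nat.Coprime.coprime_dvd_left ((orderOf_map_dvd f _).trans ?_)
          (pPrimeCore_coprime F p)
        rw [← Subgroup.orderOf_coe]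
        exact (Subgroup.orderOf_dvd_natCard B hB).trans (dvd_of_eq (card_map_subtype _ _))
      exact Nat.eq_one_of_dvd_coprimes (h5.pow_right n) dvd_rfl
        (hn ▸ Subgroup.orderOf_dvd_natCard T hmemT)
    have hA'T := (thompson_pq (hPpg.map f) hA'c hPA' T hTp Subgroup.le_normalizer_of_normal
      Subgroup.le_normalizer_of_normal hkey').trans (centralizer_pCore_le pPrimeCore_quotient_self)
    have hA'1 : A' = ⊥ := by
      obtain ⟨n, hn⟩ := IsPGroup.iff_card.1 hTp
      exact Subgroup.card_eq_one.1 (Nat.eq_one_of_dvd_coprimes (hA'c.pow_right n) dvd_rfl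
        (hn ▸ Subgroup.card_dvd_of_le hA'T))
    have hAO : A.subgroupOf L ≤ O := by
      rw [Subgroup.map_eq_bot_iff, QuotientGroup.ker_mk'] at hA'1; exact hA'1
    -- `C_Q(A)` is trivial
    have hQ0 : Q ⊓ Subgroup.centralizer (A : Set G) = ⊥ := by
      refine hfirst _ (inf_le_left.trans hQR) ?_ (hQF.coprime_dvd_left (Subgroup.card_dvd_of_le inf_le_left))
      set U := Q ⊓ Subgroup.centralizer (A : Set G)
      have hUP : U ≤ Subgroup.centralizer (P : Set G) := by
        have hPU : P ≤ Subgroup.normalizer (U : Set G) := by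
          rw [le_normalizer_iff_forall_conj_mem]
          rintro b hb a ⟨ha, hac⟩
          refine ⟨le_normalizer_iff_forall_conj_mem.1 (hPM.trans hMQ) b hb a ha, ?_⟩
          exact Subgroup.mul_mem _ (Subgroup.mul_mem _ (hPA hb) hac) (Subgroup.inv_mem _ (hPA hb))
        rw [← Subgroup.commutator_eq_bot_iff_le_centralizer, eq_bot_iff]
        have hUF' : (Nat.card U).Coprime (Nat.card (opc p F)) :=
          (hQF.coprime_dvd_left (Subgroup.card_dvd_of_le inf_le_left)).coprime_dvd_right
            (Subgroup.card_dvd_of_le (Subgroup.map_subtype_le _))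
        rw [← inf_eq_bot_of_coprime_card hUF']
        refine le_inf ?_ ?_
        · rw [Subgroup.commutator_comm]
          exact (Subgroup.commutator_mono le_rfl le_rfl).trans (by
            rw [Subgroup.commutator_comm]; exact commutator_le_of_le_normalizer hPU)
        · refine (Subgroup.commutator_mono le_rfl (pGroup_le_opc hFn (hPM.trans hM) (isPGroup_opc p M))).trans ?_
          rw [Subgroup.commutator_comm]
          exact commutator_le_of_le_normalizer
            (((inf_le_right : U ≤ _).trans hCAH).trans (hHF.trans (normalizes_opc p F)))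
      refine Subgroup.le_centralizer_iff.1 (le_of_opc_le hMn fun t ht => ?_)
      haveI := Fact.mk ht
      by_cases htp : t = p
      · subst htp; exact Subgroup.le_centralizer_iff.1 hUP
      · refine (hcore (opc t M) (Subgroup.map_subtype_le _) ?_).trans
          (Subgroup.le_centralizer_iff.1 inf_le_right)
        obtain ⟨k, hk⟩ := IsPGroup.iff_card.1 (isPGroup_opc t M)
        rw [hk]; exact ((Nat.coprime_primes ht hp).2 htp).pow_left k
    intro x hx
    have hcopAQ : (Nat.card A).Coprime (Nat.card Q) :=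
      (hQF.coprime_dvd_right (Subgroup.card_dvd_of_le (hAM.trans hM))).symm
    obtain ⟨y, hy, c, hc, rfl⟩ := commutator_sup_inf_centralizer (hAM.trans hMQ) hcopAQ
      (Or.inr (haveI := hR; isSolvable_of_le hQR)) x hx
    rw [hQ0, Subgroup.mem_bot] at hc
    rw [hc, mul_one]
    refine (Subgroup.commutator_le.2 fun a ha b hb => ?_) hy
    have hb' : (⟨b, hML (hAM hb)⟩ : L) ∈ O := hAO hb
    exact ⟨⁅(⟨a, hRL (hQR ha)⟩ : L), ⟨b, hML (hAM hb)⟩⁆,
      Subgroup.commutator_le_right ⊤ O (Subgroup.commutator_mem_commutator (Subgroup.mem_top _) hb'), rfl⟩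
  -- intersect over the primes of `F`
  set N : Subgroup G := R ⊓ ⨅ p : {p // p ∈ π}, (pPrimeCore (p : ℕ) L).map L.subtype with hN
  have hRN : R ≤ Subgroup.normalizer (N : Set G) := by
    rw [le_normalizer_iff_forall_conj_mem]
    rintro g hg a ⟨haR, ha⟩
    refine ⟨R.mul_mem (R.mul_mem hg haR) (R.inv_mem hg), Subgroup.mem_iInf.2 fun p => ?_⟩
    obtain ⟨b, hb, hba⟩ := Subgroup.mem_iInf.1 ha p
    haveI := CfsgLib.Solv.pPrimeCore_normal L (p : ℕ)
    exact ⟨⟨g, hRL hg⟩ * b * (⟨g, hRL hg⟩ : L)⁻¹,
      (inferInstance : (pPrimeCore (p : ℕ) L).Normal).conj_mem b hb _, by simp [← hba]⟩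
  have hQN : Q ≤ N := le_inf hQR (le_iInf fun p =>
    hkey p (Nat.prime_of_mem_primeFactors p.2) (Nat.dvd_of_mem_primeFactors p.2))
  haveI : (N.subgroupOf R).Normal := Subgroup.normal_subgroupOf_of_le_normalizer hRN
  have hNp : PiNat (primesNotDvd (Nat.card F)) (Nat.card (N.subgroupOf R)) := by
    rw [card_subgroupOf (inf_le_left : N ≤ R)]
    intro t ht htd
    refine ⟨ht, fun htF => ?_⟩
    haveI := Fact.mk ht
    have hm : t ∈ π := Nat.mem_primeFactors.2 ⟨ht, htF, Nat.card_pos.ne'⟩
    have h1 : t ∣ Nat.card ((pPrimeCore t L).map L.subtype) :=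
      htd.trans (Subgroup.card_dvd_of_le (inf_le_right.trans (iInf_le (fun p : {p // p ∈ π} =>
        (pPrimeCore (p : ℕ) L).map L.subtype) ⟨t, hm⟩)))
    rw [card_map_subtype] at h1
    exact ht.ne_one (Nat.eq_one_of_dvd_coprimes (pPrimeCore_coprime L t) h1 dvd_rfl)
  intro x hx
  exact ⟨⟨x, hQR hx⟩, CfsgLib.Solv.le_piCore hNp (hQN hx), rfl⟩

end CfsgLib.OddLocal.LocalInv
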