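import Cfsg.Agent.OddLocal.CNSolvable
import Cfsg.Agent.Inv.ZJApp
import Cfsg.Agent.Inv.ZJFusion
import Cfsg.Agent.Solv.PComplement
import Cfsg.Agent.Solv.TransferTools
import Cfsg.Prelude.Def_OddOrder

set_option autoImplicit false
set_option linter.style.haveILetI false
set_option linter.deprecated false

/-! Minimal simple groups of odd order with nilpotent centralizers. -/

namespace CfsgLib.OddLocal.CN

universe u

open Subgroup CfsgLib.Glau CfsgLib.Inv.ZJ

variable {G : Type u} [Group G] [Finite G]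

theorem ne_two_of_odd (hodd : Odd (Nat.card G)) {p : ℕ} (hpG : p ∣ Nat.card G) : p ≠ 2 :=
  fun h => Nat.not_even_iff_odd.2 hodd (even_iff_two_dvd.2 (h ▸ hpG))

/-- In a group of odd order the normalizer of `Z(J(S))` controls strong fusion. -/
theorem odd_control (hodd : Odd (Nat.card G)) {p : ℕ} [Fact p.Prime] (hpG : p ∣ Nat.card G)
    (S : Sylow p G) :
    Fus (S : Subgroup G) ⊤ (normalizer (zJ 0 (S : Subgroup G) : Set G)) :=
  fusion_zJ (ne_two_of_odd hodd hpG) (Or.inl rfl) G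
    (stable_of_not_involves (ne_two_of_odd hodd hpG) (not_involves_of_odd hodd)) _ (syl_top S) _
    ⟨le_refl _, fun _ _ _ h => h⟩

theorem pResidual_top (hs : IsSimpleGroup G) (hnc : ¬ IsMulCommutative G) {p : ℕ} [Fact p.Prime] :
    Cfsg.pResidual p G = ⊤ := by
  haveI := hs
  haveI := CfsgLib.Inv.pResidual_normal p G
  refine ((inferInstance : (Cfsg.pResidual p G).Normal).eq_bot_or_eq_top).resolve_left fun h => ?_
  have hP : IsPGroup p G := by
    intro g
    obtain ⟨k, hk⟩ := CfsgLib.Inv.exists_pow_mem_pResidual (p := p) g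
    rw [h, mem_bot] at hk
    exact ⟨k, hk⟩
  haveI := hP.isNilpotent
  exact hnc ⟨⟨IsSimpleGroup.comm_iff_isSolvable.2 inferInstance⟩⟩

/-- A solvable group without `p`-quotient and with nontrivial normal `p`-subgroup has normal Sylow
`p`-subgroup, when centralizers are nilpotent. -/
theorem sylow_normal_of_no_quotient {V : Type u} [Group V] [Finite V] [Group.IsSolvable V]
    (hCN : Cfsg.IsCNGroup V) {p : ℕ} [Fact p.Prime] (hres : Cfsg.pResidual p V = ⊤)
    (W : Subgroup V) [W.Normal] (hW : IsPGroup p W) (hW1 : W ≠ ⊥) (S : Sylow p V) :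
    (S : Subgroup V).Normal := by
  have hp := (Fact.out : p.Prime)
  set F := Cfsg.fittingSubgroup V with hF
  haveI : F.Normal := CfsgLib.Solv.fittingSubgroup_normal V
  haveI hFn : Group.IsNilpotent F := CfsgLib.Solv.fittingSubgroup_isNilpotent
  have hWF : W ≤ F := CfsgLib.Solv.le_fittingSubgroup hW.isNilpotent
  have hne : F ≠ ⊥ := fun h => hW1 (le_bot_iff.1 (h ▸ hWF))
  have hpW : p ∣ Nat.card W := by
    obtain ⟨n, hn⟩ := hW.exists_card_eq
    rw [hn]
    refine dvd_pow_self p fun h0 => hW1 (card_eq_one.1 ?_)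
    rw [hn, h0, pow_zero]
  have hpV : p ∣ Nat.card V := hpW.trans (card_subgroup_dvd_card W)
  by_cases hnn : Group.IsNilpotent V
  · exact ((Group.isNilpotent_of_finite_tfae (G := V)).out 0 3 rfl rfl).1 hnn p inferInstance S
  -- `S` lies in the Fitting subgroup
  suffices hidx : ¬ p ∣ F.index by
    haveI := CfsgLib.Solv.pCore_normal V p
    have hSc : (S : Subgroup V) ≤ Cfsg.pCore p V := by
      intro s hs
      have hsF : s ∈ F := by
        rw [← QuotientGroup.eq_one_iff, ← orderOf_eq_one_iff]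
        obtain ⟨k, hk⟩ := IsPGroup.iff_orderOf.1 S.isPGroup' ⟨s, hs⟩
        rw [Subgroup.orderOf_mk] at hk
        exact Nat.eq_one_of_dvd_coprimes ((hp.coprime_iff_not_dvd.2 hidx).pow_left k)
          (hk ▸ orderOf_map_dvd (QuotientGroup.mk' F) s) (index_eq_card F ▸ orderOf_dvd_natCard _)
      obtain ⟨k, hk⟩ := S.isPGroup' ⟨s, hs⟩
      exact CfsgLib.Solv.mem_pCore_of_mem_fitting hsF (congrArg Subtype.val hk : s ^ p ^ k = 1)
    have := S.is_maximal' (CfsgLib.Solv.pCore_isPGroup V p) hSc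
    rw [← this]; infer_instance
  intro hidx
  by_cases hpp : IsPrimePow (Nat.card F)
  · obtain ⟨r, k, hr, hk, hrk⟩ := hpp
    have hrp : p = r := (Nat.prime_dvd_prime_iff_eq hp (Nat.prime_iff.2 hr)).1
      (hp.dvd_of_dvd_pow (hrk ▸ hpW.trans (card_dvd_of_le hWF)))
    subst hrp
    have hFp : IsPGroup p F := IsPGroup.of_card (n := k) hrk.symm
    obtain ⟨-, A, -, -, -, hAp, hKn, hKt, ⟨n, hn⟩, -, -⟩ := three_step hCN hFp hne hidx
    refine hKt (top_unique (le_of_eq_of_le hres.symm ?_))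
    refine (closure_le _).2 fun g hg => ?_
    haveI := hKn
    refine (QuotientGroup.eq_one_iff (N := Cfsg.pCore p V ⊔ A) g).1 (orderOf_eq_one_iff.1 ?_)
    exact Nat.eq_one_of_dvd_coprimes (Nat.Coprime.pow_right n hg)
      (orderOf_map_dvd (QuotientGroup.mk' (Cfsg.pCore p V ⊔ A)) g)
      (hn ▸ index_eq_card (Cfsg.pCore p V ⊔ A) ▸ orderOf_dvd_natCard _)
  · obtain ⟨hcop, -⟩ := hall_of_not_isPrimePow hCN hpp hne
    exact hp.not_dvd_one (hcop ▸ Nat.dvd_gcd (hpW.trans (card_dvd_of_le hWF)) hidx)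

/-- The normalizer of a Sylow subgroup controls strong fusion. -/
theorem exists_control (hG : Cfsg.IsMinSimpleOddOrder G) (hCN : Cfsg.IsCNGroup G) {p : ℕ} [Fact p.Prime]
    (hpG : p ∣ Nat.card G) (S : Sylow p G) :
    Fus (S : Subgroup G) ⊤ (normalizer ((S : Subgroup G) : Set G)) := by
  obtain ⟨hodd, hs, hnc, hsolv⟩ := hG
  haveI := hs
  have hfus := odd_control hodd hpG S
  set W := zJ 0 (S : Subgroup G) with hWdef
  set N := normalizer (W : Set G) with hN
  have hS1 : (S : Subgroup G) ≠ ⊥ := S.ne_bot_of_dvd_card hpG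
  have hW1 : W ≠ ⊥ := zJ_ne_bot (p := p) (Or.inl rfl) S.isPGroup' hS1
  have hWS : W ≤ (S : Subgroup G) := zJ_le _
  have hSN : (S : Subgroup G) ≤ N := le_normalizer.trans (normalizer_le_zJ _)
  have hNtop : N ≠ ⊤ := by
    intro h
    haveI : W.Normal := normalizer_eq_top_iff.1 h
    have hWt := (‹W.Normal›.eq_bot_or_eq_top).resolve_left hW1
    have hP : IsPGroup p G := by
      intro g
      obtain ⟨k, hk⟩ := S.isPGroup' ⟨g, hWS (hWt ▸ mem_top g)⟩
      exact ⟨k, congrArg Subtype.val hk⟩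
    haveI := hP.isNilpotent
    exact hnc ⟨⟨IsSimpleGroup.comm_iff_isSolvable.2 inferInstance⟩⟩
  haveI : Group.IsSolvable N := hsolv N hNtop
  have hctrl : ∀ x ∈ S, ∀ g : G, g * x * g⁻¹ ∈ S → ∃ v ∈ N, v * x * v⁻¹ = g * x * g⁻¹ := by
    intro x hx g hgx
    obtain ⟨v, hv, hve⟩ := hfus (zpowers x) (zpowers_le.2 hx) g trivial (by
      rw [cj, MonoidHom.map_zpowers, zpowers_le]; exact hgx)
    exact ⟨v, hv, hve x (mem_zpowers x)⟩
  have hres : Cfsg.pResidual p N = ⊤ := by
    have h := CfsgLib.Solv.inf_pResidual_eq_of_control S N hSN hctrl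
    rw [pResidual_top hs hnc, inf_top_eq] at h
    haveI := CfsgLib.Inv.pResidual_normal p N
    refine top_unique fun x _ => ?_
    set R := Cfsg.pResidual p N
    obtain ⟨k, hk⟩ := CfsgLib.Inv.exists_pow_mem_pResidual (p := p) x
    have hidx : ¬ p ∣ R.index := by
      have hle : (S : Subgroup G).subgroupOf N ≤ R := by
        intro s hs
        have hs' : (s : G) ∈ R.map N.subtype := (h ▸ (hs : (s : G) ∈ (S : Subgroup G))).2
        obtain ⟨r, hr, he⟩ := hs'
        exact (Subtype.ext he : r = s) ▸ hr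
      intro hd
      refine S.not_dvd_index (hd.trans ((index_dvd_of_le hle).trans ?_))
      exact relIndex_dvd_index_of_le hSN
    rw [← QuotientGroup.eq_one_iff, ← orderOf_eq_one_iff]
    refine Nat.eq_one_of_dvd_coprimes (((Fact.out : p.Prime).coprime_iff_not_dvd.2 hidx).pow_left k) ?_
      (index_eq_card R ▸ orderOf_dvd_natCard _)
    refine orderOf_dvd_of_pow_eq_one ?_
    rw [← QuotientGroup.mk_pow, QuotientGroup.eq_one_iff]
    exact hk
  haveI : (W.subgroupOf N).Normal := normal_in_normalizer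
  haveI hSn : ((S.subtype hSN : Sylow p N) : Subgroup N).Normal := by
    refine sylow_normal_of_no_quotient (cn_subgroup hCN N) hres (W.subgroupOf N)
      ((S.isPGroup'.to_le hWS).comap_subtype) ?_ _
    rw [Ne, subgroupOf_eq_bot, disjoint_iff]
    rwa [inf_eq_left.2 (le_normalizer : W ≤ N)]
  have hNS : N ≤ normalizer ((S : Subgroup G) : Set G) := by
    rw [← normal_subgroupOf_iff_le_normalizer hSN]
    simpa using hSn
  exact fun B hB g hg hgB => by
    obtain ⟨x, hx, he⟩ := hfus B hB g hg hgB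
    exact ⟨x, hNS hx, he⟩

set_option maxHeartbeats 1000000 in
/-- There is no three step subgroup for a prime. -/
theorem not_three_step_prime (hG : Cfsg.IsMinSimpleOddOrder G) (hCN : Cfsg.IsCNGroup G) {p : ℕ}
    [Fact p.Prime] (H : Subgroup G) (h : Cfsg.IsThreeStepGroup p H) : False := by
  have hp := (Fact.out : p.Prime)
  obtain ⟨hP1, A, hA1, -, -, hAp, hKn, hKt, ⟨n, hn⟩, hfpf, hlast⟩ := h
  set P := Cfsg.pCore p H with hP
  haveI hPn : P.Normal := CfsgLib.Solv.pCore_normal H p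
  have hPp : IsPGroup p P := CfsgLib.Solv.pCore_isPGroup H p
  set K := P ⊔ A with hK
  haveI := hKn
  -- a Sylow subgroup
  obtain ⟨T⟩ : Nonempty (Sylow p H) := inferInstance
  obtain ⟨S, hS⟩ := (T.isPGroup'.map H.subtype).exists_le_sylow
  have hPT : P ≤ (T : Subgroup H) := (le_sup_left.trans (T.is_maximal' ((hPp.to_sup_of_normal_left T.isPGroup')) le_sup_right).le)
  have hpG : p ∣ Nat.card G := by
    obtain ⟨m, hm⟩ := hPp.exists_card_eq
    refine (dvd_pow_self p (n := m) fun h0 => hP1 (card_eq_one.1 (by rw [hm, h0, pow_zero]))).trans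
      (hm ▸ (card_subgroup_dvd_card P).trans (card_subgroup_dvd_card H))
  have hfus := exists_control hG hCN hpG S
  obtain ⟨t, htT, htK⟩ : ∃ t ∈ (T : Subgroup H), t ∉ K := by
    by_contra hcon
    simp only [not_exists, not_and, not_not] at hcon
    refine T.not_dvd_index (dvd_trans ?_ (index_dvd_of_le hcon))
    rw [hn]
    exact dvd_pow_self p fun h0 => hKt (index_eq_one.1 (by rw [hn, h0, pow_zero]))
  obtain ⟨a, ha, ha1⟩ := A.bot_or_exists_ne_one.resolve_left hA1
  -- conjugation by `a` on `P`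
  set P' := P.map H.subtype with hP'
  have hP'S : P' ≤ (S : Subgroup G) := (map_mono hPT).trans hS
  have hnorm : ∀ x : H, (x : G) ∈ normalizer (P' : Set G) := fun x =>
    le_normalizer_map H.subtype ⟨x, by rw [normalizer_eq_top]; exact mem_top _, rfl⟩
  obtain ⟨v, hv, hve⟩ := hfus P' hP'S (a : G) trivial (by
    rintro _ ⟨y, hy, rfl⟩
    exact hP'S ((mem_normalizer_iff.1 (hnorm a) y).1 hy))
  set c := v⁻¹ * (a : G) with hc
  have hcC : c ∈ centralizer (P' : Set G) := by
    refine mem_centralizer_iff.2 fun y hy => ?_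
    have := hve y hy
    calc y * c = v⁻¹ * (v * y * v⁻¹) * (a : G) := by rw [hc]; group
      _ = v⁻¹ * ((a : G) * y * (a : G)⁻¹) * (a : G) := by rw [this]
      _ = c * y := by rw [hc]; group
  have hcN : c ∈ normalizer (P' : Set G) := centralizer_le_normalizer _ hcC
  have hvN : v ∈ normalizer (P' : Set G) := by
    have : v = (a : G) * c⁻¹ := by rw [hc]; group
    rw [this]
    exact (normalizer (P' : Set G)).mul_mem (hnorm a) ((normalizer (P' : Set G)).inv_mem hcN)
  -- the commutator is congruent to an element of `S`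
  set u : H := a * t * a⁻¹ * t⁻¹ with hu
  set s : G := v * (t : G) * v⁻¹ * (t : G)⁻¹ with hs
  have hsS : s ∈ (S : Subgroup G) := (S : Subgroup G).mul_mem
    ((mem_normalizer_iff.1 hv t).1 (hS (mem_map_of_mem _ htT)))
    ((S : Subgroup G).inv_mem (hS (mem_map_of_mem _ htT)))
  have hsN : s ∈ normalizer (P' : Set G) :=
    mul_mem (mul_mem (mul_mem hvN (hnorm t)) (inv_mem hvN)) (inv_mem (hnorm t))
  obtain ⟨k, hk⟩ := S.isPGroup' ⟨s, hsS⟩
  -- a power centralizes `P'`
  set N := normalizer (P' : Set G)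
  set C := (centralizer (P' : Set G)).subgroupOf N
  haveI : C.Normal := by
    refine ⟨fun y hy g => mem_subgroupOf.2 (mem_centralizer_iff.2 fun w hw => ?_)⟩
    have hw' := (mem_normalizer_iff.1 (N.inv_mem g.2) w).1 hw
    have h1 : (g : G)⁻¹ * w * (g : G)⁻¹⁻¹ * (y : G) = (y : G) * ((g : G)⁻¹ * w * (g : G)⁻¹⁻¹) :=
      mem_centralizer_iff.1 hy _ hw'
    rw [inv_inv] at h1
    have h2 := congrArg (fun z => (g : G) * z * (g : G)⁻¹) h1
    simpa [mul_assoc] using h2
  have hπ : ∀ (x : G) (hx : x ∈ N), QuotientGroup.mk' C ⟨x, hx⟩ = 1 ↔ x ∈ centralizer (P' : Set G) :=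
    fun x hx => QuotientGroup.eq_one_iff _
  have huN : (u : G) ∈ N := hnorm u
  have heq : QuotientGroup.mk' C ⟨(u : G), huN⟩ = QuotientGroup.mk' C ⟨s, hsN⟩ := by
    have ha' : QuotientGroup.mk' C ⟨(a : G), hnorm a⟩ = QuotientGroup.mk' C ⟨v, hvN⟩ := by
      have : (⟨(a : G), hnorm a⟩ : N) = ⟨v, hvN⟩ * ⟨c, hcN⟩ := Subtype.ext (by
        show (a : G) = v * c
        rw [hc]; group)
      rw [this, map_mul, (hπ c hcN).2 hcC, mul_one]
    have e1 : (⟨(u : G), huN⟩ : N) =
        ⟨(a : G), hnorm a⟩ * ⟨(t : G), hnorm t⟩ * ⟨(a : G), hnorm a⟩⁻¹ * ⟨(t : G), hnorm t⟩⁻¹ :=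
      Subtype.ext (by simp [hu])
    have e2 : (⟨s, hsN⟩ : N) = ⟨v, hvN⟩ * ⟨(t : G), hnorm t⟩ * ⟨v, hvN⟩⁻¹ * ⟨(t : G), hnorm t⟩⁻¹ :=
      Subtype.ext (by simp [hs])
    simp only [e1, e2, map_mul, map_inv, ha']
  have hpowC : ((u ^ p ^ k : H) : G) ∈ centralizer (P' : Set G) := by
    rw [← hπ _ (by rw [SubmonoidClass.coe_pow]; exact N.pow_mem huN _)]
    have : (⟨((u ^ p ^ k : H) : G), by rw [SubmonoidClass.coe_pow]; exact N.pow_mem huN _⟩ : N) =
        ⟨(u : G), huN⟩ ^ p ^ k := Subtype.ext (by simp)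
    rw [this, map_pow, heq, ← map_pow]
    refine (QuotientGroup.eq_one_iff _).2 (mem_subgroupOf.2 ?_)
    have hk' : s ^ p ^ k = 1 := congrArg Subtype.val hk
    simp [hk']
  have huK : u ∈ K := by
    rw [hu, show a * t * a⁻¹ * t⁻¹ = a * (t * a⁻¹ * t⁻¹) by group]
    exact K.mul_mem (mem_sup_right ha) (hKn.conj_mem _ (K.inv_mem (mem_sup_right ha)) t)
  -- centralizing elements of `K` lie in `P`
  have hCK : u ^ p ^ k ∈ P := by
    obtain ⟨f, hf, b, hb, hfb⟩ := mem_sup_of_normal_left.1 (K.pow_mem huK (p ^ k))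
    haveI : Nontrivial P := (nontrivial_iff_ne_bot P).2 hP1
    haveI := hPp.center_nontrivial
    obtain ⟨⟨z, hz⟩, hz1⟩ := exists_ne (1 : center P)
    rw [← hfb]
    by_cases hb1 : b = 1
    · rw [hb1, mul_one]; exact hf
    exfalso
    have h1 : (z : H) * (f * b) = f * b * (z : H) := by
      rw [hfb]
      exact Subtype.ext (mem_centralizer_iff.1 hpowC ((z : H) : G) (mem_map_of_mem _ z.2))
    have h2 : f * (z : H) = (z : H) * f := congrArg Subtype.val (mem_center_iff.1 hz ⟨f, hf⟩)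
    rw [← mul_assoc, ← h2, mul_assoc, mul_assoc, mul_left_cancel_iff] at h1
    have h3 : (z : H) ∈ P ⊓ centralizer ({b} : Set H) := ⟨z.2, mem_centralizer_singleton_iff.2 h1⟩
    rw [hfpf b hb hb1, mem_bot] at h3
    exact hz1 (Subtype.ext (Subtype.ext h3))
  obtain ⟨f, hf, b, hb, hfb⟩ := mem_sup_of_normal_left.1 huK
  have huP : u ∈ P := by
    rw [← hfb]
    refine P.mul_mem hf ?_
    rw [← QuotientGroup.eq_one_iff, ← orderOf_eq_one_iff]
    refine Nat.eq_one_of_dvd_coprimes ((hAp.coprime_dvd_left (orderOf_dvd_natCard A hb)).pow_right k)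
      (orderOf_map_dvd (QuotientGroup.mk' P) b) (orderOf_dvd_of_pow_eq_one ?_)
    have : (b : H ⧸ P) = (u : H ⧸ P) := by
      rw [← hfb, QuotientGroup.mk_mul, (QuotientGroup.eq_one_iff f).2 hf, one_mul]
    show (b : H ⧸ P) ^ p ^ k = 1
    rw [this, ← QuotientGroup.mk_pow, QuotientGroup.eq_one_iff]
    exact hCK
  refine hlast t htK a ha ha1 ?_
  rw [show t * a * t⁻¹ * a⁻¹ = u⁻¹ by rw [hu]; group]
  exact P.inv_mem huP

theorem coprime_of_dvd_primes {p m : ℕ} (hm : m ≠ 0) (h : ∀ l : ℕ, l.Prime → l ∣ m → l ∣ p) : m ∣ p ^ m := by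
  rw [Nat.dvd_iff_prime_pow_dvd_dvd]
  intro l k hl hd
  rcases Nat.eq_zero_or_pos k with h0 | h0
  · simp [h0]
  refine (pow_dvd_pow l ?_).trans (pow_dvd_pow_of_dvd (h l hl ((dvd_pow_self l h0.ne').trans hd)) m)
  exact (Nat.lt_pow_self hl.one_lt).le.trans (Nat.le_of_dvd (Nat.pos_of_ne_zero hm) hd)

/-- No three step subgroups at all. -/
theorem not_three_step (hG : Cfsg.IsMinSimpleOddOrder G) (hCN : Cfsg.IsCNGroup G) {p : ℕ}
    (H : Subgroup G) : ¬ Cfsg.IsThreeStepGroup p H := by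
  intro h
  obtain ⟨hP1, A, hA1, -, -, hAp, hKn, hKt, ⟨n, hn⟩, hfpf, hlast⟩ := h
  obtain ⟨hodd, hsimp, hnc, hsolv⟩ := hG
  haveI := hsimp
  set P := Cfsg.pCore p H with hP
  haveI hPn : P.Normal := Subgroup.sSup_normal _ fun _ h => h.1
  haveI := hKn
  have hHtop : H ≠ ⊤ := by
    intro ht
    subst ht
    haveI : Nontrivial (⊤ : Subgroup G) := topEquiv.symm.injective.nontrivial
    haveI : IsSimpleGroup (⊤ : Subgroup G) :=
      IsSimpleGroup.isSimpleGroup_of_surjective (topEquiv : (⊤ : Subgroup G) ≃* G).symm.toMonoidHom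
        (topEquiv : (⊤ : Subgroup G) ≃* G).symm.surjective
    have hPt := (hPn.eq_bot_or_eq_top).resolve_left hP1
    exact hKt (top_unique (hPt.ge.trans le_sup_left))
  haveI : Group.IsSolvable H := hsolv H hHtop
  have hCH := cn_subgroup hCN H
  set F := Cfsg.fittingSubgroup H with hF
  haveI : F.Normal := CfsgLib.Solv.fittingSubgroup_normal H
  have hFn : Group.IsNilpotent F := CfsgLib.Solv.fittingSubgroup_isNilpotent
  -- the Fitting subgroup is a `p`-group in the generalized sense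
  have hFl : ∀ l : ℕ, l.Prime → ¬ l ∣ p → ∀ f ∈ F, orderOf f = l → False := by
    intro l hl hlp f hf hfo
    haveI := Fact.mk hl
    haveI := CfsgLib.Solv.pCore_normal H l
    set L := Cfsg.pCore l H
    have hfL : f ∈ L := CfsgLib.Solv.mem_pCore_of_mem_fitting (k := 1) hf (by
      rw [pow_one, ← hfo]; exact pow_orderOf_eq_one f)
    have hcl : ∀ y ∈ P, ∀ (j : ℕ), (orderOf y).Coprime (l ^ j) := by
      intro y hy j
      refine (Nat.Coprime.pow_right j ((hl.coprime_iff_not_dvd.2 fun hd => hlp ?_).symm))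
      have : ∀ N : Subgroup H, N.Normal ∧ IsPGroup p N → N ≤ Cfsg.pPrimeCore l H := by
        intro N hN
        refine CfsgLib.Fus.le_pPrimeCore hN.1 ((hl.coprime_iff_not_dvd.2 fun hd => hlp ?_).symm)
        obtain ⟨y, hy⟩ := exists_prime_orderOf_dvd_card' l hd
        obtain ⟨k, hk⟩ := hN.2 y
        exact hl.dvd_of_dvd_pow (hy ▸ orderOf_dvd_of_pow_eq_one hk)
      have hy' : y ∈ Cfsg.pPrimeCore l H := (sSup_le this : P ≤ _) hy
      exact absurd ((hd.trans (orderOf_dvd_natCard _ hy')))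
        (hl.coprime_iff_not_dvd.1 (CfsgLib.Fus.coprime_card_pPrimeCore (G := H) l).symm)
    have hfK : f ∈ P ⊔ A := by
      rw [← QuotientGroup.eq_one_iff, ← orderOf_eq_one_iff]
      refine Nat.eq_one_of_dvd_coprimes ((hl.coprime_iff_not_dvd.2 hlp).pow_right n)
        (hfo ▸ orderOf_map_dvd (QuotientGroup.mk' (P ⊔ A)) f) ?_
      rw [← hn, index_eq_card]
      exact orderOf_dvd_natCard _
    obtain ⟨g, hg, b, hb, hgb⟩ := mem_sup_of_normal_left.1 hfK
    have hcomm : ∀ y ∈ P, Commute y f := by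
      intro y hy
      refine Subgroup.commute_of_normal_of_disjoint P L hPn inferInstance ?_ y f hy hfL
      rw [disjoint_def]
      intro z hz hzL
      obtain ⟨j, hj⟩ := IsPGroup.iff_orderOf.1 (CfsgLib.Solv.pCore_isPGroup H l) ⟨z, hzL⟩
      rw [Subgroup.orderOf_mk] at hj
      exact orderOf_eq_one_iff.1 (Nat.eq_one_of_dvd_coprimes (hcl z hz j) dvd_rfl hj.dvd)
    have hbm : b ^ orderOf g = f ^ orderOf g := by
      rw [show b = g⁻¹ * f by rw [← hgb]; group, (hcomm g hg).inv_left.mul_pow, inv_pow,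
        pow_orderOf_eq_one, inv_one, one_mul]
    have hb1 : b ^ orderOf g = 1 := by
      by_contra hne
      obtain ⟨y, hy, hy1⟩ := P.bot_or_exists_ne_one.resolve_left hP1
      have : y ∈ P ⊓ centralizer ({b ^ orderOf g} : Set H) :=
        ⟨hy, mem_centralizer_singleton_iff.2 (by rw [hbm]; exact ((hcomm y hy).pow_right _).eq)⟩
      rw [hfpf _ (A.pow_mem hb _) hne, mem_bot] at this
      exact hy1 this
    rw [hbm] at hb1
    have h1 := Nat.eq_one_of_dvd_coprimes (hcl g hg 1) (orderOf_dvd_of_pow_eq_one hb1)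
      (by rw [pow_one, hfo])
    rw [hfo] at h1
    exact hl.ne_one h1
  have hFP : F ≤ P := by
    refine le_sSup ⟨inferInstance, fun f => ⟨orderOf f, ?_⟩⟩
    refine orderOf_dvd_iff_pow_eq_one.1 (coprime_of_dvd_primes (orderOf_pos f).ne' fun l hl hd => ?_)
    by_contra hlp
    exact hFl l hl hlp ((f ^ (orderOf f / l) : F) : H) (f ^ (orderOf f / l)).2
      (by rw [Subgroup.orderOf_coe, orderOf_pow_orderOf_div (orderOf_pos f).ne' hd])
  -- the two cases
  have hne : F ≠ ⊥ := by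
    intro hb
    have hc := CfsgLib.Solv.centralizer_fittingSubgroup_le (G := H)
    rw [← hF, hb] at hc
    obtain ⟨a, ha, ha1⟩ := A.bot_or_exists_ne_one.resolve_left hA1
    exact ha1 (mem_bot.1 (hc (mem_centralizer_iff.2 fun m hm => by
      rw [SetLike.mem_coe, mem_bot] at hm; rw [hm, one_mul, mul_one])))
  have hfrob : ((Nat.card F).Coprime F.index ∧ ∀ x ∈ F, x ≠ 1 → centralizer ({x} : Set H) ≤ F) → False := by
    rintro ⟨hcop, hC⟩
    have hnn : ¬ Group.IsNilpotent H := by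
      intro hn'
      have ht : (⊤ : Subgroup H) ≤ F :=
        CfsgLib.Solv.le_fittingSubgroup (Group.nilpotent_of_mulEquiv topEquiv.symm)
      exact hKt (top_unique (ht.trans (hFP.trans le_sup_left)))
    obtain ⟨E, hE, -, -, hEn, -⟩ := frobenius_case hCH hnn hFn hne hcop hC
    haveI := hEn
    haveI : Group.IsNilpotent (H ⧸ F) := Group.nilpotent_of_mulEquiv hE.symm.QuotientMulEquiv.symm
    obtain ⟨a, ha, ha1⟩ := A.bot_or_exists_ne_one.resolve_left hA1
    obtain ⟨q, hq, hqd⟩ := Nat.exists_prime_and_dvd (fun h1 => hKt (index_eq_one.1 h1) : (P ⊔ A).index ≠ 1)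
    haveI := Fact.mk hq
    have hqp : q ∣ p := hq.dvd_of_dvd_pow (hn ▸ hqd)
    obtain ⟨T⟩ : Nonempty (Sylow q H) := inferInstance
    obtain ⟨t, ht, htK⟩ : ∃ t ∈ (T : Subgroup H), t ∉ P ⊔ A := by
      by_contra hcon
      simp only [not_exists, not_and, not_not] at hcon
      exact T.not_dvd_index (hqd.trans (index_dvd_of_le hcon))
    refine hlast t htK a ha ha1 (hFP ((QuotientGroup.eq_one_iff _).1 ?_))
    have hc : Commute (t : H ⧸ F) (a : H ⧸ F) := by
      refine commute_of_coprime_nilpotent ?_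
      obtain ⟨j, hj⟩ := IsPGroup.iff_orderOf.1 T.isPGroup' ⟨t, ht⟩
      rw [Subgroup.orderOf_mk] at hj
      refine ((Nat.Coprime.pow_right j ?_).symm.coprime_dvd_left
        (hj ▸ orderOf_map_dvd (QuotientGroup.mk' F) t)).coprime_dvd_right
        (orderOf_map_dvd (QuotientGroup.mk' F) a)
      exact (hAp.coprime_dvd_right hqp).coprime_dvd_left (orderOf_dvd_natCard A ha)
    simp only [QuotientGroup.mk_mul, QuotientGroup.mk_inv]
    rw [hc.eq]; group
  by_cases hpp : IsPrimePow (Nat.card F)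
  · obtain ⟨r, k, hr, hk, hrk⟩ := hpp
    haveI := Fact.mk (Nat.prime_iff.2 hr)
    have hFr : IsPGroup r F := IsPGroup.of_card (n := k) hrk.symm
    by_cases hidx : r ∣ F.index
    · exact not_three_step_prime ⟨hodd, hsimp, hnc, hsolv⟩ hCN H (three_step hCH hFr hne hidx)
    · exact hfrob (hall_of_sylow hCH hFr CfsgLib.Solv.centralizer_fittingSubgroup_le hidx)
  · exact hfrob (hall_of_not_isPrimePow hCH hpp hne)

end CfsgLib.OddLocal.CN
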