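import Cfsg.Agent.OddLocal.MinSimpleCN

set_option autoImplicit false
set_option linter.style.haveILetI false
set_option linter.deprecated false

/-! Maximal nilpotent subgroups and maximal subgroups of minimal simple CN groups of odd order. -/

namespace CfsgLib.OddLocal.CN

universe u

open Subgroup CfsgLib.Glau Cfsg.Agent.S1473 Cfsg.Agent.S1477

/-- Maximal among the nilpotent subgroups. -/
def MaxNilp {G : Type u} [Group G] (H : Subgroup G) : Prop :=
  Group.IsNilpotent H ∧ ∀ L : Subgroup G, Group.IsNilpotent L → H ≤ L → L = H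

variable {G : Type u} [Group G] [Finite G]

theorem exists_maxNilp {L : Subgroup G} (hL : Group.IsNilpotent L) :
    ∃ H : Subgroup G, MaxNilp H ∧ L ≤ H := by
  obtain ⟨H, hLH, hmax⟩ := (Set.toFinite {H : Subgroup G | Group.IsNilpotent H}).exists_le_maximal
    (show L ∈ {H : Subgroup G | Group.IsNilpotent H} from hL)
  exact ⟨H, ⟨hmax.1, fun M hM hle => le_antisymm (hmax.2 hM hle) hle⟩, hLH⟩

theorem MaxNilp.map {H : Subgroup G} (h : MaxNilp H) (g : G) :
    MaxNilp (H.map (MulAut.conj g).toMonoidHom) := by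
  constructor
  · haveI := h.1
    exact Group.nilpotent_of_mulEquiv (H.equivMapOfInjective _ (MulAut.conj g).injective)
  · intro L hL hle
    haveI := hL
    have hn : Group.IsNilpotent (L.map (MulAut.conj g⁻¹).toMonoidHom) :=
      Group.nilpotent_of_mulEquiv (L.equivMapOfInjective _ (MulAut.conj g⁻¹).injective)
    have h2 := h.2 _ hn (fun x hx => ⟨g * x * g⁻¹, hle ⟨x, hx, rfl⟩, by simp [mul_assoc]⟩)
    refine le_antisymm (fun y hy => ?_) hle
    exact ⟨g⁻¹ * y * g⁻¹⁻¹, h2.le ⟨y, hy, rfl⟩, by simp [mul_assoc]⟩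

theorem prime_dvd_of_mem {H : Subgroup G} {x : G} (hx : x ∈ H) (hx1 : x ≠ 1) :
    ∃ p : ℕ, p.Prime ∧ p ∣ Nat.card H := by
  obtain ⟨p, hp, hpx⟩ := Nat.exists_prime_and_dvd (n := orderOf x) (by rwa [Ne, orderOf_eq_one_iff])
  exact ⟨p, hp, hpx.trans (orderOf_dvd_natCard H hx)⟩

section Fixed

variable (hG : Cfsg.IsMinSimpleOddOrder G) (hCN : Cfsg.IsCNGroup G)

include hG in
theorem not_nilpotent : ¬ Group.IsNilpotent G := fun h => by
  haveI := hG.2.1
  haveI := h
  exact hG.2.2.1 ⟨⟨IsSimpleGroup.comm_iff_isSolvable.2 inferInstance⟩⟩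

include hG in
theorem MaxNilp.ne_bot {H : Subgroup G} (h : MaxNilp H) : H ≠ ⊥ := by
  rintro rfl
  haveI := hG.2.1
  obtain ⟨g, hg⟩ := exists_ne (1 : G)
  letI : CommGroup (zpowers g) := IsCyclic.commGroup
  have := h.2 (zpowers g) inferInstance bot_le
  exact hg (mem_bot.1 (this ▸ mem_zpowers g))

include hG in
theorem MaxNilp.ne_top {H : Subgroup G} (h : MaxNilp H) : H ≠ ⊤ := by
  rintro rfl
  haveI := h.1
  exact not_nilpotent hG (Group.nilpotent_of_mulEquiv topEquiv)

omit [Finite G] in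
theorem normalizer_ne_top_of_simple [IsSimpleGroup G] {H : Subgroup G} (h1 : H ≠ ⊥) (h2 : H ≠ ⊤) :
    normalizer (H : Set G) ≠ ⊤ := fun h => by
  haveI : H.Normal := normalizer_eq_top_iff.1 h
  exact h2 (‹H.Normal›.eq_bot_or_eq_top.resolve_left h1)

include hCN in
theorem MaxNilp.exists_sylow {H : Subgroup G} (h : MaxNilp H) {p : ℕ} [Fact p.Prime]
    (hp : p ∣ Nat.card H) : ∃ S : Sylow p G, (S : Subgroup G) ≤ H := by
  obtain ⟨P⟩ : Nonempty (Sylow p H) := inferInstance
  obtain ⟨Q, hQ⟩ := (P.isPGroup'.map H.subtype).exists_le_sylow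
  refine ⟨Q, le_of_eq_of_le (eq_of_le_of_card_ge hQ ?_).symm (map_subtype_le _)⟩
  have hi : ¬ p ∣ H.index := fun hd =>
    (Fact.out : p.Prime).not_dvd_one ((hall hCN h.1 h.2) ▸ Nat.dvd_gcd hp hd)
  rw [Subgroup.card_map_of_injective H.subtype_injective, P.card_eq_multiplicity,
    Q.card_eq_multiplicity, ← H.card_mul_index, Nat.factorization_mul Nat.card_pos.ne'
      index_ne_zero_of_finite, Finsupp.add_apply, Nat.factorization_eq_zero_of_not_dvd hi, add_zero]

include hG hCN in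
theorem MaxNilp.centralizer_le {H : Subgroup G} (h : MaxNilp H) {x : G} (hx : x ∈ H) (hx1 : x ≠ 1) :
    centralizer ({x} : Set G) ≤ H := by
  by_cases hpp : IsPrimePow (Nat.card H)
  swap
  · exact Cfsg.Agent.S1477.centralizer_le hCN h.1 h.2 hpp
      (fun h1 => h.ne_bot hG (card_eq_one.1 h1)) hx hx1
  obtain ⟨p, k, hp, hk, hpk⟩ := hpp
  haveI := Fact.mk (Nat.prime_iff.2 hp)
  have hHp : IsPGroup p H := IsPGroup.of_card (n := k) hpk.symm
  have hpH : p ∣ Nat.card H := hpk ▸ dvd_pow_self p hk.ne'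
  obtain ⟨S, hS⟩ := h.exists_sylow hCN hpH
  have hHS : H = (S : Subgroup G) := S.is_maximal' hHp hS
  have hpG : p ∣ Nat.card G := hpH.trans (card_subgroup_dvd_card H)
  obtain ⟨z, hz, hz1, hzo, hzc⟩ := exists_central h.1 hpH
  have hCp : IsPGroup p (centralizer ({x} : Set G)) := by
    have hle : ∀ c ∈ centralizer ({x} : Set G), ∀ l : ℕ, l.Prime → l ≠ p → orderOf c = l → False := by
      intro c hc l hl hlp hlc
      have hcz : Commute z c := commute_in_centralizer hCN hx1 (hzc x hx).symm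
        (mem_centralizer_singleton_iff.1 hc) hzo
        (by rw [hlc]; exact (Nat.coprime_primes hl Fact.out).2 hlp)
      have hcH : c ∈ H := (central_eq hCN h.2 hz1 hzc) ▸ mem_centralizer_singleton_iff.2 hcz.symm.eq
      obtain ⟨j, hj⟩ := IsPGroup.iff_orderOf.1 hHp ⟨c, hcH⟩
      rw [Subgroup.orderOf_mk, hlc] at hj
      rcases Nat.eq_zero_or_pos j with h0 | h0
      · rw [h0, pow_zero] at hj; exact hl.ne_one hj
      · exact hlp ((Nat.prime_dvd_prime_iff_eq hl Fact.out).1 (hl.dvd_of_dvd_pow hj.dvd))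
    intro c
    obtain ⟨m, hm⟩ : ∃ m, Nat.card (centralizer ({x} : Set G)) = p ^ m := by
      refine ⟨_, Nat.eq_prime_pow_of_unique_prime_dvd Nat.card_pos.ne' fun {l} hl hld => ?_⟩
      by_contra hne
      haveI := Fact.mk hl
      obtain ⟨c, hc⟩ := exists_prime_orderOf_dvd_card' l hld
      exact hle c c.2 l hl hne (by rw [Subgroup.orderOf_coe, hc])
    exact ⟨m, orderOf_dvd_iff_pow_eq_one.1 (hm ▸ orderOf_dvd_natCard c)⟩
  obtain ⟨T, hT⟩ := hCp.exists_le_sylow
  obtain ⟨g, hg⟩ := MulAction.exists_smul_eq G S T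
  have hconj : ∀ c ∈ centralizer ({x} : Set G), g⁻¹ * c * g ∈ (S : Subgroup G) := by
    intro c hc
    have := hT hc
    rw [← hg, Sylow.coe_subgroup_smul, Subgroup.mem_pointwise_smul_iff_inv_smul_mem] at this
    simpa [MulAut.smul_def] using this
  have hxg : g⁻¹ * x * g ∈ (S : Subgroup G) := hconj x (mem_centralizer_singleton_iff.2 rfl)
  obtain ⟨v, hv, hve⟩ := exists_control hG hCN hpG S (zpowers x) (zpowers_le.2 (hHS ▸ hx)) g⁻¹ trivial
    (by rw [cj, MonoidHom.map_zpowers, zpowers_le]; simpa using hxg)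
  have hvx : v * x * v⁻¹ = g⁻¹ * x * g := by simpa using hve x (mem_zpowers x)
  have hd : g * v ∈ centralizer ({x} : Set G) := by
    rw [mem_centralizer_singleton_iff]
    calc g * v * x = g * (v * x * v⁻¹) * v := by group
      _ = x * (g * v) := by rw [hvx]; group
  set N := normalizer ((S : Subgroup G) : Set G)
  have h2 : v * g ∈ N := by
    have := le_normalizer (hconj _ hd)
    rwa [show g⁻¹ * (g * v) * g = v * g by group] at this
  have hgN : g ∈ N := by simpa using N.mul_mem (N.inv_mem hv) h2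
  intro c hc
  rw [hHS]
  have h3 := (mem_normalizer_iff.1 hgN _).1 (hconj c hc)
  rwa [show g * (g⁻¹ * c * g) * g⁻¹ = c by group] at h3

include hG hCN in
theorem MaxNilp.eq_of_mem {H₁ H₂ : Subgroup G} (h₁ : MaxNilp H₁) (h₂ : MaxNilp H₂) {x : G}
    (hx₁ : x ∈ H₁) (hx₂ : x ∈ H₂) (hx1 : x ≠ 1) : H₁ = H₂ := by
  obtain ⟨p, hp, hpd⟩ := prime_dvd_of_mem hx₂ hx1
  haveI := Fact.mk hp
  obtain ⟨z, hz, hz1, -, hzc⟩ := exists_central h₂.1 hpd
  have hzH : z ∈ H₁ := h₁.centralizer_le hG hCN hx₁ hx1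
    (mem_centralizer_singleton_iff.2 (hzc x hx₂).eq.symm)
  have h := h₁.centralizer_le hG hCN hzH hz1
  rw [central_eq hCN h₂.2 hz1 hzc] at h
  exact h₂.2 H₁ h₁.1 h

include hG hCN in
theorem MaxNilp.ti {H : Subgroup G} (h : MaxNilp H) (g : G)
    (hne : H.map (MulAut.conj g).toMonoidHom ≠ H) : H ⊓ H.map (MulAut.conj g).toMonoidHom = ⊥ := by
  rw [eq_bot_iff]
  intro x hx
  by_contra hx1
  exact hne ((h.map g).eq_of_mem hG hCN h hx.2 hx.1 (fun e => hx1 (mem_bot.2 e)))

include hG hCN in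
theorem MaxNilp.conj_or_coprime {H₁ H₂ : Subgroup G} (h₁ : MaxNilp H₁) (h₂ : MaxNilp H₂) :
    (∃ g : G, H₂ = H₁.map (MulAut.conj g).toMonoidHom) ∨ (Nat.card H₁).Coprime (Nat.card H₂) := by
  by_cases hc : (Nat.card H₁).Coprime (Nat.card H₂)
  · exact Or.inr hc
  obtain ⟨p, hp, hp1, hp2⟩ := Nat.Prime.not_coprime_iff_dvd.1 hc
  haveI := Fact.mk hp
  obtain ⟨S₁, hS₁⟩ := h₁.exists_sylow hCN hp1
  obtain ⟨S₂, hS₂⟩ := h₂.exists_sylow hCN hp2
  obtain ⟨g, hg⟩ := MulAction.exists_smul_eq G S₁ S₂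
  refine Or.inl ⟨g, ?_⟩
  obtain ⟨x, hx, hx1⟩ := (S₂ : Subgroup G).bot_or_exists_ne_one.resolve_left
    (S₂.ne_bot_of_dvd_card (hp2.trans (card_subgroup_dvd_card H₂)))
  refine h₂.eq_of_mem hG hCN (h₁.map g) (hS₂ hx) ?_ hx1
  rw [← hg, Sylow.coe_subgroup_smul] at hx
  exact map_mono (f := (MulAut.conj g).toMonoidHom) hS₁ hx

include hG hCN in
theorem MaxNilp.exists_compl {H : Subgroup G} (h : MaxNilp H) :
    ∃ E : Subgroup G, Cfsg.IsComplIn H E (normalizer (H : Set G)) ∧ E ≠ ⊥ ∧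
      ∀ e ∈ E, e ≠ 1 → H ⊓ centralizer ({e} : Set G) = ⊥ := by
  set N := normalizer (H : Set G) with hN
  have hHN : H ≤ N := le_normalizer
  haveI : (H.subgroupOf N).Normal := normal_in_normalizer
  have hcop : (Nat.card (H.subgroupOf N)).Coprime (H.subgroupOf N).index := by
    rw [Nat.card_congr (subgroupOfEquivOfLe hHN).toEquiv]
    exact (hall hCN h.1 h.2).coprime_dvd_right (relIndex_dvd_index_of_le hHN)
  obtain ⟨E₀, hE₀⟩ := exists_right_complement'_of_coprime hcop
  refine ⟨E₀.map N.subtype, ⟨hHN, map_subtype_le _, ?_, ?_⟩, ?_, ?_⟩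
  · rw [eq_bot_iff]
    rintro _ ⟨hxH, e, he, rfl⟩
    exact mem_bot.2 (congrArg Subtype.val (disjoint_def.1 hE₀.disjoint hxH he))
  · intro m hm
    have : (⟨m, hm⟩ : N) ∈ H.subgroupOf N ⊔ E₀ := by rw [hE₀.sup_eq_top]; exact mem_top _
    obtain ⟨a, ha, b, hb, he⟩ := mem_sup_of_normal_left.1 this
    exact ⟨a, ha, b, mem_map_of_mem _ hb, (congrArg Subtype.val he).symm⟩
  · -- otherwise a Sylow normalizer is nilpotent
    intro hE
    rw [map_eq_bot_iff_of_injective _ N.subtype_injective] at hE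
    rw [hE, isComplement'_bot_right, subgroupOf_eq_top] at hE₀
    obtain ⟨p, hp, hpd⟩ := Nat.exists_prime_and_dvd (fun h1 => h.ne_bot hG (card_eq_one.1 h1))
    haveI := Fact.mk hp
    obtain ⟨S, hS⟩ := h.exists_sylow hCN hpd
    have hpG : p ∣ Nat.card G := hpd.trans (card_subgroup_dvd_card H)
    obtain ⟨x, hxS, hx1⟩ := (S : Subgroup G).bot_or_exists_ne_one.resolve_left (S.ne_bot_of_dvd_card hpG)
    have hNS : normalizer ((S : Subgroup G) : Set G) ≤ H := by
      intro n hn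
      refine hE₀ ?_
      have heq : H.map (MulAut.conj n).toMonoidHom = H :=
        (h.map n).eq_of_mem hG hCN h (x := n * x * n⁻¹) ⟨x, hS hxS, rfl⟩
          (hS ((mem_normalizer_iff.1 hn x).1 hxS)) (fun e => hx1 (conj_eq_one_iff.1 e))
      exact mem_normalizer_fintype fun y hy => heq.le ⟨y, hy, rfl⟩
    set V := normalizer ((S : Subgroup G) : Set G)
    have hfus := exists_control hG hCN hpG S
    haveI : Group.IsNilpotent V := nilp_of_le hNS h.1
    have hres := CfsgLib.Solv.inf_pResidual_eq_of_control S V le_normalizer (fun y hy g hgy => by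
      obtain ⟨v, hv, hve⟩ := hfus (zpowers y) (zpowers_le.2 hy) g trivial (by
        rw [cj, MonoidHom.map_zpowers, zpowers_le]; exact hgy)
      exact ⟨v, hv, hve y (mem_zpowers y)⟩)
    rw [pResidual_top hG.2.1 hG.2.2.1, inf_top_eq] at hres
    obtain ⟨r, hr, hre⟩ : x ∈ (Cfsg.pResidual p V).map V.subtype :=
      (hres ▸ hxS : x ∈ (S : Subgroup G) ⊓ _).2
    have hco := (CfsgLib.Solv.hnpc_mem_iff (CfsgLib.Solv.hnpc_of_isNilpotent (G := V) (p := p))).1 hr
    obtain ⟨k, hk⟩ := IsPGroup.iff_orderOf.1 S.isPGroup' ⟨x, hxS⟩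
    rw [Subgroup.orderOf_mk] at hk
    rw [← Subgroup.orderOf_coe, show (r : G) = x from hre, hk] at hco
    rcases Nat.eq_zero_or_pos k with h0 | h0
    · rw [h0, pow_zero, orderOf_eq_one_iff] at hk; exact hx1 hk
    · exact hp.not_dvd_one (hco ▸ Nat.dvd_gcd (dvd_pow_self p h0.ne') dvd_rfl)
  · rintro _ ⟨e, he, rfl⟩ he1
    rw [eq_bot_iff]
    intro x hx
    by_contra hx1
    have heH : (e : G) ∈ H := h.centralizer_le hG hCN hx.1 (fun k => hx1 (mem_bot.2 k))
      (mem_centralizer_singleton_iff.2 (mem_centralizer_singleton_iff.1 hx.2).symm)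
    exact he1 (congrArg Subtype.val (disjoint_def.1 hE₀.disjoint heH he))

include hG hCN in
theorem coatom_eq_normalizer {M : Subgroup G} (hM : IsCoatom M) :
    ∃ H : Subgroup G, MaxNilp H ∧ M = normalizer (H : Set G) ∧
      ∃ F : Subgroup M, F.Normal ∧ Group.IsNilpotent F ∧ F ≠ ⊥ ∧
        F.map M.subtype ≤ H ∧ ∃ E : Subgroup M, IsComplement' F E ∧ Group.IsNilpotent E := by
  haveI := hG.2.1
  haveI : Group.IsSolvable M := hG.2.2.2 M hM.1
  by_cases hnil : Group.IsNilpotent M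
  · exfalso
    have hMax : MaxNilp M := ⟨hnil, fun L hL hle => by
      rcases hle.lt_or_eq with hlt | heq
      · exfalso
        haveI := hL
        rw [hM.2 L hlt] at hL
        haveI := hL
        exact not_nilpotent hG (Group.nilpotent_of_mulEquiv topEquiv)
      · exact heq.symm⟩
    obtain ⟨E, ⟨-, hEN, hinf, -⟩, hE1, -⟩ := hMax.exists_compl hG hCN
    have hlt : M < normalizer (M : Set G) := lt_of_le_of_ne le_normalizer fun heq => hE1 (by
      rw [← hinf, inf_eq_right.2]; exact heq ▸ hEN)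
    exact normalizer_ne_top_of_simple (hMax.ne_bot hG) hM.1 (hM.2 _ hlt)
  have hCM := cn_subgroup hCN M
  set F := Cfsg.fittingSubgroup M with hF
  haveI : F.Normal := CfsgLib.Solv.fittingSubgroup_normal M
  have hFn : Group.IsNilpotent F := CfsgLib.Solv.fittingSubgroup_isNilpotent
  have hne : F ≠ ⊥ := by
    intro hb
    have hc := CfsgLib.Solv.centralizer_fittingSubgroup_le (G := M)
    rw [← hF, hb] at hc
    refine hnil ?_
    haveI : Subsingleton M := subsingleton_of_forall_eq 1 fun c =>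
      mem_bot.1 (hc (mem_centralizer_iff.2 fun m hm => by
        rw [SetLike.mem_coe, mem_bot] at hm; rw [hm, one_mul, mul_one]))
    infer_instance
  have hmain : (Nat.card F).Coprime F.index ∧ ∀ x ∈ F, x ≠ 1 → centralizer ({x} : Set M) ≤ F := by
    by_cases hpp : IsPrimePow (Nat.card F)
    · obtain ⟨r, k, hr, hk, hrk⟩ := hpp
      haveI := Fact.mk (Nat.prime_iff.2 hr)
      have hFr : IsPGroup r F := IsPGroup.of_card (n := k) hrk.symm
      by_cases hidx : r ∣ F.index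
      · exact absurd (three_step hCM hFr hne hidx) (not_three_step hG hCN M)
      · exact hall_of_sylow hCM hFr CfsgLib.Solv.centralizer_fittingSubgroup_le hidx
    · exact hall_of_not_isPrimePow hCM hpp hne
  obtain ⟨E, hE, -, -, hEn, -⟩ := frobenius_case hCM hnil hFn hne hmain.1 hmain.2
  haveI := hFn
  obtain ⟨H, hH, hFH⟩ := exists_maxNilp (L := F.map M.subtype)
    (Group.nilpotent_of_mulEquiv (F.equivMapOfInjective M.subtype M.subtype_injective))
  refine ⟨H, hH, ?_, F, inferInstance, hFn, hne, hFH, E, hE, hEn⟩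
  have hMN : M ≤ normalizer (H : Set G) := by
    intro m hm
    obtain ⟨x, hx, hx1⟩ := F.bot_or_exists_ne_one.resolve_left hne
    have hy := hFH (mem_map_of_mem M.subtype ((inferInstance : F.Normal).conj_mem x hx ⟨m, hm⟩))
    have heq : H.map (MulAut.conj m).toMonoidHom = H :=
      (hH.map m).eq_of_mem hG hCN hH (x := m * (x : G) * m⁻¹)
        ⟨x, hFH (mem_map_of_mem _ hx), rfl⟩ (by simpa using hy)
        (fun e => hx1 (Subtype.ext (conj_eq_one_iff.1 e)))
    exact mem_normalizer_fintype fun y hy => heq.le ⟨y, hy, rfl⟩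
  rcases hMN.lt_or_eq with hlt | heq
  · exact absurd (hM.2 _ hlt) (normalizer_ne_top_of_simple (hH.ne_bot hG) (hH.ne_top hG))
  · exact heq

include hG hCN in
theorem MaxNilp.isCoatom_normalizer {H : Subgroup G} (h : MaxNilp H) :
    IsCoatom (normalizer (H : Set G)) := by
  haveI := hG.2.1
  obtain hN | ⟨M, hM, hNM⟩ := IsCoatomic.eq_top_or_exists_le_coatom (normalizer (H : Set G))
  · exact absurd hN (normalizer_ne_top_of_simple (h.ne_bot hG) (h.ne_top hG))
  obtain ⟨H', hH', hMeq, F, hFN, hFn, hne, hFH, E', hE', hE'n⟩ := coatom_eq_normalizer hG hCN hM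
  suffices H = H' by rw [this, ← hMeq]; exact hM
  haveI := hFN
  -- the normalizer would be nilpotent
  by_contra hne'
  have hinf : ∀ n ∈ normalizer (H : Set G), (hn : n ∈ M) → (⟨n, hn⟩ : M) ∈ F → n = 1 := by
    intro n hnN hnM hnF
    obtain ⟨x, hxH, hx1⟩ := H.bot_or_exists_ne_one.resolve_left (h.ne_bot hG)
    by_contra hn1
    have hnH' : n ∈ H' := hFH (mem_map_of_mem M.subtype hnF)
    have hxM : x ∈ M := hNM (le_normalizer hxH)
    have hcH : n * x * n⁻¹ * x⁻¹ ∈ H := H.mul_mem ((mem_normalizer_iff.1 hnN x).1 hxH) (H.inv_mem hxH)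
    have hcF : (⟨n, hnM⟩ * ⟨x, hxM⟩ * ⟨n, hnM⟩⁻¹ * ⟨x, hxM⟩⁻¹ : M) ∈ F := by
      rw [show (⟨n, hnM⟩ * ⟨x, hxM⟩ * ⟨n, hnM⟩⁻¹ * ⟨x, hxM⟩⁻¹ : M) =
        ⟨n, hnM⟩ * (⟨x, hxM⟩ * ⟨n, hnM⟩⁻¹ * ⟨x, hxM⟩⁻¹) by group]
      exact F.mul_mem hnF ((inferInstance : F.Normal).conj_mem _ (F.inv_mem hnF) _)
    have hc1 : n * x * n⁻¹ * x⁻¹ = 1 := by
      by_contra hc
      exact hne' (h.eq_of_mem hG hCN hH' hcH (by simpa using hFH (mem_map_of_mem M.subtype hcF)) hc)
    rw [mul_inv_eq_one, mul_inv_eq_iff_eq_mul] at hc1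
    exact hne' (h.eq_of_mem hG hCN hH'
      (h.centralizer_le hG hCN hxH hx1 (mem_centralizer_singleton_iff.2 hc1)) hnH' hn1)
  obtain ⟨E, ⟨-, hEN, hEi, -⟩, hE1, -⟩ := h.exists_compl hG hCN
  haveI := hE'n
  haveI : Group.IsNilpotent (M ⧸ F) := Group.nilpotent_of_mulEquiv hE'.symm.QuotientMulEquiv.symm
  have hNnil : Group.IsNilpotent (normalizer (H : Set G)) := by
    refine Subgroup.isNilpotent_of_ker_le_center ((QuotientGroup.mk' F).comp (inclusion hNM)) ?_
    intro n hn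
    rw [MonoidHom.mem_ker, MonoidHom.comp_apply] at hn
    have := hinf n n.2 (hNM n.2) ((QuotientGroup.eq_one_iff _).1 hn)
    rw [show n = 1 from Subtype.ext this]
    exact one_mem _
  have := h.2 _ hNnil le_normalizer
  exact hE1 (by rw [← hEi, inf_eq_right.2]; exact this ▸ hEN)

include hCN in
theorem fittingHallOf_normalizer {H : Subgroup G} (h : MaxNilp H) :
    Cfsg.fittingHallOf (normalizer (H : Set G)) = H := by
  set N := normalizer (H : Set G)
  have hHN : H ≤ N := le_normalizer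
  haveI : (H.subgroupOf N).Normal := normal_in_normalizer
  haveI := h.1
  have hle : H.subgroupOf N ≤ Cfsg.fittingHall N := by
    refine le_fittingHall inferInstance (Group.nilpotent_of_mulEquiv (subgroupOfEquivOfLe hHN).symm) ?_
    rw [Nat.card_congr (subgroupOfEquivOfLe hHN).toEquiv]
    exact (hall hCN h.1 h.2).coprime_dvd_right (relIndex_dvd_index_of_le hHN)
  haveI := fittingHall_nilpotent N
  refine h.2 _ (Group.nilpotent_of_mulEquiv
    ((Cfsg.fittingHall N).equivMapOfInjective N.subtype N.subtype_injective)) ?_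
  have := map_mono (f := N.subtype) hle
  rwa [subgroupOf_map_subtype, inf_eq_left.2 hHN] at this

end Fixed

end CfsgLib.OddLocal.CN
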