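import Cfsg.Agent.OddLocal.GoodSub

/-!
A `p`-group of rank at least three, `p` odd, with a maximal elementary abelian subgroup of order
`p ^ 2`: the first two layers of the upper central series.
-/

set_option autoImplicit false
set_option linter.style.haveILetI false
set_option linter.unusedSectionVars false

open Cfsg CfsgLib.Solv
open scoped commutatorElement

namespace CfsgLib.OddLocal.Narrow

variable {R : Type*} [Group R] [Finite R] {p : ℕ} [hp : Fact p.Prime]

theorem data (hp2 : p ≠ 2) (hR : IsPGroup p R) (hr : ¬ PRankLE p 2 R) {E : Subgroup R}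
    (hE : IsElementaryAbelian p E) (hE2 : Nat.card E = p ^ 2)
    (hEmax : ∀ B : Subgroup R, IsElementaryAbelian p B → E ≤ B → B = E) :
    ∃ Z W : Subgroup R, (∀ x, x ∈ Z ↔ x ∈ Subgroup.center R ∧ x ^ p = 1) ∧
      (∀ x, x ∈ W ↔ x ∈ Subgroup.upperCentralSeries R 2 ∧ x ^ p = 1) ∧
      W.Characteristic ∧ Z ≤ E ∧ Nat.card Z = p ∧ IsElementaryAbelian p W ∧ Nat.card W = p ^ 2 ∧
      ¬ E ≤ Subgroup.centralizer (W : Set R) ∧ (Subgroup.centralizer (W : Set R)).index = p ∧
      ¬ PRankLE p 2 (Subgroup.centralizer (W : Set R)) := by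
  have hcom : ∀ {x : R}, x ∈ Subgroup.upperCentralSeries R 2 → ∀ r : R, ⁅x, r⁆ ∈ Subgroup.center R := by
    intro x hx r
    rw [← Subgroup.upperCentralSeries_one R, commutatorElement_def]
    exact (Subgroup.mem_upperCentralSeries_succ_iff.1 hx) r
  have hcc : ∀ {c : R}, c ∈ Subgroup.center R → ∀ y, Commute c y := fun {c} hc y =>
    (Subgroup.mem_center_iff.1 hc y).symm
  have hcpow : ∀ {x : R}, x ∈ Subgroup.upperCentralSeries R 2 → x ^ p = 1 →
      ∀ r : R, ⁅x, r⁆ ^ p = 1 := by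
    intro x hx hxp r
    rw [← pow_commutator_left (hcc (hcom hx r) x) p, hxp, commutatorElement_one_left]
  let Z : Subgroup R :=
    { carrier := {x | x ∈ Subgroup.center R ∧ x ^ p = 1}
      one_mem' := ⟨one_mem _, one_pow _⟩
      mul_mem' := by
        rintro x y ⟨hx, hx'⟩ ⟨hy, hy'⟩
        exact ⟨mul_mem hx hy, by rw [(hcc hx y).mul_pow, hx', hy', one_mul]⟩
      inv_mem' := by
        rintro x ⟨hx, hx'⟩
        exact ⟨inv_mem hx, by rw [inv_pow, hx', inv_one]⟩ }
  let W : Subgroup R :=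
    { carrier := {x | x ∈ Subgroup.upperCentralSeries R 2 ∧ x ^ p = 1}
      one_mem' := ⟨one_mem _, one_pow _⟩
      mul_mem' := by
        rintro x y ⟨hx, hx'⟩ ⟨hy, hy'⟩
        refine ⟨mul_mem hx hy, ?_⟩
        rw [mul_pow_prime hp2 (hcc (hcom hy x) x) (hcc (hcom hy x) y) (hcpow hy hy' x), hx', hy',
          one_mul]
      inv_mem' := by
        rintro x ⟨hx, hx'⟩
        exact ⟨inv_mem hx, by rw [inv_pow, hx', inv_one]⟩ }
  haveI hWc : W.Characteristic := Subgroup.characteristic_iff_le_comap.2 fun φ x hx =>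
    ⟨Subgroup.characteristic_iff_le_comap.1
      (inferInstance : (Subgroup.upperCentralSeries R 2).Characteristic) φ hx.1,
      show (φ x) ^ p = 1 by rw [← map_pow, hx.2, map_one]⟩
  have homega : ∀ x : R, x ^ p = 1 → (∀ e ∈ E, e * x = x * e) → x ∈ E := fun x hx hxE =>
    (hEmax _ (SCN3.mem_sup_elementary hE hx hxE) le_sup_left).le
      (Subgroup.mem_sup_right (Subgroup.mem_zpowers x))
  have hCE : PRankLE p 2 (Subgroup.centralizer (E : Set R)) := by
    intro C hC hCp
    rw [← Subgroup.card_map_of_injective (Subgroup.centralizer (E : Set R)).subtype_injective, ← hE2]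
    refine Subgroup.card_le_of_le ?_
    rintro _ ⟨c, hc, rfl⟩
    exact homega _ (congrArg Subtype.val (hCp c hc)) fun e he => Subgroup.mem_centralizer_iff.1 c.2 e he
  have hZE : Z ≤ E := fun z hz => homega z hz.2 fun e _ => (hcc hz.1 e).eq.symm
  have hlt2 : p < p ^ 2 := (pow_one p).symm.trans_lt (Nat.pow_lt_pow_right hp.out.one_lt one_lt_two)
  have hZne : Z ≠ E := by
    intro e
    refine hr fun C hC hCp => ?_
    rw [← hE2]
    refine Subgroup.card_le_of_le fun c hc => homega c (hCp c hc) fun x hx => ?_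
    exact (hcc ((show x ∈ Z from e ▸ hx).1) c).eq
  have hZcard : Nat.card Z = p := by
    haveI : Nontrivial R := by
      by_contra h
      rw [not_nontrivial_iff_subsingleton] at h
      have := Subgroup.card_eq_one.2 (Subsingleton.elim E ⊥)
      rw [hE2] at this
      exact absurd this (Nat.one_lt_pow two_ne_zero hp.out.one_lt).ne'
    haveI := hR.center_nontrivial
    obtain ⟨k, hk0, hk⟩ := (hR.to_subgroup (Subgroup.center R)).nontrivial_iff_card.1 ‹_›
    obtain ⟨z, hz⟩ := exists_prime_orderOf_dvd_card' p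
      (hk.symm ▸ dvd_pow_self p hk0.ne' : p ∣ Nat.card (Subgroup.center R))
    have hzZ : (z : R) ∈ Z :=
      ⟨z.2, by rw [← Subgroup.coe_pow, ← hz, pow_orderOf_eq_one]; rfl⟩
    obtain ⟨n, hn⟩ := IsPGroup.iff_card.1 (hR.to_subgroup Z)
    have hn2 : n < 2 := by
      by_contra h
      refine hZne (Subgroup.eq_of_le_of_card_ge hZE ?_)
      rw [hE2, hn]; exact Nat.pow_le_pow_right hp.out.pos (not_lt.1 h)
    have hn0 : n ≠ 0 := by
      intro h
      rw [h, pow_zero] at hn
      rw [Subgroup.card_eq_one.1 hn, Subgroup.mem_bot] at hzZ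
      rw [show z = 1 from Subtype.ext hzZ, orderOf_one] at hz
      exact hp.out.ne_one hz.symm
    rw [hn, show n = 1 by omega, pow_one]
  have hval : ∀ {w : R}, w ∈ W → ∀ r : R, ⁅w, r⁆ ∈ Z := fun {w} hw r =>
    ⟨hcom hw.1 r, hcpow hw.1 hw.2 r⟩
  -- `E` is not normal
  have hEn : ¬ E.Normal := by
    intro h
    haveI := h
    obtain ⟨A, hEA, -, hAc, -, hA3⟩ := SCN3.exists_scn3_ge hp2 hR hr E hE hE2
    exact hA3 (GoodSub.rank_le_of_le (fun a ha => Subgroup.mem_centralizer_iff.2 fun e he =>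
      congrArg (fun w : A => (w : R)) (hAc.is_comm.comm ⟨e, hEA he⟩ ⟨a, ha⟩)) hCE)
  have hnc : ¬ IsCyclic (⊤ : Subgroup R) := by
    intro h
    refine hr fun A _ hAp => ?_
    haveI : IsCyclic R := Subgroup.topEquiv.isCyclic.1 h
    exact (GoodSub.card_le_of_isCyclic hAp (Subgroup.isCyclic A)).trans (Nat.le_self_pow two_ne_zero p)
  obtain ⟨E₀, -, hE₀n, hE₀, hE₀2⟩ := exists_normal_rank_two_le hp2 hR ⊤ hnc
  haveI := hE₀n
  have hE₀W : E₀ ≤ W := by
    intro e he
    refine ⟨Subgroup.mem_upperCentralSeries_succ_iff.2 fun r => ?_, hE₀.2 e he⟩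
    rw [Subgroup.upperCentralSeries_one]
    exact commutator_mem_center_of_card_sq hR hE₀2 he r
  have hEnC : ¬ E ≤ Subgroup.centralizer (E₀ : Set R) := by
    intro h
    have hle : E₀ ≤ E := fun x hx => homega x (hE₀.2 x hx) fun e he =>
      (Subgroup.mem_centralizer_iff.1 (h he) x hx).symm
    exact hEn ((Subgroup.eq_of_le_of_card_ge hle (by rw [hE2, hE₀2])) ▸ hE₀n)
  obtain ⟨e, he, heC⟩ := SetLike.not_le_iff_exists.1 hEnC
  have heZ : e ∉ Z := fun h => heC (Subgroup.center_le_centralizer _ h.1)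
  have hgen : Z ⊔ Subgroup.zpowers e = E := by
    refine Subgroup.eq_of_le_of_card_ge (sup_le hZE (Subgroup.zpowers_le.2 he)) ?_
    obtain ⟨n, hn⟩ := IsPGroup.iff_card.1 (hR.to_subgroup (Z ⊔ Subgroup.zpowers e))
    rw [hn, hE2]
    refine Nat.pow_le_pow_right hp.out.pos ?_
    by_contra h
    refine heZ ((Subgroup.eq_of_le_of_card_ge (le_sup_left : Z ≤ Z ⊔ Subgroup.zpowers e) ?_).symm ▸
      Subgroup.mem_sup_right (Subgroup.mem_zpowers e))
    rw [hn, hZcard]
    exact (Nat.pow_le_pow_right hp.out.pos (show n ≤ 1 by omega)).trans_eq (pow_one p)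
  -- the commutator with `e`
  let φ : W →* R :=
    { toFun := fun w => ⁅e, (w : R)⁆
      map_one' := commutatorElement_one_right e
      map_mul' := fun a b => by
        show ⁅e, (a : R) * b⁆ = _
        have hb : ⁅e, (b : R)⁆ ∈ Subgroup.center R := by
          rw [← commutatorElement_inv]; exact inv_mem (hval b.2 e).1
        rw [show ⁅e, (a : R) * b⁆ = ⁅e, (a : R)⁆ * ((a : R) * ⁅e, (b : R)⁆ * (a : R)⁻¹) by
          simp [commutatorElement_def, mul_assoc], ← (hcc hb a).eq, mul_inv_cancel_right] }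
  have hker : φ.ker.map W.subtype ≤ Z := by
    rintro _ ⟨w, hw, rfl⟩
    have hwE : (w : R) ∈ E := by
      refine homega _ w.2.2 fun x hx => ?_
      rw [← hgen] at hx
      have hle : Z ⊔ Subgroup.zpowers e ≤ Subgroup.centralizer {(w : R)} := sup_le
        (fun z hz => Subgroup.mem_centralizer_singleton_iff.2 (hcc hz.1 w).eq)
        (Subgroup.zpowers_le.2 (Subgroup.mem_centralizer_singleton_iff.2
          (commutatorElement_eq_one_iff_mul_comm.1 hw)))
      exact Subgroup.mem_centralizer_singleton_iff.1 (hle hx)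
    by_contra hwZ
    refine hEn ⟨fun x hx r => ?_⟩
    have hxW : x ∈ W := by
      have hle : Z ⊔ Subgroup.zpowers (w : R) ≤ W := sup_le (fun z hz =>
        ⟨Subgroup.mem_upperCentralSeries_succ_iff.2 fun y => by
          rw [commutatorElement_eq_one_iff_mul_comm.2 (hcc hz.1 y).eq]; exact one_mem _, hz.2⟩)
        (Subgroup.zpowers_le.2 w.2)
      refine hle ?_
      have e1 : Z ⊔ Subgroup.zpowers (w : R) = E := by
        refine Subgroup.eq_of_le_of_card_ge (sup_le hZE (Subgroup.zpowers_le.2 hwE)) ?_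
        obtain ⟨n, hn⟩ := IsPGroup.iff_card.1 (hR.to_subgroup (Z ⊔ Subgroup.zpowers (w : R)))
        rw [hn, hE2]
        refine Nat.pow_le_pow_right hp.out.pos ?_
        by_contra h
        refine hwZ ((Subgroup.eq_of_le_of_card_ge
          (le_sup_left : Z ≤ Z ⊔ Subgroup.zpowers (w : R)) ?_).symm ▸
          Subgroup.mem_sup_right (Subgroup.mem_zpowers _))
        rw [hn, hZcard]
        exact (Nat.pow_le_pow_right hp.out.pos (show n ≤ 1 by omega)).trans_eq (pow_one p)
      exact e1.symm ▸ hx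
    have h1 : ⁅x, r⁆ ∈ E := hZE (hval hxW r)
    rw [show r * x * r⁻¹ = (⁅x, r⁆)⁻¹ * x by simp [commutatorElement_def, mul_assoc]]
    exact E.mul_mem (E.inv_mem h1) hx
  have hWcard : Nat.card W ≤ p ^ 2 := by
    rw [← φ.ker.index_mul_card, Subgroup.index_ker, pow_two]
    refine Nat.mul_le_mul ?_ ?_
    · rw [← hZcard]
      refine Subgroup.card_le_of_le ?_
      rintro _ ⟨w, rfl⟩
      show ⁅e, (w : R)⁆ ∈ Z
      rw [← commutatorElement_inv]; exact inv_mem (hval w.2 e)
    · rw [← hZcard, ← card_map_subtype W φ.ker]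
      exact Subgroup.card_le_of_le hker
  have hWE : E₀ = W := Subgroup.eq_of_le_of_card_ge hE₀W (hE₀2.symm ▸ hWcard)
  refine ⟨Z, W, fun x => Iff.rfl, fun x => Iff.rfl, hWc, hZE, hZcard, hWE ▸ hE₀, hWE ▸ hE₀2,
    hWE ▸ hEnC, ?_, ?_⟩
  · rw [← hWE]
    refine ((Nat.dvd_prime hp.out).1 (index_centralizer_normal_sq hR E₀ hE₀2)).resolve_left ?_
    exact fun h => hEnC ((Subgroup.index_eq_one.1 h).symm ▸ le_top)
  · rw [← hWE]
    obtain ⟨A, hEA, -, hAc, -, hA3⟩ := SCN3.exists_scn3_ge hp2 hR hr E₀ hE₀ hE₀2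
    exact fun h => hA3 (GoodSub.rank_le_of_le (fun a ha => Subgroup.mem_centralizer_iff.2 fun x hx =>
      congrArg (fun w : A => (w : R)) (hAc.is_comm.comm ⟨x, hEA hx⟩ ⟨a, ha⟩)) h)

end CfsgLib.OddLocal.Narrow
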