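import Cfsg.Agent.OddLocal.RankTwoGroup
import Cfsg.Agent.OddLocal.Narrow

/-!
Commutators of a solvable group of odd order act through `p`-elements on a `p`-group containing an
elementary abelian subgroup whose centraliser has rank at most two.
-/

set_option autoImplicit false
set_option linter.style.haveILetI false
set_option linter.unusedSectionVars false

open scoped commutatorElement

namespace CfsgLib.OddLocal.NarrowAct

variable {R : Type*} [Group R] [Finite R] {p : ℕ} [hp : Fact p.Prime]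
variable {A : Type*} [Group A] [Finite A]

/-- A derived element acts trivially on a characteristic section of prime order. -/
theorem section_fixed (hR : IsPGroup p R) (φ : A →* MulAut R) {L L' : Subgroup R} [L.Characteristic]
    [L'.Characteristic] (hle : L' ≤ L) (hne : L' ≠ L)
    (hcard : Nat.card L ≤ p * Nat.card L') {a : A}
    (ha : a ∈ commutator A ∨ (orderOf (φ a)).Coprime (p - 1)) :
    ∀ l ∈ L, l⁻¹ * φ a l ∈ L' := by
  obtain ⟨l0, hl0, hl0'⟩ : ∃ l0 ∈ L, l0 ∉ L' := by
    by_contra h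
    push Not at h
    exact hne (le_antisymm hle h)
  have hsup : L' ⊔ Subgroup.zpowers l0 = L := by
    have hle2 : L' ⊔ Subgroup.zpowers l0 ≤ L := sup_le hle ((Subgroup.zpowers_le).2 hl0)
    refine Subgroup.eq_of_le_of_card_ge hle2 (hcard.trans ?_)
    obtain ⟨i, hi⟩ := IsPGroup.iff_card.1 (hR.to_subgroup L')
    obtain ⟨j, hj⟩ := IsPGroup.iff_card.1 (hR.to_subgroup (L' ⊔ Subgroup.zpowers l0))
    have hij : i < j := by
      by_contra h
      have : L' = L' ⊔ Subgroup.zpowers l0 := Subgroup.eq_of_le_of_card_ge le_sup_left (by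
        rw [hi, hj]; exact Nat.pow_le_pow_right hp.out.pos (not_lt.1 h))
      exact hl0' (this ▸ Subgroup.mem_sup_right (Subgroup.mem_zpowers l0))
    rw [hi, hj, ← pow_succ']
    exact Nat.pow_le_pow_right hp.out.pos hij
  set π := QuotientGroup.mk' L' with hπ
  have hgen : ∀ l ∈ L, ∃ k : ℤ, π l = π l0 ^ k := by
    intro l hl
    have h1 : π l ∈ L.map π := Subgroup.mem_map_of_mem π hl
    rw [← hsup, Subgroup.map_sup, hπ, QuotientGroup.map_mk'_self, bot_sup_eq,
      MonoidHom.map_zpowers] at h1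
    obtain ⟨k, hk⟩ := Subgroup.mem_zpowers_iff.1 h1
    exact ⟨k, hk.symm⟩
  let q := (quot L').comp φ
  have hq : ∀ (b : A) (r : R), q b (π r) = π (φ b r) := fun b r => rfl
  have hstab : ∀ (b : A) (l : R), l ∈ L → φ b l ∈ L := fun b l hl =>
    CfsgLib.Solv.map_mem_of_characteristic (φ b) hl
  have hcommute : ∀ b c : A, ∀ l ∈ L, q b (q c (π l)) = q c (q b (π l)) := by
    intro b c l hl
    obtain ⟨i, hi⟩ := hgen _ (hstab b l0 hl0)
    obtain ⟨j, hj⟩ := hgen _ (hstab c l0 hl0)
    obtain ⟨k, hk⟩ := hgen l hl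
    rw [← hq] at hi hj
    rw [hk, map_zpow, hj, map_zpow, map_zpow, hi, map_zpow, map_zpow, hi, map_zpow, hj,
      ← zpow_mul, ← zpow_mul, ← zpow_mul, ← zpow_mul, mul_left_comm i j k]
  let K : Subgroup A :=
    { carrier := {b | ∀ l ∈ L, q b (π l) = π l}
      one_mem' := fun l _ => by simp
      mul_mem' := fun {b c} hb hc l hl => by
        rw [map_mul, MulAut.mul_apply, hc l hl, hb l hl]
      inv_mem' := fun {b} hb l hl => by
        rw [map_inv, MulAut.inv_def, MulEquiv.symm_apply_eq, hb l hl] }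
  have hK : commutator A ≤ K := by
    rw [commutator_eq_closure, Subgroup.closure_le]
    rintro _ ⟨b, c, rfl⟩ l hl
    have hl2 : φ (b⁻¹ * c⁻¹) l ∈ L := hstab _ l hl
    rw [commutatorElement_def, show b * c * b⁻¹ * c⁻¹ = b * c * (b⁻¹ * c⁻¹) by group, map_mul,
      MulAut.mul_apply, hq (b⁻¹ * c⁻¹) l, map_mul, MulAut.mul_apply, hcommute b c _ hl2,
      ← hq, ← MulAut.mul_apply, ← MulAut.mul_apply, ← map_mul, ← map_mul,
      show c * b * (b⁻¹ * c⁻¹) = 1 by group, map_one, MulAut.one_apply]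
  intro l hl
  rcases ha with ha | ha
  · exact QuotientGroup.eq.1 ((hK ha l hl).symm.trans (hq a l))
  obtain ⟨i, hi⟩ := hgen _ (hstab a l0 hl0)
  obtain ⟨k, hk⟩ := hgen l hl
  rw [← hq] at hi
  have hmap : L.map π = Subgroup.zpowers (π l0) := by
    rw [← hsup, Subgroup.map_sup, hπ, QuotientGroup.map_mk'_self, bot_sup_eq,
      MonoidHom.map_zpowers]
  have hord : orderOf (π l0) = p := by
    obtain ⟨e, he⟩ := (hR.to_quotient L').exists_orderOf_eq_pow (π l0)
    have h1 : orderOf (π l0) ≤ p := by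
      have h2 := Subgroup.relIndex_mul_relIndex ⊥ L' L bot_le hle
      rw [Subgroup.relIndex_bot_left, Subgroup.relIndex_bot_left] at h2
      have h3 : L'.relIndex L = orderOf (π l0) := by
        rw [← Nat.card_zpowers, ← hmap, ← Subgroup.relIndex_ker, hπ, QuotientGroup.ker_mk']
      rw [← h2, h3] at hcard
      exact Nat.le_of_mul_le_mul_left (by rwa [mul_comm p] at hcard) Nat.card_pos
    rw [he] at h1 ⊢
    have he0 : e ≠ 0 := fun h0 => hl0' ((QuotientGroup.eq_one_iff l0).1
      (orderOf_eq_one_iff.1 (show orderOf (π l0) = 1 by rw [he, h0, pow_zero])))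
    have he1 : e ≤ 1 := (Nat.pow_le_pow_iff_right hp.out.one_lt).1 (h1.trans (pow_one p).ge)
    rw [show e = 1 by omega, pow_one]
  have hiter : ∀ m : ℕ, q (a ^ m) (π l0) = π l0 ^ (i ^ m) := by
    intro m
    induction m with
    | zero => simp
    | succ m ih =>
      rw [pow_succ', map_mul, MulAut.mul_apply, ih, map_zpow, hi, ← zpow_mul, ← pow_succ']
  set m := orderOf (φ a) with hm
  have h1 := hiter m
  rw [show q (a ^ m) = 1 by
    show quot L' (φ (a ^ m)) = 1
    rw [map_pow, hm, pow_orderOf_eq_one, map_one], MulAut.one_apply] at h1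
  have h2 : ((i : ZMod p)) ^ m = 1 := by
    have h3 : π l0 ^ (1 : ℤ) = π l0 ^ (i ^ m) := by rw [zpow_one]; exact h1
    rw [zpow_eq_zpow_iff_modEq, hord] at h3
    have h4 := (ZMod.intCast_eq_intCast_iff 1 (i ^ m) p).2 h3
    push_cast at h4
    exact h4.symm
  have hi0 : (i : ZMod p) ≠ 0 := fun h => by
    rw [h, zero_pow (orderOf_pos _).ne'] at h2
    exact zero_ne_one h2
  have h5 : (i : ZMod p) = 1 := by
    have := pow_gcd_eq_one.2 ⟨h2, ZMod.pow_card_sub_one_eq_one hi0⟩
    rwa [show m.gcd (p - 1) = 1 from ha, pow_one] at this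
  have h6 : π l0 ^ i = π l0 := by
    refine (zpow_eq_zpow_iff_modEq.2 ?_).trans (zpow_one _)
    rw [hord]
    exact (ZMod.intCast_eq_intCast_iff i 1 p).1 (by rw [h5, Int.cast_one])
  refine QuotientGroup.eq.1 (Eq.trans ?_ (hq a l))
  rw [hk, map_zpow, hi, h6]
  exact hk

/-- Fixed points on a series with sections of order `p`. -/
theorem fixed_of_small (hR : IsPGroup p R) (φ : A →* MulAut R) {a : A}
    (ha : a ∈ commutator A ∨ (orderOf (φ a)).Coprime (p - 1))
    (hco : (orderOf (φ a)).Coprime p) (x : R) :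
    ∀ (n : ℕ) (L : Subgroup R) [L.Characteristic], Nat.card L ≤ n →
      (∀ y ∈ L, y * x = x * y → ∀ z ∈ L, z * x = x * z → ∃ k : ℤ, y = 1 ∨ z = y ^ k) →
      (∀ y ∈ L, y ^ p = 1) → ∀ y ∈ L, φ a y = y := by
  intro n
  induction n with
  | zero => intro L _ hn; exact absurd hn (not_le.2 Nat.card_pos)
  | succ n ih =>
    intro L _ hn hcyc hexp y hy
    by_cases hb : L = ⊥
    · rw [hb, Subgroup.mem_bot] at hy; rw [hy, map_one]
    haveI : L.Normal := inferInstance
    let L' : Subgroup R := ⁅L, (⊤ : Subgroup R)⁆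
    haveI : L'.Characteristic := Subgroup.commutator_characteristic L ⊤
    have hle : L' ≤ L := Subgroup.commutator_le_left L ⊤
    have hne : L' ≠ L := by
      intro e
      haveI := hR.isNilpotent
      obtain ⟨m, hm⟩ := Subgroup.nilpotent_iff_lowerCentralSeries.1 ‹Group.IsNilpotent R›
      have : ∀ i, L ≤ (⊤ : Subgroup R).lowerCentralSeries i := by
        intro i
        induction i with
        | zero => exact le_top
        | succ i ih2 => rw [← e]; exact Subgroup.commutator_mono ih2 le_rfl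
      exact hb (le_bot_iff.1 (hm ▸ this m))
    -- the elements of `L` fixed by `x`
    set C := L ⊓ Subgroup.centralizer ({x} : Set R) with hC
    have hCcard : Nat.card C ≤ p := by
      by_cases hCb : C = ⊥
      · rw [hCb, Subgroup.card_bot]; exact hp.out.one_le
      obtain ⟨c, hc, hc1⟩ := (Subgroup.bot_or_exists_ne_one C).resolve_left hCb
      have hle2 : C ≤ Subgroup.zpowers c := by
        intro z hz
        obtain ⟨k, h | h⟩ := hcyc c hc.1 (Subgroup.mem_centralizer_singleton_iff.1 hc.2)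
          z hz.1 (Subgroup.mem_centralizer_singleton_iff.1 hz.2)
        · exact absurd h hc1
        · exact Subgroup.mem_zpowers_iff.2 ⟨k, h.symm⟩
      refine (Subgroup.card_le_of_le hle2).trans ?_
      rw [Nat.card_zpowers]
      exact Nat.le_of_dvd hp.out.pos (orderOf_dvd_of_pow_eq_one (hexp c hc.1))
    have hmem : ∀ l : L, ⁅(l : R), x⁆ ∈ L' := fun l =>
      Subgroup.commutator_mem_commutator l.2 (Subgroup.mem_top x)
    let ψ : L → L' := fun l => ⟨⁅((l⁻¹ : L) : R), x⁆, hmem _⟩
    have hfib : ∀ l m : L, ψ l = ψ m → ((l * m⁻¹ : L) : R) ∈ C := by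
      intro l m h
      have h' := congrArg Subtype.val h
      refine ⟨(l * m⁻¹).2, Subgroup.mem_centralizer_singleton_iff.2 ?_⟩
      simp only [ψ, commutatorElement_def, Subgroup.coe_inv, inv_inv] at h'
      have h2 : (l : R)⁻¹ * x * l = (m : R)⁻¹ * x * m := mul_right_cancel h'
      push_cast
      symm
      calc x * ((l : R) * (m : R)⁻¹) = (l : R) * ((l : R)⁻¹ * x * l) * (m : R)⁻¹ := by group
        _ = (l : R) * ((m : R)⁻¹ * x * m) * (m : R)⁻¹ := by rw [h2]
        _ = (l : R) * (m : R)⁻¹ * x := by group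
    have hcard : Nat.card L ≤ p * Nat.card L' := by
      classical
      let f : L → C × L' := fun l =>
        (⟨_, hfib l (Function.invFun ψ (ψ l))
          (Function.invFun_eq ⟨l, rfl⟩).symm⟩, ψ l)
      have hf : Function.Injective f := by
        intro l m h
        have h2 : ψ l = ψ m := congrArg Prod.snd h
        have h1 := congrArg (fun z => ((Prod.fst z : C) : R)) h
        simp only [f, h2] at h1
        exact mul_right_cancel (Subtype.ext h1 : l * _ = m * _)
      calc Nat.card L ≤ Nat.card (C × L') := Nat.card_le_card_of_injective f hf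
        _ = Nat.card C * Nat.card L' := Nat.card_prod _ _
        _ ≤ p * Nat.card L' := Nat.mul_le_mul_right _ hCcard
    have hL'n : Nat.card L' ≤ n := by
      have h1 : Nat.card L' < Nat.card L := by
        by_contra h
        exact hne (Subgroup.eq_of_le_of_card_ge hle (not_lt.1 h))
      omega
    have hL'fix := ih L' hL'n (fun u hu hux z hz hzx => hcyc u (hle hu) hux z (hle hz) hzx)
      (fun u hu => hexp u (hle hu))
    have hz := section_fixed hR φ hle hne hcard ha y hy
    exact inv_mul_eq_one.1 (CfsgLib.Solv.eq_one_of_fixed_shift hR hco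
      (x := y) (z := y⁻¹ * φ a y) (by group) (hL'fix _ hz)) |>.symm

/-- A coprime automorphism, derived or of order prime to `p - 1`, fixes a narrow `p`-group of rank at
least three. -/
theorem eq_one_of_narrow (hp2 : p ≠ 2) (hR : IsPGroup p R) (hr : ¬ Cfsg.PRankLE p 2 R)
    {E : Subgroup R} (hE : Cfsg.IsElementaryAbelian p E)
    (hCE : Cfsg.PRankLE p 2 (Subgroup.centralizer (E : Set R)))
    (φ : A →* MulAut R) {a : A} (hco : (orderOf (φ a)).Coprime p)
    (ha : a ∈ commutator A ∨ (orderOf (φ a)).Coprime (p - 1)) : φ a = 1 := by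
  classical
  have hbound : ∀ B : Subgroup R, Cfsg.IsElementaryAbelian p B → E ≤ B → Nat.card B ≤ p ^ 2 := by
    intro B hB hEB
    have hBC : B ≤ Subgroup.centralizer (E : Set R) := fun b hb => Subgroup.mem_centralizer_iff.2
      fun e he => hB.1.is_comm.comm ⟨e, hEB he⟩ ⟨b, hb⟩ |> congrArg Subtype.val
    have hc : IsMulCommutative (B.subgroupOf (Subgroup.centralizer (E : Set R))) := ⟨⟨by
      rintro ⟨x, hx⟩ ⟨y, hy⟩
      exact Subtype.ext (Subtype.ext (congrArg (fun z : B => (z : R)) (hB.1.is_comm.comm ⟨_, hx⟩ ⟨_, hy⟩)))⟩⟩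
    have := hCE _ hc (fun x hx => Subtype.ext (by rw [Subgroup.coe_pow]; exact hB.2 _ hx))
    rwa [Nat.card_congr (Subgroup.subgroupOfEquivOfLe hBC).toEquiv] at this
  obtain ⟨E2, ⟨hE2e, hEE2⟩, hmax⟩ := Set.Finite.exists_maximal (s := {B : Subgroup R |
    Cfsg.IsElementaryAbelian p B ∧ E ≤ B}) (Set.toFinite _) ⟨E, hE, le_rfl⟩
  have hEmax : ∀ B : Subgroup R, Cfsg.IsElementaryAbelian p B → E2 ≤ B → B = E2 :=
    fun B hB h => le_antisymm (hmax ⟨hB, hEE2.trans h⟩ h) h
  have hcentral : ∀ z : R, z ∈ Subgroup.center R → z ^ p = 1 → z ∈ E2 := fun z hz hzp =>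
    (hEmax _ (SCN3.mem_sup_elementary hE2e hzp fun e _ =>
      Subgroup.mem_center_iff.1 hz e) le_sup_left).le
      (Subgroup.mem_sup_right (Subgroup.mem_zpowers z))
  have hE2card : Nat.card E2 = p ^ 2 := by
    obtain ⟨k, hk⟩ := IsPGroup.iff_card.1 (hR.to_subgroup E2)
    have hk2 : k ≤ 2 := (Nat.pow_le_pow_iff_right hp.out.one_lt).1 (hk ▸ hbound E2 hE2e hEE2)
    by_contra hne
    have hk1 : k ≤ 1 := by
      rcases Nat.lt_or_ge k 2 with h | h
      · omega
      · exact absurd (by rw [hk, show k = 2 by omega]) hne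
    haveI : Nontrivial R := by
      by_contra h
      rw [not_nontrivial_iff_subsingleton] at h
      exact hr fun C _ _ => by
        rw [Nat.card_eq_one_iff_unique.2 ⟨inferInstance, ⟨1⟩⟩]
        exact Nat.one_le_pow _ _ hp.out.pos
    haveI := hR.center_nontrivial
    obtain ⟨j, hj0, hj⟩ := (hR.to_subgroup (Subgroup.center R)).nontrivial_iff_card.1 ‹_›
    obtain ⟨z, hz⟩ := exists_prime_orderOf_dvd_card' p
      (hj.symm ▸ dvd_pow_self p hj0.ne' : p ∣ Nat.card (Subgroup.center R))
    have hzp : (z : R) ^ p = 1 := by rw [← Subgroup.coe_pow, ← hz, pow_orderOf_eq_one]; rfl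
    have hzE : Subgroup.zpowers (z : R) = E2 := by
      refine Subgroup.eq_of_le_of_card_ge ((Subgroup.zpowers_le).2 (hcentral z z.2 hzp)) ?_
      rw [hk, Nat.card_zpowers, Subgroup.orderOf_coe, hz]
      exact (Nat.pow_le_pow_right hp.out.pos hk1).trans (pow_one p).le
    have hEc : E ≤ Subgroup.center R := hEE2.trans (hzE ▸ (Subgroup.zpowers_le).2 z.2)
    refine hr fun C hC hCp => ?_
    have htop : Subgroup.centralizer (E : Set R) = ⊤ :=
      Subgroup.centralizer_eq_top_iff_subset.2 hEc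
    rw [htop] at hCE
    have hc : IsMulCommutative (C.subgroupOf (⊤ : Subgroup R)) := ⟨⟨by
      rintro ⟨x, hx⟩ ⟨y, hy⟩
      exact Subtype.ext (Subtype.ext (congrArg (fun z : C => (z : R)) (hC.is_comm.comm ⟨_, hx⟩ ⟨_, hy⟩)))⟩⟩
    have := hCE _ hc (fun x hx => Subtype.ext (by rw [Subgroup.coe_pow]; exact hCp _ hx))
    rwa [Nat.card_congr (Subgroup.subgroupOfEquivOfLe (le_top : C ≤ ⊤)).toEquiv] at this
  obtain ⟨Z, W, hZ, -, hWc, hZE, hZcard, -, -, hnotle, hidx, -⟩ :=
    Narrow.data hp2 hR hr hE2e hE2card hEmax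
  haveI := hWc
  set T := Subgroup.centralizer (W : Set R) with hT
  haveI : T.Characteristic := inferInstance
  obtain ⟨x, hxE, hxT⟩ := SetLike.not_le_iff_exists.1 hnotle
  have hxZ : x ∉ Z := fun h => hxT (Subgroup.center_le_centralizer _ ((hZ x).1 h).1)
  have hE2sup : Z ⊔ Subgroup.zpowers x = E2 := by
    refine Subgroup.eq_of_le_of_card_ge (sup_le hZE ((Subgroup.zpowers_le).2 hxE)) ?_
    obtain ⟨j, hj⟩ := IsPGroup.iff_card.1 (hR.to_subgroup (Z ⊔ Subgroup.zpowers x))
    rw [hE2card, hj]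
    refine Nat.pow_le_pow_right hp.out.pos ?_
    by_contra h
    refine hxZ ((Subgroup.eq_of_le_of_card_ge (le_sup_left : Z ≤ Z ⊔ Subgroup.zpowers x) ?_).symm ▸
      Subgroup.mem_sup_right (Subgroup.mem_zpowers x))
    rw [hZcard, hj]
    exact (Nat.pow_le_pow_right hp.out.pos (by omega : j ≤ 1)).trans (pow_one p).le
  have hfixZ : ∀ y ∈ T, y ^ p = 1 → y * x = x * y → y ∈ Z := by
    intro y hy hyp hyx
    have hle : E2 ≤ Subgroup.centralizer ({y} : Set R) := by
      rw [← hE2sup]
      refine sup_le (fun w hw => Subgroup.mem_centralizer_singleton_iff.2 ?_)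
        ((Subgroup.zpowers_le).2 (Subgroup.mem_centralizer_singleton_iff.2 hyx.symm))
      exact (Subgroup.mem_center_iff.1 ((hZ w).1 hw).1 y).symm
    have hyE : y ∈ E2 := (hEmax _ (SCN3.mem_sup_elementary hE2e hyp fun e he =>
      Subgroup.mem_centralizer_singleton_iff.1 (hle he)) le_sup_left).le
      (Subgroup.mem_sup_right (Subgroup.mem_zpowers y))
    by_contra hyZ
    have hZT : Z ≤ T := fun w hw => Subgroup.center_le_centralizer _ ((hZ w).1 hw).1
    have h1 : E2 ⊓ T = E2 := by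
      obtain ⟨j, hj⟩ := IsPGroup.iff_card.1 (hR.to_subgroup (E2 ⊓ T))
      refine Subgroup.eq_of_le_of_card_ge inf_le_left ?_
      rw [hE2card, hj]
      refine Nat.pow_le_pow_right hp.out.pos ?_
      by_contra h
      refine hyZ ((Subgroup.eq_of_le_of_card_ge (le_inf hZE hZT) ?_).symm ▸ ⟨hyE, hy⟩)
      rw [hZcard, hj]
      exact (Nat.pow_le_pow_right hp.out.pos (by omega : j ≤ 1)).trans (pow_one p).le
    exact hnotle (inf_eq_left.1 h1)
  -- a detecting subgroup of exponent `p` in `T`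
  obtain ⟨H, hHc, -, h2, h3⟩ := CfsgLib.Solv.exists_critical (p := p) (hR.to_subgroup T)
  haveI := hHc
  haveI : H.Normal := inferInstance
  have hcomm := @CfsgLib.Solv.commute_of_critical T _ H inferInstance h2
  let Q : Subgroup T :=
    { carrier := {u | u ∈ H ∧ u ^ p = 1}
      one_mem' := ⟨one_mem _, one_pow p⟩
      mul_mem' := fun {u v} hu hv => ⟨mul_mem hu.1 hv.1, by
        rw [CfsgLib.Solv.mul_pow_prime hp2 (hcomm hv.1 hu.1 hu.1) (hcomm hv.1 hu.1 hv.1)
          (by rw [← CfsgLib.Solv.pow_commutator_left (hcomm hv.1 hu.1 hv.1), hv.2,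
            commutatorElement_one_left]), hu.2, hv.2, one_mul]⟩
      inv_mem' := fun {u} hu => ⟨inv_mem hu.1, by rw [inv_pow, hu.2, inv_one]⟩ }
  let L : Subgroup R := Q.map T.subtype
  haveI : L.Characteristic := Subgroup.characteristic_iff_map_le.2 fun e => by
    rintro _ ⟨_, ⟨u, hu, rfl⟩, rfl⟩
    refine ⟨restr T e u, ⟨CfsgLib.Solv.map_mem_of_characteristic (restr T e) hu.1, ?_⟩, rfl⟩
    rw [← map_pow, hu.2, map_one]
  have hLfix : ∀ y ∈ L, φ a y = y := by
    refine fixed_of_small hR φ ha hco x (Nat.card L) L le_rfl ?_ ?_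
    · intro y hy hyx z hz hzx
      obtain ⟨u, hu, rfl⟩ := hy
      obtain ⟨v, hv, rfl⟩ := hz
      have hyZ := hfixZ _ u.2 (by rw [← Subgroup.coe_pow, hu.2, Subgroup.coe_one]) hyx
      have hzZ := hfixZ _ v.2 (by rw [← Subgroup.coe_pow, hv.2, Subgroup.coe_one]) hzx
      by_cases h1 : T.subtype u = 1
      · exact ⟨0, Or.inl h1⟩
      have hgen : Subgroup.zpowers (T.subtype u) = Z := by
        refine Subgroup.eq_of_le_of_card_ge ((Subgroup.zpowers_le).2 hyZ) ?_
        rw [hZcard, Nat.card_zpowers]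
        exact (orderOf_eq_prime (by rw [← map_pow, hu.2, map_one]) h1).ge
      obtain ⟨k, hk⟩ := Subgroup.mem_zpowers_iff.1 (hgen ▸ hzZ)
      exact ⟨k, Or.inr hk.symm⟩
    · rintro _ ⟨u, hu, rfl⟩
      rw [← map_pow, hu.2, map_one]
  have hcoT : (orderOf (restr T (φ a))).Coprime p := hco.coprime_dvd_left (orderOf_map_dvd _ _)
  have hTfix : restr T (φ a) = 1 := by
    refine CfsgLib.Solv.aut_eq_one_of_fix (hR.to_subgroup T) h3 hcoT (restr_eq_one.1 ?_)
    refine CfsgLib.Solv.aut_eq_one_of_fix_omega hp2 ((hR.to_subgroup T).to_subgroup H)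
      (hcoT.coprime_dvd_left (orderOf_map_dvd _ _)) fun u hu => ?_
    exact Subtype.ext (Subtype.ext
      (hLfix _ ⟨(u : T), ⟨u.2, by rw [← Subgroup.coe_pow, hu]; rfl⟩, rfl⟩))
  have hcard : Nat.card (⊤ : Subgroup R) ≤ p * Nat.card T := by
    rw [Subgroup.card_top, ← Subgroup.index_mul_card T, hidx]
  have hTne : T ≠ ⊤ := fun h => hxT (h ▸ Subgroup.mem_top x)
  ext y
  have hz := section_fixed hR φ le_top hTne hcard ha y (Subgroup.mem_top y)
  exact (inv_mul_eq_one.1 (CfsgLib.Solv.eq_one_of_fixed_shift hR hco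
    (x := y) (z := y⁻¹ * φ a y) (by group) (restr_eq_one.1 hTfix _ hz))).symm

/-- A derived element of order prime to `p` fixes a `p`-group containing an elementary abelian
subgroup whose centraliser has rank at most two. -/
theorem comm_coprime_eq_one (hp2 : p ≠ 2) (hR : IsPGroup p R) {E : Subgroup R}
    (hE : Cfsg.IsElementaryAbelian p E)
    (hCE : Cfsg.PRankLE p 2 (Subgroup.centralizer (E : Set R)))
    (hodd : Odd (Nat.card A)) (hsolv : Group.IsSolvable A) (φ : A →* MulAut R) {a : A}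
    (ha : a ∈ commutator A) (hco : (orderOf (φ a)).Coprime p) : φ a = 1 := by
  by_cases hr : Cfsg.PRankLE p 2 R
  · obtain ⟨n, hn⟩ := commutator_ppow hp2 hR hr hodd hsolv φ ha
    obtain ⟨m, hm⟩ := exists_pow_eq_self_of_coprime (hco.symm.pow_left n)
    rw [← hm, hn, one_pow]
  exact eq_one_of_narrow hp2 hR hr hE hCE φ hco (Or.inl ha)

end CfsgLib.OddLocal.NarrowAct
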