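import Mathlib.FieldTheory.Finite.GaloisField
import Mathlib.FieldTheory.Finite.Trace
import Mathlib.Algebra.Polynomial.SpecificDegree
import Mathlib.LinearAlgebra.Matrix.Charpoly.Minpoly
import Mathlib.RingTheory.AdjoinRoot
import Mathlib.NumberTheory.LegendreSymbol.AddCharacter
import Mathlib.Analysis.SpecialFunctions.Complex.CircleAddChar

set_option autoImplicit false

/-! Elements `a` with `a` and `2 - a` of norm one in an extension of prime degree of a prime field. -/

namespace CfsgLib.NormPairs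

open Polynomial

variable {p : ℕ} [Fact p.Prime] {q : ℕ}

theorem exists_geom_sum_eq (p q : ℕ) (hp : 1 ≤ p) :
    ∃ t, (∑ i ∈ Finset.range q, p ^ i) = q + t * (p - 1) := by
  induction q with
  | zero => exact ⟨0, by simp⟩
  | succ n ih =>
    obtain ⟨t, ht⟩ := ih
    refine ⟨t + ∑ i ∈ Finset.range n, p ^ i, ?_⟩
    have h := geom_sum_mul_add (p - 1) n
    rw [Nat.sub_add_cancel hp] at h
    rw [Finset.sum_range_succ, ← h, add_mul]
    omega

theorem coprime_sub_one (hA : Nat.Coprime ((p ^ q - 1) / (p - 1)) (p - 1)) : Nat.Coprime q (p - 1) := by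
  have hp := (Fact.out : p.Prime)
  obtain ⟨t, ht⟩ := exists_geom_sum_eq p q hp.one_le
  rw [← Nat.geomSum_eq hp.two_le, ht] at hA
  exact (Nat.coprime_add_mul_right_left q (p - 1) t).1 hA

/-- A norm one element of the prime field is one. -/
theorem eq_one_of_mem_base {K : Type*} [Field K] [Algebra (ZMod p) K]
    (hK : Module.finrank (ZMod p) K = q) (hq : q ≠ 0) (hA : Nat.Coprime ((p ^ q - 1) / (p - 1)) (p - 1))
    {c : ZMod p} (h : Algebra.norm (ZMod p) (algebraMap (ZMod p) K c) = 1) : c = 1 := by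
  rw [Algebra.norm_algebraMap, hK] at h
  have h0 : c ≠ 0 := by rintro rfl; rw [zero_pow hq] at h; exact zero_ne_one h
  have h1 : c ^ (p - 1) = 1 := ZMod.pow_card_sub_one_eq_one h0
  have := pow_gcd_eq_one.2 ⟨h, h1⟩
  rwa [show Nat.gcd q (p - 1) = 1 from coprime_sub_one hA, pow_one] at this

/-- The norm of a translate by the prime field is given by a monic polynomial of degree `q`. -/
theorem exists_poly {K : Type*} [Field K] [Finite K] [Algebra (ZMod p) K]
    (hK : Module.finrank (ZMod p) K = q) (u : K) :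
    ∃ G : K[X], G.Monic ∧ G.natDegree = q ∧ ∀ k : ZMod p,
      G.eval (algebraMap (ZMod p) K k) =
        algebraMap (ZMod p) K (Algebra.norm (ZMod p) (u + algebraMap (ZMod p) K k)) := by
  haveI : CharP K p := charP_of_injective_algebraMap (algebraMap (ZMod p) K).injective p
  refine ⟨∏ i ∈ Finset.range q, (X + C (u ^ p ^ i)), monic_prod_of_monic _ _ fun i _ => monic_X_add_C _,
    ?_, fun k => ?_⟩
  · rw [natDegree_prod_of_monic _ _ fun i _ => monic_X_add_C _,
      Finset.sum_congr rfl fun i _ => natDegree_X_add_C (u ^ p ^ i)]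
    simp
  · rw [eval_prod, FiniteField.algebraMap_norm_eq_pow_sum, hK, ← Finset.prod_pow_eq_pow_sum]
    refine Finset.prod_congr rfl fun i _ => ?_
    rw [Nat.card_zmod, add_pow_char_pow, eval_add, eval_X, eval_C, ← map_pow, ZMod.pow_card_pow, add_comm]

theorem le_of_symmetric {K : Type*} [Field K] [Finite K] [Algebra (ZMod p) K] (hp2 : p ≠ 2)
    (hK : Module.finrank (ZMod p) K = q) (hq : q ≠ 0) (hA : Nat.Coprime ((p ^ q - 1) / (p - 1)) (p - 1))
    (hinv : ∀ a : K, Algebra.norm (ZMod p) a = 1 → Algebra.norm (ZMod p) (2 - a) = 1 →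
      Algebra.norm (ZMod p) (2 - a⁻¹) = 1)
    {a : K} (ha : Algebra.norm (ZMod p) a = 1) (hb : Algebra.norm (ZMod p) (2 - a) = 1) (ha1 : a ≠ 1) :
    p ≤ q := by
  have hbase : ∀ c : ZMod p, a ≠ algebraMap (ZMod p) K c := by
    intro c hc
    apply ha1
    rw [hc] at ha
    rw [hc, eq_one_of_mem_base hK hq hA ha, map_one]
  have ha' : a - 1 ≠ 0 := sub_ne_zero.2 ha1
  set u := (a - 1)⁻¹ with hu
  have hne : ∀ k : ZMod p, u + algebraMap (ZMod p) K k ≠ 0 := by
    intro k hk
    refine hbase (1 + (-k)⁻¹) ?_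
    rw [map_add, map_one, map_inv₀, map_neg, ← eq_neg_of_add_eq_zero_left hk, hu, inv_inv]
    ring
  set v : ℕ → K := fun k => u + algebraMap (ZMod p) K (k : ZMod p) with hv
  have hvs : ∀ k, v (k + 1) = v k + 1 := fun k => by simp [hv, add_assoc]
  have hv0 : ∀ k, v k ≠ 0 := fun k => hne _
  have hstep : ∀ k : ℕ, Algebra.norm (ZMod p) (1 + (v k)⁻¹) = 1 ∧
      Algebra.norm (ZMod p) (2 - (1 + (v k)⁻¹)) = 1 := by
    intro k
    induction k with
    | zero =>
      have : (1 : K) + (v 0)⁻¹ = a := by simp [hv, hu]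
      rw [this]; exact ⟨ha, hb⟩
    | succ k ih =>
      have h1 : (v k : K) + 1 ≠ 0 := by rw [← hvs]; exact hv0 _
      have h0 := hv0 k
      have hre : (1 : K) + (v (k + 1))⁻¹ = 2 - (1 + (v k)⁻¹)⁻¹ := by
        have h2 : (1 : K) + (v k)⁻¹ = (v k + 1) / v k := by field_simp
        rw [hvs, h2, inv_div]
        field_simp
        ring
      have hn := hinv _ ih.1 ih.2
      refine ⟨by rw [hre]; exact hn, ?_⟩
      rw [hre, sub_sub_cancel, Algebra.norm_inv, ih.1, inv_one]
  have hconst : ∀ k : ℕ, Algebra.norm (ZMod p) (v k) = Algebra.norm (ZMod p) (v 0) := by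
    intro k
    induction k with
    | zero => rfl
    | succ k ih =>
      have h1 : (1 : K) + (v k)⁻¹ = v (k + 1) * (v k)⁻¹ := by
        rw [hvs, add_mul, mul_inv_cancel₀ (hv0 k), one_mul]
      have h2 := (hstep k).1
      rw [h1, map_mul, Algebra.norm_inv] at h2
      rw [← ih]
      exact inv_inv (Algebra.norm (ZMod p) (v k)) ▸ eq_inv_of_mul_eq_one_left h2
  obtain ⟨G, hGm, hGd, hG⟩ := exists_poly hK u
  set c := algebraMap (ZMod p) K (Algebra.norm (ZMod p) (v 0)) with hc
  by_contra hlt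
  have hdeg : (G - C c).natDegree = q := by rw [natDegree_sub_C, hGd]
  have hne0 : G - C c ≠ 0 := fun h => hq (by rw [← hdeg, h, natDegree_zero])
  classical
  have hle : (Finset.univ.image (algebraMap (ZMod p) K)).card ≤ (G - C c).natDegree := by
    refine card_le_degree_of_subset_roots fun x hx => ?_
    rw [Finset.mem_val, Finset.mem_image] at hx
    obtain ⟨k, -, rfl⟩ := hx
    rw [mem_roots hne0, IsRoot, eval_sub, eval_C, hG, sub_eq_zero, hc]
    congr 1
    have := hconst k.val
    simp only [hv, ZMod.natCast_zmod_val] at this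
    exact this
  rw [Finset.card_image_of_injective _ (algebraMap (ZMod p) K).injective, Finset.card_univ, ZMod.card,
    hdeg] at hle
  exact hlt hle

/-! ### Degree three -/

theorem exists_irreducible (hp2 : p ≠ 2) : ∃ b : ZMod p,
    Irreducible (X ^ 3 + C b * X ^ 2 + C (-3 - 2 * b) * X + C (-1) : (ZMod p)[X]) := by
  classical
  have h2 : (2 : ZMod p) ≠ 0 := by
    have : ((2 : ℕ) : ZMod p) ≠ 0 := fun h =>
      hp2 ((Nat.prime_dvd_prime_iff_eq Fact.out Nat.prime_two).1 ((CharP.cast_eq_zero_iff (ZMod p) p 2).1 h))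
    exact_mod_cast this
  set bad : Finset (ZMod p) := ((Finset.univ.erase 0).erase 2).image
    fun x => -(x ^ 3 - 3 * x - 1) / (x * (x - 2))
  obtain ⟨b, -, hb⟩ : ∃ b ∈ (Finset.univ : Finset (ZMod p)), b ∉ bad := by
    refine Finset.exists_of_ssubset ((Finset.ssubset_univ_iff).2 fun h => ?_) |>.imp fun _ h => h
    have hc : bad.card ≤ ((Finset.univ.erase (0 : ZMod p)).erase 2).card := Finset.card_image_le
    have h1 : ((Finset.univ.erase (0 : ZMod p)).erase 2).card < (Finset.univ : Finset (ZMod p)).card :=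
      (Finset.card_erase_le).trans_lt (Finset.card_erase_lt_of_mem (Finset.mem_univ _))
    rw [h] at hc
    omega
  refine ⟨b, irreducible_of_degree_le_three_of_not_isRoot ?_ fun x hx => ?_⟩
  · rw [show (X ^ 3 + C b * X ^ 2 + C (-3 - 2 * b) * X + C (-1) : (ZMod p)[X]).natDegree = 3 by compute_degree!]
    decide
  simp only [IsRoot, eval_add, eval_mul, eval_pow, eval_X, eval_C] at hx
  have hx0 : x ≠ 0 := by
    rintro rfl
    simp at hx
  have hx2 : x ≠ 2 := by
    rintro rfl
    exact one_ne_zero (α := ZMod p) (by linear_combination hx)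
  refine hb (Finset.mem_image.2 ⟨x, by simp [hx0, hx2], ?_⟩)
  rw [div_eq_iff (mul_ne_zero hx0 (sub_ne_zero.2 hx2))]
  linear_combination -hx

theorem exists_pair_three (hp2 : p ≠ 2) :
    ∃ a : GaloisField p 3, a ≠ 1 ∧ Algebra.norm (ZMod p) a = 1 ∧ Algebra.norm (ZMod p) (2 - a) = 1 := by
  obtain ⟨b, hirr⟩ := exists_irreducible (p := p) hp2
  set f := (X ^ 3 + C b * X ^ 2 + C (-3 - 2 * b) * X + C (-1) : (ZMod p)[X]) with hf
  haveI := Fact.mk hirr
  have hdeg : f.natDegree = 3 := by rw [hf]; compute_degree!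
  have hm : f.Monic := by rw [hf]; monicity!
  set pb := AdjoinRoot.powerBasis hm.ne_zero with hpb
  haveI : Module.Finite (ZMod p) (AdjoinRoot f) := pb.finite
  haveI : Finite (AdjoinRoot f) := Module.finite_of_finite (ZMod p)
  have hcard : Nat.card (AdjoinRoot f) = p ^ 3 := by
    rw [Module.natCard_eq_pow_finrank (K := ZMod p), Nat.card_zmod, pb.finrank,
      AdjoinRoot.powerBasis_dim, hdeg]
  let e := GaloisField.algEquivGaloisField p 3 hcard
  have hgen : pb.gen = AdjoinRoot.root f := AdjoinRoot.powerBasis_gen hm.ne_zero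
  have hmin : minpoly (ZMod p) pb.gen = f := AdjoinRoot.minpoly_powerBasis_gen_of_monic hm
  have key : ∀ t : ZMod p, Algebra.norm (ZMod p) (algebraMap (ZMod p) (AdjoinRoot f) t - pb.gen) = f.eval t := by
    intro t
    have h := Matrix.eval_charpoly (Algebra.leftMulMatrix pb.basis pb.gen) t
    rw [charpoly_leftMulMatrix, hmin] at h
    rw [Algebra.norm_eq_matrix_det pb.basis, map_sub, AlgHom.commutes, h]
    congr 1
  refine ⟨e (AdjoinRoot.root f), fun h1 => ?_, ?_, ?_⟩
  · rw [← map_one e, e.injective.eq_iff] at h1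
    have h2 : aeval (AdjoinRoot.root f) f = 0 := AdjoinRoot.eval₂_root f
    rw [h1, ← map_one (algebraMap (ZMod p) (AdjoinRoot f)), aeval_algebraMap_apply_eq_algebraMap_eval] at h2
    exact hirr.not_isRoot_of_natDegree_ne_one (by rw [hdeg]; decide)
      ((map_eq_zero_iff _ (algebraMap (ZMod p) (AdjoinRoot f)).injective).1 h2)
  · rw [Algebra.norm_eq_of_algEquiv, ← hgen]
    have h3 := key 0
    rw [map_zero, zero_sub] at h3
    have hneg : Algebra.norm (ZMod p) (-1 : AdjoinRoot f) = -1 := by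
      rw [show (-1 : AdjoinRoot f) = algebraMap (ZMod p) (AdjoinRoot f) (-1) by simp, Algebra.norm_algebraMap,
        pb.finrank, hpb, AdjoinRoot.powerBasis_dim, hdeg]
      exact Odd.neg_one_pow (by decide)
    rw [show -pb.gen = -1 * pb.gen by ring, map_mul, hneg] at h3
    have h4 : f.eval 0 = -1 := by simp [hf]
    rw [h4, neg_one_mul, neg_inj] at h3
    exact h3
  · rw [show (2 : GaloisField p 3) = e 2 from (map_ofNat e 2).symm, ← map_sub, Algebra.norm_eq_of_algEquiv,
      ← hgen, show (2 : AdjoinRoot f) = algebraMap (ZMod p) (AdjoinRoot f) 2 from (map_ofNat _ 2).symm, key]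
    simp only [hf, eval_add, eval_mul, eval_pow, eval_X, eval_C]
    ring

/-! ### Degree at least five -/

theorem exists_pair_large {K : Type*} [Field K] [Finite K] [Algebra (ZMod p) K]
    (hp2 : p ≠ 2) (hK : Module.finrank (ZMod p) K = q) (hq : 5 ≤ q) :
    ∃ a : K, a ≠ 1 ∧ Algebra.norm (ZMod p) a = 1 ∧ Algebra.norm (ZMod p) (2 - a) = 1 := by
  classical
  have hp := (Fact.out : p.Prime)
  haveI := Fintype.ofFinite K
  set P := Fintype.card K with hP
  have hPq : P = p ^ q := by
    rw [hP, Fintype.card_eq_nat_card, Module.natCard_eq_pow_finrank (K := ZMod p), Nat.card_zmod, hK]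
  set U : Finset K := Finset.univ.filter fun x => Algebra.norm (ZMod p) x = 1 with hU
  set E : Finset K := Finset.univ.filter fun a => Algebra.norm (ZMod p) a = 1 ∧
    Algebra.norm (ZMod p) (2 - a) = 1 with hE
  suffices 2 ≤ E.card by
    obtain ⟨a, b, ha, hb, hab⟩ := Finset.one_lt_card_iff.1 this
    rw [hE, Finset.mem_filter] at ha hb
    rcases eq_or_ne a 1 with rfl | h
    · exact ⟨b, hab.symm, hb.2⟩
    · exact ⟨a, h, ha.2⟩
  -- the order of the norm one group
  have hUcard : U.card * (p - 1) = P - 1 := by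
    let φ := Units.map (Algebra.norm (ZMod p) (S := K))
    have h1 := Subgroup.card_mul_index φ.ker
    rw [Subgroup.index_ker, MonoidHom.range_eq_top.2 (FiniteField.unitsMap_norm_surjective (ZMod p) K),
      Subgroup.card_top, Nat.card_units, Nat.card_units, Nat.card_zmod, Nat.card_eq_fintype_card (α := K), ← hP] at h1
    rw [← h1]
    congr 1
    rw [← Fintype.card_coe, Fintype.card_eq_nat_card]
    refine Nat.card_congr ⟨fun x => ⟨Units.mk0 x.1 ?_, ?_⟩, fun y => ⟨(y.1 : K), ?_⟩, fun x => rfl,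
      fun y => Subtype.ext (Units.ext rfl)⟩
    · intro h0
      have := (Finset.mem_filter.1 x.2).2
      rw [h0, Algebra.norm_zero] at this
      exact zero_ne_one this
    · rw [MonoidHom.mem_ker]; exact Units.ext (Finset.mem_filter.1 x.2).2
    · exact Finset.mem_filter.2 ⟨Finset.mem_univ _, congrArg Units.val (MonoidHom.mem_ker.1 y.2)⟩
  -- an additive character
  let ψ : AddChar K ℂ := (ZMod.stdAddChar (N := p)).compAddMonoidHom (Algebra.trace (ZMod p) K).toAddMonoidHom
  have hψ : ψ.IsPrimitive := by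
    refine AddChar.IsPrimitive.of_ne_one (AddChar.ne_one_iff.2 ?_)
    obtain ⟨x, hx⟩ := Algebra.trace_surjective (ZMod p) K 1
    refine ⟨x, fun h => ?_⟩
    change ZMod.stdAddChar (N := p) (Algebra.trace (ZMod p) K x) = 1 at h
    rw [hx, ← AddChar.map_zero_eq_one (ZMod.stdAddChar (N := p)), ZMod.injective_stdAddChar.eq_iff] at h
    exact one_ne_zero h
  set S : K → ℂ := fun c => ∑ u ∈ U, ψ (c * u) with hS
  have hconj : ∀ x, starRingEnd ℂ (ψ x) = ψ (-x) := fun x => by
    rw [AddChar.map_neg_eq_inv, ← RCLike.inv_eq_conj (ψ.norm_apply x)]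
  -- Parseval
  have hpars : ∑ c, ‖S c‖ ^ 2 = (P : ℝ) * U.card := by
    have h : (∑ c, S c * starRingEnd ℂ (S c)) = ((P : ℂ) * U.card) := by
      simp only [hS, map_sum, hconj, Finset.sum_mul, Finset.mul_sum, ← AddChar.map_add_eq_mul]
      rw [Finset.sum_comm, Finset.sum_congr rfl fun u _ => Finset.sum_comm]
      have h1 : ∀ u v : K, ∑ c, ψ (c * u + -(c * v)) = if u - v = 0 then (P : ℂ) else 0 := fun u v => by
        simp_rw [← sub_eq_add_neg, ← mul_sub, AddChar.sum_mulShift _ hψ]
        split_ifs <;> simp [hP]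
      simp only [h1, sub_eq_zero, Finset.sum_ite_eq', Finset.sum_ite_eq, Finset.sum_ite_mem,
        Finset.inter_self, Finset.sum_const, nsmul_eq_mul]
      simp [mul_comm]
    simp only [RCLike.mul_conj] at h
    apply Complex.ofReal_injective
    push_cast
    exact h
  have hinvar : ∀ c, ∀ w ∈ U, S (c * w) = S c := by
    intro c w hw
    have hw1 := (Finset.mem_filter.1 hw).2
    have hw0 : w ≠ 0 := fun h0 => by rw [h0, Algebra.norm_zero] at hw1; exact zero_ne_one hw1
    refine Finset.sum_nbij' (fun u => w * u) (fun u => w⁻¹ * u) ?_ ?_ ?_ ?_ ?_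
    · intro u hu
      exact Finset.mem_filter.2 ⟨Finset.mem_univ _, by rw [map_mul, hw1, one_mul, (Finset.mem_filter.1 hu).2]⟩
    · intro u hu
      exact Finset.mem_filter.2 ⟨Finset.mem_univ _, by
        rw [map_mul, Algebra.norm_inv, hw1, inv_one, one_mul, (Finset.mem_filter.1 hu).2]⟩
    · intro u _; simp [hw0]
    · intro u _; simp [hw0]
    · intro u _; rw [mul_assoc]
  have hUpos : 0 < U.card := by
    rcases Nat.eq_zero_or_pos U.card with h | h
    · rw [h, Nat.zero_mul] at hUcard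
      have : 2 ≤ p ^ q := hp.two_le.trans (Nat.le_self_pow (by omega) p)
      omega
    · exact h
  have hbound : ∀ d : K, d ≠ 0 → ‖S d‖ ≤ Real.sqrt P := by
    intro d hd
    refine Real.le_sqrt_of_sq_le (le_of_mul_le_mul_left ?_ (Nat.cast_pos.2 hUpos : (0 : ℝ) < U.card))
    calc (U.card : ℝ) * ‖S d‖ ^ 2 = ∑ w ∈ U, ‖S (d * w)‖ ^ 2 := by
          rw [Finset.sum_congr rfl fun w hw => by rw [hinvar d w hw], Finset.sum_const, nsmul_eq_mul]
      _ = ∑ c ∈ U.image (d * ·), ‖S c‖ ^ 2 :=
          (Finset.sum_image (f := fun c => ‖S c‖ ^ 2) fun x _ y _ h => mul_left_cancel₀ hd h).symm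
      _ ≤ ∑ c, ‖S c‖ ^ 2 := Finset.sum_le_univ_sum_of_nonneg fun c => sq_nonneg _
      _ = _ := by rw [hpars]; ring
  -- counting
  have hcount : ∑ c, S c * S c * ψ (-(c * 2)) = (P : ℂ) * E.card := by
    simp only [hS, Finset.sum_mul, Finset.mul_sum, ← AddChar.map_add_eq_mul]
    rw [Finset.sum_comm, Finset.sum_congr rfl fun u _ => Finset.sum_comm]
    have h1 : ∀ u v : K, ∑ c, ψ (c * u + c * v + -(c * 2)) = if u + v - 2 = 0 then (P : ℂ) else 0 := fun u v => by
      simp_rw [← sub_eq_add_neg, ← mul_add, ← mul_sub, AddChar.sum_mulShift _ hψ]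
      split_ifs <;> simp [hP]
    simp only [h1]
    have h2 : ∀ v, ∑ u ∈ U, (if u + v - 2 = 0 then (P : ℂ) else 0) = if 2 - v ∈ U then (P : ℂ) else 0 := by
      intro v
      rw [← Finset.sum_ite_eq' U (2 - v) fun _ => (P : ℂ)]
      refine Finset.sum_congr rfl fun u _ => if_congr ?_ rfl rfl
      rw [sub_eq_zero, eq_sub_iff_add_eq]
    simp only [h2]
    rw [Finset.sum_ite, Finset.sum_const, Finset.sum_const_zero, add_zero, nsmul_eq_mul, mul_comm]
    have hfe : (U.filter fun u => 2 - u ∈ U) = E := by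
      ext x
      simp [hE, hU]
    rw [hfe]
  set R : ℂ := ∑ c ∈ (Finset.univ : Finset K).erase 0, S c * S c * ψ (-(c * 2)) with hR
  have hsplit : (U.card : ℂ) * U.card + R = P * E.card := by
    rw [← hcount, hR, ← Finset.add_sum_erase _ _ (Finset.mem_univ (0 : K))]
    simp [hS]
  have h2K : (2 : K) ≠ 0 := by
    haveI : CharP K p := charP_of_injective_algebraMap (algebraMap (ZMod p) K).injective p
    intro h
    have h' : ((2 : ℕ) : K) = 0 := by exact_mod_cast h
    exact hp2 ((Nat.prime_dvd_prime_iff_eq hp Nat.prime_two).1 ((CharP.cast_eq_zero_iff K p 2).1 h'))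
  have hRavg : (U.card : ℂ) * R = ∑ c ∈ (Finset.univ : Finset K).erase 0, S c * S c * S (-(c * 2)) := by
    have h1 : ∀ w ∈ U, R = ∑ c ∈ (Finset.univ : Finset K).erase 0, S c * S c * ψ (-(c * 2) * w) := by
      intro w hw
      have hw0 : w ≠ 0 := fun h0 => by
        have h := (Finset.mem_filter.1 hw).2
        rw [h0, Algebra.norm_zero] at h; exact zero_ne_one h
      refine (Finset.sum_nbij' (fun c => c * w) (fun c => c * w⁻¹) ?_ ?_ ?_ ?_ ?_).symm
      · intro c hc
        exact Finset.mem_erase.2 ⟨mul_ne_zero (Finset.mem_erase.1 hc).1 hw0, Finset.mem_univ _⟩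
      · intro c hc
        exact Finset.mem_erase.2 ⟨mul_ne_zero (Finset.mem_erase.1 hc).1 (inv_ne_zero hw0), Finset.mem_univ _⟩
      · intro c _; simp [hw0]
      · intro c _; simp [hw0]
      · intro c _
        rw [hinvar c w hw]
        congr 2
        ring
    calc (U.card : ℂ) * R = ∑ w ∈ U, R := by rw [Finset.sum_const, nsmul_eq_mul]
      _ = ∑ w ∈ U, ∑ c ∈ (Finset.univ : Finset K).erase 0, S c * S c * ψ (-(c * 2) * w) :=
          Finset.sum_congr rfl h1
      _ = _ := by rw [Finset.sum_comm]; simp only [hS, Finset.mul_sum]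
  have hRn : ‖R‖ ≤ (P : ℝ) * Real.sqrt P := by
    refine le_of_mul_le_mul_left ?_ (Nat.cast_pos.2 hUpos : (0 : ℝ) < U.card)
    calc (U.card : ℝ) * ‖R‖ = ‖(U.card : ℂ) * R‖ := by rw [norm_mul, Complex.norm_natCast]
      _ ≤ ∑ c ∈ (Finset.univ : Finset K).erase 0, ‖S c * S c * S (-(c * 2))‖ := hRavg ▸ norm_sum_le _ _
      _ ≤ ∑ c ∈ (Finset.univ : Finset K).erase 0, ‖S c‖ ^ 2 * Real.sqrt P := by
          refine Finset.sum_le_sum fun c hc => ?_
          rw [norm_mul, norm_mul, ← sq]
          exact mul_le_mul_of_nonneg_left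
            (hbound _ (neg_ne_zero.2 (mul_ne_zero (Finset.mem_erase.1 hc).1 h2K))) (sq_nonneg _)
      _ ≤ ∑ c, ‖S c‖ ^ 2 * Real.sqrt P :=
          Finset.sum_le_univ_sum_of_nonneg fun c => mul_nonneg (sq_nonneg _) (Real.sqrt_nonneg _)
      _ = _ := by rw [← Finset.sum_mul, hpars]; ring
  by_contra hlt
  have hE1 : (E.card : ℝ) ≤ 1 := by exact_mod_cast (Nat.lt_succ_iff.1 (not_le.1 hlt))
  have hnorm : (U.card : ℝ) * U.card ≤ P + P * Real.sqrt P := by
    have h : (U.card : ℂ) * U.card = P * E.card - R := by rw [← hsplit]; ring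
    have h' := congrArg (‖·‖) h
    simp only [norm_mul, Complex.norm_natCast] at h'
    rw [h']
    refine (norm_sub_le _ _).trans (add_le_add ?_ hRn)
    rw [norm_mul, Complex.norm_natCast, Complex.norm_natCast]
    exact mul_le_of_le_one_right (Nat.cast_nonneg _) hE1
  -- the numerical contradiction
  have h3 : 3 ≤ p := by have := hp.two_le; omega
  have hUlow : P ≤ U.card * p := by
    obtain ⟨r, hr⟩ : ∃ r, p = r + 1 := ⟨p - 1, by omega⟩
    rw [hr] at hUcard ⊢
    simp only [Nat.add_sub_cancel] at hUcard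
    rw [Nat.mul_add, hUcard, Nat.mul_one]
    omega
  set s := Real.sqrt P with hs
  have hs2 : s * s = P := Real.mul_self_sqrt (Nat.cast_nonneg _)
  have hP5 : (p : ℝ) ^ 5 ≤ P := by
    rw [hPq]; push_cast
    exact pow_le_pow_right₀ (by exact_mod_cast hp.one_le) hq
  have hp3 : (3 : ℝ) ≤ p := by exact_mod_cast h3
  have hlow : (P : ℝ) ≤ U.card * p := by exact_mod_cast hUlow
  have hPpos : (0 : ℝ) < P := lt_of_lt_of_le (by positivity) hP5
  have hs0 : 0 ≤ s := Real.sqrt_nonneg _
  have key : (P : ℝ) * P ≤ (P + P * s) * (p * p) := by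
    calc (P : ℝ) * P ≤ (U.card * p) * (U.card * p) := mul_le_mul hlow hlow hPpos.le (by positivity)
      _ = (U.card * U.card) * (p * p) := by ring
      _ ≤ _ := mul_le_mul_of_nonneg_right hnorm (by positivity)
  have key2 : s * s ≤ (1 + s) * (p * p) := by
    rw [hs2]
    exact le_of_mul_le_mul_left (by linarith [key]) hPpos
  have hp2' : (p : ℝ) * p * (3 / 2) ≤ s := by
    nlinarith [hP5, hs2, hs0, hp3, pow_nonneg (Nat.cast_nonneg p : (0:ℝ) ≤ p) 4, mul_nonneg (Nat.cast_nonneg p : (0:ℝ) ≤ p) (Nat.cast_nonneg p : (0:ℝ) ≤ p)]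
  have hpp : (9 : ℝ) ≤ p * p := by nlinarith
  have hs13 : (13 : ℝ) ≤ s := by linarith
  nlinarith [key2, mul_le_mul_of_nonneg_right hp2' hs0, mul_le_mul_of_nonneg_left hs13 (le_trans (by norm_num) hpp : (0 : ℝ) ≤ p * p)]

end CfsgLib.NormPairs
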