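import Cfsg.Agent.OddLocal.UniqueSCN
import Cfsg.Agent.S1450

/-!
Bender–Glauberman, Section 10: the Hall subgroups `M_α` and `M_σ` of a maximal subgroup.
-/

set_option autoImplicit false
set_option linter.style.haveILetI false
set_option linter.unusedSectionVars false

open Cfsg CfsgLib.Solv
open scoped commutatorElement

namespace CfsgLib.OddLocal.Sigma

open Uniq

variable {G : Type*} [Group G] [Finite G]

/-- A Sylow subgroup of `M` as a subgroup of `G`. -/
abbrev top {p : ℕ} {M : Subgroup G} (P : Sylow p M) : Subgroup G := (P : Subgroup M).map M.subtype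

theorem le_of_piNat_of_index {X : Type*} [Group X] [Finite X] {π : Set ℕ} {N D : Subgroup X}
    [D.Normal] (hN : PiNat π (Nat.card N))
    (hD : ∀ q : ℕ, q.Prime → q ∈ π → ¬ q ∣ D.index) : N ≤ D := fun x hx => by
  refine (QuotientGroup.eq_one_iff x).1 (orderOf_eq_one_iff.1 ?_)
  refine Nat.eq_one_of_dvd_coprimes (Nat.coprime_of_dvd fun q hq h1 h2 => hD q hq (hN q hq h1) h2) ?_ ?_
  · exact (orderOf_map_dvd (QuotientGroup.mk' D) x).trans
      (Subgroup.orderOf_mk (H := N) x hx ▸ orderOf_dvd_natCard _)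
  · rw [Subgroup.index_eq_card]; exact orderOf_dvd_natCard _

/-- A Sylow subgroup of `M` containing its normaliser is a Sylow subgroup of `G`. -/
theorem sylow_of_normalizer_le {p : ℕ} [Fact p.Prime] {M : Subgroup G} (P : Sylow p M)
    (hN : Subgroup.normalizer (top P : Set G) ≤ M) : ∃ Q : Sylow p G, (Q : Subgroup G) = top P := by
  refine exists_sylow_eq_of_normalizer (P.isPGroup'.map _) fun R hR hSR hRN => ?_
  have hRM : R ≤ M := hRN.trans hN
  have h2 := P.3 (hR.comap_of_injective M.subtype M.subtype_injective)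
    (Subgroup.map_le_iff_le_comap.1 hSR)
  rw [← Subgroup.map_subgroupOf_eq_of_le hRM]
  exact congrArg (Subgroup.map M.subtype) h2

theorem rank_top {p k : ℕ} [Fact p.Prime] {M : Subgroup G} (P : Sylow p M)
    (h : PRankLE p k (top P)) : PRankLE p k M :=
  rank_of_sylow P (FitUniq.rank_of_map h)

/-- For `p ∈ σ(M)` every Sylow `p`-subgroup of `M` has its normaliser in `M`. -/
theorem normalizer_le {M : Subgroup G} {p : ℕ} [Fact p.Prime] (hp : p ∈ sigma M) (P : Sylow p M) :
    Subgroup.normalizer (top P : Set G) ≤ M := by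
  obtain ⟨-, -, P₀, h₀⟩ := hp
  obtain ⟨m, hm⟩ := MulAction.exists_smul_eq M P₀ P
  have e : top P = (top P₀).map (MulAut.conj (m : G)).toMonoidHom := by
    rw [top, ← hm, Sylow.coe_subgroup_smul, conj_smul_eq_map, Subgroup.map_map, top, Subgroup.map_map]
    rfl
  rw [e, ← Trans.map_conj_normalizer]
  rintro _ ⟨x, hx, rfl⟩
  exact mul_mem (mul_mem m.2 (h₀ hx)) (inv_mem m.2)

theorem piNat_alphaCore (M : Subgroup G) : PiNat (alpha M) (Nat.card (piCore (alpha M) M)) :=
  piNat_card_piCore _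

variable (hG : IsMinSimpleOddOrder G)
include hG

theorem ne_bot_of_coatom {M : Subgroup G} (hM : IsCoatom M) : M ≠ ⊥ := by
  rintro rfl
  refine hG.2.2.1 ⟨⟨fun x y => ?_⟩⟩
  have h : ∀ g : G, g = 1 := fun g => by
    by_contra hg
    refine Trans.ne_top_of_solvable hG (isSolvable_of_isMulCommutative (Subgroup.zpowers g))
      (hM.2 _ (lt_of_le_of_ne bot_le fun e => hg ?_))
    exact Subgroup.mem_bot.1 (e ▸ Subgroup.mem_zpowers g)
  rw [h x, h y]

/-- Noncyclic subgroups of large centraliser are members. -/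
theorem member {B K : Subgroup G} {p : ℕ} [hp : Fact p.Prime] (hB : IsElementaryAbelian p B)
    (hB2 : p ^ 2 ≤ Nat.card B) (hB3 : ¬ PRankLE p 2 (Subgroup.centralizer (B : Set G)))
    (hBK : B ≤ K) (hK : K ≠ ⊤) : InUniqueMaximal K := by
  obtain ⟨E, hEC, hEe, hE3⟩ := exists_cube hB3
  have hpG : p ∣ Nat.card G := by
    obtain ⟨n, hn⟩ := Sig.card_eq_pow hEe
    refine dvd_trans ?_ (Subgroup.card_subgroup_dvd_card E)
    rw [hn]
    refine dvd_pow_self p fun e => ?_
    rw [hn, e, pow_zero] at hE3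
    exact absurd hE3 (not_le.2 (Nat.one_lt_pow (by norm_num) hp.out.one_lt))
  have hp2 := TransHyp.ne_two hG hpG
  obtain ⟨P, hP⟩ := (isPGroup_elementary hEe).exists_le_sylow
  have hPr : ¬ PRankLE p 2 (P : Subgroup G) := fun h => by
    have h1 := FitUniq.rank_of_le hP h ⊤ (by haveI := hEe.1; infer_instance)
      fun a _ => Subtype.ext (hEe.2 a a.2)
    rw [Subgroup.card_top] at h1
    exact absurd (hE3.trans h1) (not_le.2 (Nat.pow_lt_pow_right hp.out.one_lt (by norm_num)))
  obtain ⟨A₀, hAn, hAc, hAs, hA3⟩ := SCN3.exists_scn3 hp2 P.isPGroup' hPr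
  set A := A₀.map (P : Subgroup G).subtype
  have hAc' : IsMulCommutative A := ⟨⟨by
    rintro ⟨_, a, ha, rfl⟩ ⟨_, b, hb, rfl⟩
    exact Subtype.ext (congrArg (fun w : A₀ => ((w : (P : Subgroup G)) : G))
      (hAc.is_comm.comm ⟨a, ha⟩ ⟨b, hb⟩))⟩⟩
  have hscn : IsSCN (P : Subgroup G) A := by
    refine ⟨Subgroup.map_subtype_le _, ?_, le_antisymm ?_ ?_⟩
    · intro x hx
      exact map_le_normalizer (x := ⟨x, hx⟩)
        (Subgroup.normalizer_eq_top_iff.2 hAn ▸ Subgroup.mem_top _)
    · rintro x ⟨hxP, hxc⟩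
      refine ⟨⟨x, hxP⟩, ?_, rfl⟩
      rw [← hAs]
      exact Subgroup.mem_centralizer_iff.2 fun a ha => Subtype.ext
        (Subgroup.mem_centralizer_iff.1 hxc a (Subgroup.mem_map_of_mem _ ha))
    · exact le_inf (Subgroup.map_subtype_le _) fun x hx =>
        Subgroup.mem_centralizer_iff.2 fun a ha =>
          congrArg (fun w : A => (w : G)) (hAc'.is_comm.comm ⟨a, ha⟩ ⟨x, hx⟩)
  have hA3' : ¬ PRankLE p 2 A := fun h => hA3 (FitUniq.rank_of_map h)
  exact mono (of_rank_three_member hG hp2 hAc' hA3' (UniqSCN.inUniqueMaximal_scn hG P hscn hA3')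
    (isPGroup_elementary hB) (Sig.not_isCyclic hB hB2) hB3) hBK hK

/-- A `p`-group of rank three lies in a unique maximal subgroup. -/
theorem member_pGroup {K : Subgroup G} {p : ℕ} [hp : Fact p.Prime] (hK : IsPGroup p K)
    (hK3 : ¬ PRankLE p 2 K) : InUniqueMaximal K := by
  obtain ⟨E, hEK, hEe, hE3⟩ := exists_cube hK3
  refine member hG hEe ((Nat.pow_le_pow_right hp.out.pos (by norm_num)).trans hE3) (fun h => ?_) hEK
    (Trans.ne_top_of_solvable hG (haveI := hK.isNilpotent; inferInstance))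
  have hEC : E ≤ Subgroup.centralizer (E : Set G) := fun x hx =>
    Subgroup.mem_centralizer_iff.2 fun a ha =>
      congrArg (fun w : E => (w : G)) (hEe.1.is_comm.comm ⟨a, ha⟩ ⟨x, hx⟩)
  have h1 := FitUniq.rank_of_le hEC h ⊤ (by haveI := hEe.1; infer_instance)
    fun a _ => Subtype.ext (hEe.2 a a.2)
  rw [Subgroup.card_top] at h1
  exact absurd (hE3.trans h1) (not_le.2 (Nat.pow_lt_pow_right hp.out.one_lt (by norm_num)))

variable {M : Subgroup G} (hM : IsCoatom M)
include hM

theorem top_ne_top {p : ℕ} (P : Sylow p M) : top P ≠ ⊤ :=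
  fun e => hM.1 (top_le_iff.1 (e ▸ Subgroup.map_subtype_le _))

theorem alpha_subset_sigma : alpha M ⊆ sigma M := by
  rintro p ⟨hp, hr⟩
  haveI := Fact.mk hp
  obtain ⟨P⟩ : Nonempty (Sylow p M) := inferInstance
  have hS3 : ¬ PRankLE p 2 (top P) := fun h => hr (rank_top P h)
  have hU := member_pGroup hG (P.isPGroup'.map M.subtype) hS3
  have hS1 : top P ≠ ⊥ := ne_bot hG hU
  refine ⟨hp, ?_, P, le_unique hU hM (Subgroup.map_subtype_le _)
    (Trans.normalizer_ne_top hG hS1 (top_ne_top hG hM P)) Subgroup.le_normalizer⟩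
  obtain ⟨k, hk⟩ := IsPGroup.iff_card.1 (P.isPGroup'.map M.subtype)
  have hk0 : k ≠ 0 := fun e => hS1 (Subgroup.card_eq_one.1 (by rw [hk, e, pow_zero]))
  exact ((dvd_pow_self p hk0).trans hk.symm.dvd).trans
    (Subgroup.card_dvd_of_le (Subgroup.map_subtype_le _))

/-- For `p ∈ σ(M)` the Sylow `p`-subgroups of `M` lie in `M'`. -/
theorem le_commutator {p : ℕ} [hp : Fact p.Prime] (hpσ : p ∈ sigma M) (P : Sylow p M) :
    (P : Subgroup M) ≤ commutator M := by
  obtain ⟨Q, hQ⟩ := sylow_of_normalizer_le P (normalizer_le hpσ P)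
  have hpG : p ∣ Nat.card G := hpσ.2.1.trans (Subgroup.card_subgroup_dvd_card M)
  have hQ1 : (Q : Subgroup G) ≠ ⊥ := Q.ne_bot_of_dvd_card hpG
  have hQt : (Q : Subgroup G) ≠ ⊤ := hQ ▸ top_ne_top hG hM P
  set N := Subgroup.normalizer (CfsgLib.Inv.ZJ.zJ 0 (Q : Subgroup G) : Set G) with hNdef
  have hQN : (Q : Subgroup G) ≤ N :=
    Subgroup.le_normalizer.trans (CfsgLib.Inv.ZJ.normalizer_le_zJ _)
  have hNt : N ≠ ⊤ := Trans.normalizer_ne_top hG
    (CfsgLib.Inv.ZJ.zJ_ne_bot (p := p) (Or.inl rfl) Q.isPGroup' hQ1)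
    fun e => hQt (top_le_iff.1 (e ▸ CfsgLib.Inv.ZJ.zJ_le _))
  have hQM : (Q : Subgroup G) ≤ M := hQ.le.trans (Subgroup.map_subtype_le _)
  suffices h : (Q : Subgroup G) ≤ ⁅M, M⁆ by
    intro x hx
    exact UniqSCN.mem_commutator_coe (h (hQ.ge (Subgroup.mem_map_of_mem M.subtype hx)))
  have hder := UniqSCN.le_commutator_normalizer_zJ hG hpG Q
  by_cases hr : PRankLE p 2 (Q : Subgroup G)
  swap
  · have hNM : N ≤ M := le_unique (member_pGroup hG Q.isPGroup' hr) hM hQM hNt hQN
    exact hder.trans (Subgroup.commutator_mono hNM hNM)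
  haveI := Trans.solvable_proper hG hNt
  set T : Sylow p N := Q.subtype hQN with hT
  have hTmap : (T : Subgroup N).map N.subtype = (Q : Subgroup G) := by
    rw [hT, Sylow.coe_subtype, Subgroup.map_subgroupOf_eq_of_le hQN]
  have hpN : p ∣ Nat.card N := by
    obtain ⟨k, hk⟩ := IsPGroup.iff_card.1 Q.isPGroup'
    have hk0 : k ≠ 0 := fun e => hQ1 (Subgroup.card_eq_one.1 (by rw [hk, e, pow_zero]))
    exact ((dvd_pow_self p hk0).trans hk.symm.dvd).trans (Subgroup.card_dvd_of_le hQN)
  have hidx := (Cfsg.Agent.S1450.result (hG.1.of_dvd_nat N.card_subgroup_dvd_card) p hpN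
    (CfsgLib.OddLocal.restrict_rank (rank_of_sylow Q hr))).2.2.2.2.2
  have hinf := inf_pPrimePCore_of_index T hidx
  have hfac : N ≤ core p N ⊔ (N ⊓ Subgroup.normalizer ((Q : Subgroup G) : Set G)) := by
    intro z hz
    have h0 := sup_normalizer_inf T
    rw [hinf] at h0
    have h1 : pPrimeCore p N ⊔ Subgroup.normalizer ((T : Subgroup N) : Set N) ≤
        (core p N ⊔ (N ⊓ Subgroup.normalizer ((Q : Subgroup G) : Set G))).subgroupOf N :=
      sup_le (fun w hw => Subgroup.mem_sup_left (Subgroup.mem_map_of_mem _ hw))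
        fun w hw => Subgroup.mem_sup_right ⟨w.2, hTmap ▸ map_le_normalizer hw⟩
    exact h1 (h0.ge (Subgroup.mem_top ⟨z, hz⟩))
  intro x hx
  have hNM : N ⊓ Subgroup.normalizer ((Q : Subgroup G) : Set G) ≤ M :=
    inf_le_right.trans (hQ ▸ normalizer_le hpσ P)
  refine Subgroup.commutator_mono hNM hNM (UniqSCN.derived_of_factor (Uniq.core_le N)
    (le_normalizer_core N) (coprime_core N) inf_le_left hfac ⟨hQN hx, Subgroup.le_normalizer hx⟩ ?_
    (hder hx))
  obtain ⟨j, hj⟩ := Q.isPGroup' ⟨x, hx⟩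
  exact ⟨j, congrArg Subtype.val hj⟩

omit hM in
/-- Outside `α(M)` the ranks survive in `M/M_α`. -/
theorem rank_quotient {q : ℕ} [hq : Fact q.Prime] (hqα : q ∉ alpha M) :
    PRankLE q 2 (M ⧸ piCore (alpha M) M) := by
  haveI : (piCore (alpha M) M).Normal := by
    haveI := piCore_characteristic (π := alpha M) (G := M); infer_instance
  set f := QuotientGroup.mk' (piCore (alpha M) M)
  obtain ⟨P⟩ : Nonempty (Sylow q M) := inferInstance
  have hr : PRankLE q 2 M := by
    by_contra h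
    exact hqα ⟨hq.out, h⟩
  have hinj : Function.Injective (f.subgroupMap (P : Subgroup M)) := by
    rw [← MonoidHom.ker_eq_bot_iff, eq_bot_iff]
    intro x hx
    have hx' : (x : M) ∈ piCore (alpha M) M :=
      (QuotientGroup.eq_one_iff _).1 (congrArg Subtype.val hx)
    refine Subgroup.mem_bot.2 (Subtype.ext (orderOf_eq_one_iff.1 ?_))
    obtain ⟨j, hj⟩ := P.isPGroup' x
    refine Nat.eq_one_of_dvd_coprimes (((Nat.Prime.coprime_iff_not_dvd hq.out).2 fun h =>
      hqα (piNat_alphaCore M q hq.out h)).pow_left j) ?_ ?_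
    · exact orderOf_dvd_of_pow_eq_one (congrArg Subtype.val hj)
    · exact Subgroup.orderOf_mk (H := piCore (alpha M) M) _ hx' ▸ orderOf_dvd_natCard _
  refine rank_of_sylow (P.mapSurjective (QuotientGroup.mk'_surjective _)) ?_
  let e := MulEquiv.ofBijective (f.subgroupMap (P : Subgroup M))
    ⟨hinj, MonoidHom.subgroupMap_surjective _ _⟩
  exact UniqSCN.rank_of_inj e.symm.toMonoidHom e.symm.injective
    (CfsgLib.OddLocal.restrict_rank hr)

theorem rank_fitting_quotient : RankLE 2 (fittingSubgroup (M ⧸ piCore (alpha M) M)) := by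
  intro q hq
  haveI := Fact.mk hq
  haveI : (piCore (alpha M) M).Normal := by
    haveI := piCore_characteristic (π := alpha M) (G := M); infer_instance
  by_cases hqα : q ∈ alpha M
  swap
  · exact CfsgLib.OddLocal.restrict_rank (rank_quotient hG hqα)
  intro C _ hCp
  have h0 := ((Cfsg.Agent.S1886.result (X := M ⧸ piCore (alpha M) M) (alpha M)).2
    (Cfsg.Agent.S1886.result (X := M) (alpha M)).1).1 q hq hqα
  by_cases hC : C = ⊥
  · rw [hC, Subgroup.card_bot]; exact Nat.one_le_pow _ _ hq.pos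
  obtain ⟨k, hk⟩ := (IsPGroup.iff_card (p := q) (G := C)).1
    fun x => ⟨1, by rw [pow_one]; exact Subtype.ext (hCp x x.2)⟩
  have hk0 : k ≠ 0 := fun e => hC (Subgroup.card_eq_one.1 (by rw [hk, e, pow_zero]))
  exact absurd (((dvd_pow_self q hk0).trans hk.symm.dvd).trans C.card_subgroup_dvd_card) h0

theorem commutator_quotient :
    Group.IsNilpotent (commutator (M ⧸ piCore (alpha M) M)) ∧
      commutator (M ⧸ piCore (alpha M) M) ≤ fittingSubgroup (M ⧸ piCore (alpha M) M) := by
  haveI : (piCore (alpha M) M).Normal := by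
    haveI := piCore_characteristic (π := alpha M) (G := M); infer_instance
  haveI := Trans.solvable_proper hG hM.1
  have h := (Cfsg.Agent.S1451.result (G := M ⧸ piCore (alpha M) M)
    ((hG.1.of_dvd_nat M.card_subgroup_dvd_card).of_dvd_nat
      (Subgroup.index_eq_card (piCore (alpha M) M) ▸ Subgroup.index_dvd_card _))
    (Or.inr (rank_fitting_quotient hG hM))).1
  exact ⟨h, le_fittingSubgroup h⟩

theorem sylow_map_le_fitting {p : ℕ} [hp : Fact p.Prime] (hpσ : p ∈ sigma M) (P : Sylow p M) :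
    (P : Subgroup M).map (QuotientGroup.mk' (piCore (alpha M) M)) ≤
      fittingSubgroup (M ⧸ piCore (alpha M) M) := by
  refine le_trans ?_ (commutator_quotient hG hM).2
  refine (Subgroup.map_mono (le_commutator hG hM hpσ P)).trans ?_
  rw [commutator_def, commutator_def, Subgroup.map_commutator]
  exact Subgroup.commutator_mono le_top le_top

theorem not_dvd_index_alpha {p : ℕ} (hp : p.Prime) (hpα : p ∈ alpha M) :
    ¬ p ∣ (piCore (alpha M) M).index := by
  haveI := Fact.mk hp
  haveI : (piCore (alpha M) M).Normal := by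
    haveI := piCore_characteristic (π := alpha M) (G := M); infer_instance
  obtain ⟨P⟩ : Nonempty (Sylow p M) := inferInstance
  have hF := sylow_map_le_fitting hG hM (alpha_subset_sigma hG hM hpα) P
  have h0 := ((Cfsg.Agent.S1886.result (X := M ⧸ piCore (alpha M) M) (alpha M)).2
    (Cfsg.Agent.S1886.result (X := M) (alpha M)).1).1 p hp hpα
  have hb : (P : Subgroup M).map (QuotientGroup.mk' (piCore (alpha M) M)) = ⊥ := by
    refine Subgroup.card_eq_one.1 ?_
    obtain ⟨k, hk⟩ := IsPGroup.iff_card.1 (P.isPGroup'.map (QuotientGroup.mk' (piCore (alpha M) M)))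
    rw [hk]
    rcases Nat.eq_zero_or_pos k with rfl | hk0
    · rfl
    · exact absurd (((dvd_pow_self p hk0.ne').trans hk.symm.dvd).trans (Subgroup.card_dvd_of_le hF)) h0
  rw [Subgroup.map_eq_bot_iff, QuotientGroup.ker_mk'] at hb
  exact fun h => P.not_dvd_index (h.trans (Subgroup.index_dvd_of_le hb))

theorem not_dvd_index_sigma {p : ℕ} (hp : p.Prime) (hpσ : p ∈ sigma M) :
    ¬ p ∣ (piCore (sigma M) M).index := by
  haveI := Fact.mk hp
  haveI : (piCore (alpha M) M).Normal := by
    haveI := piCore_characteristic (π := alpha M) (G := M); infer_instance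
  obtain ⟨P⟩ : Nonempty (Sylow p M) := inferInstance
  set f := QuotientGroup.mk' (piCore (alpha M) M)
  haveI := pCore_normal (M ⧸ piCore (alpha M) M) p
  set K := (pCore p (M ⧸ piCore (alpha M) M)).comap f with hK
  have hPK : (P : Subgroup M) ≤ K := by
    intro x hx
    obtain ⟨j, hj⟩ := P.isPGroup' ⟨x, hx⟩
    refine mem_pCore_of_mem_fitting (k := j)
      (sylow_map_le_fitting hG hM hpσ P (Subgroup.mem_map_of_mem f hx)) ?_
    rw [← map_pow, show x ^ p ^ j = 1 from congrArg Subtype.val hj, map_one]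
  have hKσ : K ≤ piCore (sigma M) M := by
    refine le_piCore ?_
    have hcard : Nat.card K = Nat.card (pCore p (M ⧸ piCore (alpha M) M)) *
        Nat.card (piCore (alpha M) M) := by
      have h1 := CfsgLib.Solv.card_map_mk' (piCore (alpha M) M) K
      rw [Subgroup.map_comap_eq_self_of_surjective (QuotientGroup.mk'_surjective _),
        inf_eq_right.2 (QuotientGroup.le_comap_mk' _ _)] at h1
      exact h1.symm
    rw [hcard]
    exact (PiNat.of_isPGroup (pCore_isPGroup _ p) hpσ).mul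
      ((piNat_alphaCore M).mono (alpha_subset_sigma hG hM))
  exact fun h => P.not_dvd_index (h.trans (Subgroup.index_dvd_of_le (hPK.trans hKσ)))

theorem not_dvd_index_of_sigma {p : ℕ} (hp : p.Prime) (hpσ : p ∈ sigma M) : ¬ p ∣ M.index := by
  haveI := Fact.mk hp
  obtain ⟨P⟩ : Nonempty (Sylow p M) := inferInstance
  obtain ⟨Q, hQ⟩ := sylow_of_normalizer_le P (normalizer_le hpσ P)
  exact fun h => Q.not_dvd_index
    (h.trans (Subgroup.index_dvd_of_le (hQ.le.trans (Subgroup.map_subtype_le _))))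

theorem hall {π : Set ℕ} (hπ : π ⊆ sigma M)
    (h : ∀ p : ℕ, p.Prime → p ∈ π → ¬ p ∣ (piCore π M).index) :
    IsPiHallOf π (piCoreOf π M) M ∧ IsPiHall π (piCoreOf π M) := by
  have hn := Trans.piNat_piCoreOf π M
  have hrel : (piCoreOf π M).relIndex M = (piCore π M).index := by
    rw [Subgroup.relIndex, piCoreOf, Subgroup.subgroupOf,
      Subgroup.comap_map_eq_self_of_injective M.subtype_injective]
  refine ⟨⟨Trans.piCoreOf_le π M, hn, fun p hp hpπ => hrel ▸ h p hp hpπ⟩, hn, fun p hp hpπ hd => ?_⟩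
  rw [← Subgroup.relIndex_mul_index (Trans.piCoreOf_le π M), hrel] at hd
  rcases hp.dvd_mul.1 hd with h' | h'
  · exact h p hp hpπ h'
  · exact not_dvd_index_of_sigma hG hM hp (hπ hpπ) h'

theorem sigmaCore_le_commutator : piCore (sigma M) M ≤ commutator M := by
  refine le_of_piNat_of_index (piNat_card_piCore _) fun q hq hqσ hd => ?_
  haveI := Fact.mk hq
  obtain ⟨P⟩ : Nonempty (Sylow q M) := inferInstance
  exact P.not_dvd_index (hd.trans (Subgroup.index_dvd_of_le (le_commutator hG hM hqσ P)))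

theorem exists_not_sigma : ∃ q : ℕ, q.Prime ∧ q ∣ Nat.card M ∧ q ∉ sigma M := by
  haveI := Trans.solvable_proper hG hM.1
  haveI : Nontrivial M := (Subgroup.nontrivial_iff_ne_bot _).2 (ne_bot_of_coatom hG hM)
  have hidx : (commutator M).index ≠ 1 := fun e =>
    (Group.IsSolvable.commutator_lt_top_of_nontrivial M).ne (Subgroup.index_eq_one.1 e)
  obtain ⟨q, hq, hd⟩ := Nat.exists_prime_and_dvd hidx
  haveI := Fact.mk hq
  refine ⟨q, hq, hd.trans (Subgroup.index_dvd_card _), fun hσ => ?_⟩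
  obtain ⟨P⟩ : Nonempty (Sylow q M) := inferInstance
  exact P.not_dvd_index (hd.trans (Subgroup.index_dvd_of_le (le_commutator hG hM hσ P)))

end CfsgLib.OddLocal.Sigma
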