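import Cfsg.Agent.OddLocal.ZPLength
import Cfsg.Agent.OddLocal.Sigma
import Cfsg.Agent.S1407
import Cfsg.Agent.S1450
import Mathlib

/-!
Bender–Glauberman 10.6: proper subgroups of a minimal simple group of odd order have `p`-length one.
-/

set_option autoImplicit false
set_option linter.style.haveILetI false
set_option linter.unusedSectionVars false

open Cfsg CfsgLib.Solv
open scoped commutatorElement

namespace CfsgLib.OddLocal.PLenMax

open ZComm

variable {G : Type*} [Group G] [Finite G]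

theorem plen_of_good_top {Y : Type*} [Group Y] [Finite Y] {p : ℕ} [Fact p.Prime]
    (h : Good p (⊤ : Subgroup Y)) : Cfsg.PLengthLE p 1 Y := by
  obtain ⟨N, B, hN, hB, hNB, -, hc, ⟨m, hm⟩, hrel⟩ := h
  haveI := hN
  haveI := hB
  haveI := CfsgLib.Solv.pPrimeCore_normal Y p
  rw [Subgroup.relIndex_top_right] at hrel
  refine PLen.pLengthLE_one_of_index fun hdvd => hrel ?_
  set g := QuotientGroup.mk' (Cfsg.pPrimeCore p Y)
  have hgs : Function.Surjective g := QuotientGroup.mk'_surjective _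
  haveI : (B.map g).Normal := hB.map _ hgs
  have hBp : IsPGroup p (B.map g) := by
    have h1 : Nat.card (B.map g) ∣ p ^ m := by
      rw [← Subgroup.relIndex_ker, QuotientGroup.ker_mk', ← hm]
      exact Subgroup.relIndex_dvd_of_le_left _ (CfsgLib.Solv.le_pPrimeCore hc)
    obtain ⟨j, -, hj⟩ := (Nat.dvd_prime_pow Fact.out).1 h1
    exact IsPGroup.of_card hj
  exact hdvd.trans ((Subgroup.index_dvd_of_le (CfsgLib.Solv.le_pCore hBp)).trans
    (Subgroup.index_map_dvd _ hgs))

theorem good_comap {X Y : Type*} [Group X] [Finite X] [Group Y] [Finite Y] {p : ℕ} [Fact p.Prime]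
    (j : Y →* X) (hj : Function.Injective j) (h : Good p (⊤ : Subgroup X)) :
    Good p (⊤ : Subgroup Y) := by
  obtain ⟨N, B, hN, hB, hNB, -, hc, ⟨m, hm⟩, hrel⟩ := h
  haveI := hN
  haveI := hB
  refine ⟨N.comap j, B.comap j, inferInstance, inferInstance, Subgroup.comap_mono hNB, le_top, ?_, ?_, ?_⟩
  · exact hc.coprime_dvd_left ((Subgroup.card_comap_dvd_of_injective N j hj))
  · have h1 : (N.comap j).relIndex (B.comap j) ∣ p ^ m := by
      rw [Subgroup.relIndex_comap, ← hm]
      exact relIndex_dvd_right N (Subgroup.map_comap_le _ _)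
    obtain ⟨i, -, hi⟩ := (Nat.dvd_prime_pow Fact.out).1 h1
    exact ⟨i, hi⟩
  · intro hd
    refine hrel (hd.trans ?_)
    rw [Subgroup.relIndex_comap]
    exact relIndex_dvd_right B le_top

theorem good_of_index {X : Type*} [Group X] [Finite X] {p : ℕ} [Fact p.Prime] {K : Subgroup X}
    (hK : ¬ p ∣ K.index) (h : Good p K) : Good p (⊤ : Subgroup X) := by
  obtain ⟨N, B, hN, hB, hNB, hBK, hc, hm, hrel⟩ := h
  refine ⟨N, B, hN, hB, hNB, le_top, hc, hm, ?_⟩
  rw [Subgroup.relIndex_top_right, ← Subgroup.relIndex_mul_index hBK]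
  exact fun hd => ((Fact.out : p.Prime).dvd_mul.1 hd).elim hrel hK

theorem good_of_rank_two {X : Type*} [Group X] [Finite X] [Group.IsSolvable X]
    (hodd : Odd (Nat.card X)) {p : ℕ} [hp : Fact p.Prime] (hr : Cfsg.PRankLE p 2 X) :
    Good p (⊤ : Subgroup X) := by
  haveI := CfsgLib.Solv.pPrimeCore_normal X p
  by_cases hpX : p ∣ Nat.card X
  · obtain ⟨-, -, -, -, -, h⟩ := Cfsg.Agent.S1450.result hodd p hpX hr
    haveI := CfsgLib.Solv.pCore_normal (X ⧸ Cfsg.pPrimeCore p X) p
    refine ⟨Cfsg.pPrimeCore p X, Cfsg.pPrimePCore p X, inferInstance,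
      Subgroup.normal_comap _, ?_, le_top, pPrimeCore_coprime X p, ?_, ?_⟩
    · intro a ha
      show QuotientGroup.mk' _ a ∈ Cfsg.pCore p _
      rw [show QuotientGroup.mk' (Cfsg.pPrimeCore p X) a = 1 from (QuotientGroup.eq_one_iff a).2 ha]
      exact one_mem _
    · obtain ⟨m, hm⟩ := IsPGroup.iff_card.1 (pCore_isPGroup (X ⧸ Cfsg.pPrimeCore p X) p)
      exact ⟨m, by rw [Cfsg.pPrimePCore, relIndex_comap_bot, hm]⟩
    · rw [Subgroup.relIndex_top_right]
      intro hd
      exact hp.out.ne_one (Nat.eq_one_of_dvd_coprimes h hd dvd_rfl)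
  · exact ⟨⊥, ⊥, inferInstance, inferInstance, le_rfl, le_top, by simp, ⟨0, by simp⟩, by simpa using hpX⟩

/-- In a maximal subgroup, `M_α = [M_α, R]` for a complement `R`. -/
theorem eq_commutator_of_le_commutator {X : Type*} [Group X] [Finite X] [Group.IsSolvable X]
    {A R : Subgroup X} [A.Normal] (hc : A.IsComplement' R) (hA : A ≤ commutator X) :
    ⁅A, R⁆ = A := by
  refine le_antisymm (Subgroup.commutator_le_left A R) ?_
  set D := ⁅A, R⁆ with hD
  haveI : D.Normal := Subgroup.normalizer_eq_top_iff.1 (top_le_iff.1 (hc.sup_eq_top ▸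
    sup_le (left_le_normalizer_commutator A R) (right_le_normalizer_commutator A R)))
  set f := QuotientGroup.mk' D with hf
  have hfs : Function.Surjective f := QuotientGroup.mk'_surjective D
  set A' := A.map f
  set R' := R.map f
  have hAR : A' ⊔ R' = ⊤ := by
    rw [← Subgroup.map_sup, hc.sup_eq_top, ← MonoidHom.range_eq_map, MonoidHom.range_eq_top.2 hfs]
  have hcomm : ∀ a ∈ A', ∀ b ∈ R', Commute a b := by
    rintro _ ⟨a, ha, rfl⟩ _ ⟨b, hb, rfl⟩
    rw [commute_iff_eq, ← commutatorElement_eq_one_iff_mul_comm, ← map_commutatorElement]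
    exact (QuotientGroup.eq_one_iff _).2 (Subgroup.commutator_mem_commutator ha hb)
  haveI hA'n : A'.Normal := Subgroup.Normal.map inferInstance _ hfs
  have hle : commutator (X ⧸ D) ≤ ⁅A', A'⁆ ⊔ ⁅R', R'⁆ := by
    rw [commutator_def, Subgroup.commutator_le]
    intro x _ y _
    have hdec : ∀ z : X ⧸ D, ∃ a ∈ A', ∃ b ∈ R', z = a * b := fun z =>
      exists_mul_of_mem_sup (X := R') (M := A') Subgroup.le_normalizer_of_normal
        (by rw [sup_comm, hAR]; trivial)
    obtain ⟨a, ha, b, hb, rfl⟩ := hdec x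
    obtain ⟨a', ha', b', hb', rfl⟩ := hdec y
    have e : ⁅a * b, a' * b'⁆ = ⁅a, a'⁆ * ⁅b, b'⁆ := by
      have h1 := hcomm a ha b' hb'
      have h2 := hcomm a' ha' b hb
      have h3 := hcomm a ha b hb
      have h4 := hcomm a' ha' b' hb'
      simp only [commutatorElement_def, _root_.mul_inv_rev]
      calc a * b * (a' * b') * (b⁻¹ * a⁻¹) * (b'⁻¹ * a'⁻¹)
          = a * (b * a') * b' * (b⁻¹ * a⁻¹) * (b'⁻¹ * a'⁻¹) := by group
        _ = a * (a' * b) * b' * (b⁻¹ * a⁻¹) * (b'⁻¹ * a'⁻¹) := by rw [h2.eq]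
        _ = a * a' * (b * b' * b⁻¹) * (a⁻¹ * b'⁻¹) * a'⁻¹ := by group
        _ = a * a' * (b * b' * b⁻¹) * (b'⁻¹ * a⁻¹) * a'⁻¹ := by rw [(h1.inv_inv).eq]
        _ = a * a' * ((b * b' * b⁻¹ * b'⁻¹) * (a⁻¹ * a'⁻¹)) := by group
        _ = a * a' * ((a⁻¹ * a'⁻¹) * (b * b' * b⁻¹ * b'⁻¹)) := by
            rw [(hcomm (a⁻¹ * a'⁻¹) (A'.mul_mem (A'.inv_mem ha) (A'.inv_mem ha'))
              (b * b' * b⁻¹ * b'⁻¹) (R'.mul_mem (R'.mul_mem (R'.mul_mem hb hb') (R'.inv_mem hb))
                (R'.inv_mem hb'))).eq]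
        _ = a * a' * a⁻¹ * a'⁻¹ * (b * b' * b⁻¹ * b'⁻¹) := by group
    rw [e]
    exact Subgroup.mul_mem_sup (Subgroup.commutator_mem_commutator ha ha')
      (Subgroup.commutator_mem_commutator hb hb')
  have hcardAR : A' ⊓ R' = ⊥ := by
    rw [eq_bot_iff]
    rintro _ ⟨⟨a, ha, rfl⟩, ⟨b, hb, hab⟩⟩
    have hd : a⁻¹ * b ∈ A := Subgroup.commutator_le_left A R ((QuotientGroup.eq).1 hab.symm)
    have hb1 : b ∈ A ⊓ R := ⟨by simpa using A.mul_mem ha hd, hb⟩
    rw [hc.disjoint.eq_bot, Subgroup.mem_bot] at hb1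
    rw [Subgroup.mem_bot, ← hab, hb1, map_one]
  have hperf : A' ≤ ⁅A', A'⁆ := by
    intro a ha
    have h1 : a ∈ ⁅R', R'⁆ ⊔ ⁅A', A'⁆ := by
      rw [sup_comm]
      refine hle ?_
      have h2 : a ∈ (commutator X).map f := Subgroup.map_mono hA ha
      rw [commutator_def, Subgroup.map_commutator] at h2
      exact Subgroup.commutator_mono le_top le_top h2
    obtain ⟨c, hcA, d, hd, rfl⟩ := exists_mul_of_mem_sup (X := ⁅R', R'⁆) (M := ⁅A', A'⁆)
      Subgroup.le_normalizer_of_normal h1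
    have hd1 : d ∈ A' ⊓ R' := ⟨by
      simpa using A'.mul_mem (A'.inv_mem (Subgroup.commutator_le_left A' A' hcA)) ha,
      Subgroup.commutator_le.2 (fun u hu v hv => by
        rw [commutatorElement_def]
        exact R'.mul_mem (R'.mul_mem (R'.mul_mem hu hv) (R'.inv_mem hu)) (R'.inv_mem hv)) hd⟩
    rw [hcardAR, Subgroup.mem_bot] at hd1
    rw [hd1, mul_one]; exact hcA
  have hbot : A' = ⊥ := by
    by_contra hne
    haveI : Nontrivial A' := (Subgroup.nontrivial_iff_ne_bot _).2 hne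
    refine (Group.IsSolvable.commutator_lt_top_of_nontrivial A').ne ?_
    refine Subgroup.map_injective A'.subtype_injective ?_
    rw [Subgroup.map_subtype_commutator, ← MonoidHom.range_eq_map, Subgroup.range_subtype]
    exact le_antisymm (Subgroup.commutator_le_left A' A') hperf
  intro a ha
  have : f a ∈ A' := ⟨a, ha, rfl⟩
  rw [hbot, Subgroup.mem_bot] at this
  exact (QuotientGroup.eq_one_iff a).1 this

variable (hG : IsMinSimpleOddOrder G) {M : Subgroup G} (hM : IsCoatom M)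
include hG hM

theorem good_maximal (p : ℕ) [hp : Fact p.Prime] : Good p (⊤ : Subgroup M) := by
  classical
  haveI := Trans.solvable_proper hG hM.1
  have hodd : Odd (Nat.card M) := hG.1.of_dvd_nat (Subgroup.card_subgroup_dvd_card M)
  by_cases hα : p ∈ alpha M
  swap
  · refine good_of_rank_two hodd ?_
    by_contra h
    exact hα ⟨hp.out, h⟩
  set A := piCore (alpha M) M with hA
  haveI hAn : A.Normal := by
    have := CfsgLib.Solv.piCore_characteristic (G := M) (π := alpha M)
    infer_instance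
  have hidx : ¬ p ∣ A.index := Sigma.not_dvd_index_alpha hG hM hp.out hα
  refine good_of_index hidx ?_
  have hcop : (Nat.card A).Coprime A.index := by
    refine Nat.coprime_of_dvd fun k hk h1 h2 => ?_
    exact Sigma.not_dvd_index_alpha hG hM hk (Sigma.piNat_alphaCore M k hk h1) h2
  obtain ⟨R, hR⟩ := Subgroup.exists_right_complement'_of_coprime (N := A) hcop
  have hAR : ⁅A, R⁆ = A := eq_commutator_of_le_commutator hR
    (le_of_piNat_le hG hM)
  have hRcop : (Nat.card R).Coprime (Nat.card A) := by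
    rw [← hR.symm.index_eq_card]; exact hcop.symm
  have hMα : alphaCore M ≠ ⊥ := by
    intro h
    have h0 : A = ⊥ := by
      rwa [alphaCore, Subgroup.map_eq_bot_iff_of_injective _ M.subtype_injective] at h
    apply hα.2
    rw [h0, Subgroup.index_bot] at hidx
    intro E _ hE
    have hEp : IsPGroup p E := fun v => ⟨1, by rw [pow_one]; exact Subtype.ext (hE v v.2)⟩
    obtain ⟨k, hk⟩ := IsPGroup.iff_card.1 hEp
    rcases Nat.eq_zero_or_pos k with rfl | hk0
    · rw [hk, pow_zero]; exact Nat.one_le_pow _ _ hp.out.pos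
    · exact absurd ((hk ▸ dvd_pow_self p hk0.ne').trans (Subgroup.card_subgroup_dvd_card E)) hidx
  obtain ⟨q, hq, hqM, hqσ⟩ := Sigma.exists_not_sigma hG hM
  haveI := Fact.mk hq
  obtain ⟨Q₀⟩ : Nonempty (Sylow q R) := inferInstance
  have hqA : ¬ q ∣ Nat.card A := fun h => hqσ (Sigma.alpha_subset_sigma hG hM (Sigma.piNat_alphaCore M q hq h))
  let Q : Sylow q M := (Q₀.2.map R.subtype).toSylow (by
    rw [Subgroup.index_map_subtype, hR.index_eq_card]
    intro h
    rcases hq.dvd_mul.1 h with h' | h'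
    · exact Q₀.not_dvd_index h'
    · exact hqA h')
  obtain ⟨x, hxZ, hxq, hxC, -⟩ := Cfsg.Agent.S1407.result hG M hM hMα q hqM hqσ Q
  obtain ⟨x', ⟨⟨z, hz, hzx⟩, rfl⟩⟩ : ∃ x' : M, (x' ∈ ((Subgroup.center ↥(Q : Subgroup M)).map (Q : Subgroup M).subtype)) ∧ (x' : G) = x := by
    obtain ⟨a, ha, rfl⟩ := hxZ
    exact ⟨a, ha, rfl⟩
  have hxR : x' ∈ R := by
    rw [← hzx]
    obtain ⟨b, -, hb⟩ := z.2
    show (z : M) ∈ R
    rw [← hb]; exact b.2
  have hord : orderOf x' = q := by rw [← Subgroup.orderOf_coe]; exact hxq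
  have h1 := pLengthLE_commutator hodd A R (Subgroup.zpowers x') hRcop hR.sup_eq_top
    (Subgroup.zpowers_le.2 hxR) (by rw [Nat.card_zpowers, hord]; exact hq) ?_ p
  · rwa [hAR] at h1
  · haveI := hxC
    let φ : ↥(A ⊓ Subgroup.centralizer ((Subgroup.zpowers x' : Subgroup M) : Set M)) →*
        ↥(alphaCore M ⊓ Subgroup.centralizer ({(x' : G)} : Set G)) :=
      { toFun := fun a => ⟨((a : M) : G), ⟨(a : M), a.2.1, rfl⟩, by
          refine Subgroup.mem_centralizer_singleton_iff.2 ?_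
          exact congrArg Subtype.val
            (Subgroup.mem_centralizer_iff.1 a.2.2 x' (Subgroup.mem_zpowers x')).symm⟩
        map_one' := rfl
        map_mul' := fun _ _ => rfl }
    refine IsZGroup.of_injective (f := φ) ?_
    intro a b e
    exact Subtype.ext (Subtype.ext (congrArg (fun t : ↥(alphaCore M ⊓ Subgroup.centralizer ({(x' : G)} : Set G)) => (t : G)) e))
where
  le_of_piNat_le (hG : IsMinSimpleOddOrder G) {M : Subgroup G} (hM : IsCoatom M) :
      piCore (alpha M) M ≤ commutator M := by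
    refine le_trans ?_ (Sigma.sigmaCore_le_commutator hG hM)
    haveI := CfsgLib.Solv.piCore_characteristic (G := M) (π := alpha M)
    exact CfsgLib.Solv.le_piCore (PiNat.mono (Sigma.piNat_alphaCore M) (Sigma.alpha_subset_sigma hG hM))

end CfsgLib.OddLocal.PLenMax
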