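import Cfsg.Prelude.Def_OddOrderLocal
import Mathlib.Order.OrderIsoNat

/-!
The Puig series: monotonicity and stabilisation.
-/

set_option autoImplicit false

namespace CfsgLib.Puig

open Cfsg Subgroup

universe u

variable {G : Type u} [Group G]

theorem le_step {X A : Subgroup G} (hA : IsMulCommutative A)
    (hX : X ≤ Subgroup.normalizer (A : Set G)) : A ≤ puigStep X :=
  le_sSup (s := {A : Subgroup G | IsMulCommutative A ∧ X ≤ Subgroup.normalizer (A : Set G)}) ⟨hA, hX⟩

theorem step_antitone {X Y : Subgroup G} (h : X ≤ Y) : puigStep Y ≤ puigStep X :=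
  sSup_le_sSup fun _ hA => ⟨hA.1, h.trans hA.2⟩

theorem seq_succ (n : ℕ) : puigSeq G (n + 1) = puigStep (puigSeq G n) := rfl

theorem seq_one : puigSeq G 1 = ⊤ := by
  refine eq_top_iff.2 fun g _ => le_step (A := Subgroup.zpowers g) inferInstance bot_le (mem_zpowers g)

theorem seq_even_mono (n : ℕ) : puigSeq G (2 * n) ≤ puigSeq G (2 * n + 2) := by
  induction n with
  | zero => exact bot_le
  | succ n ih => exact step_antitone (step_antitone ih)

theorem seq_odd_anti (n : ℕ) : puigSeq G (2 * n + 3) ≤ puigSeq G (2 * n + 1) := by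
  induction n with
  | zero =>
    rw [show 2 * 0 + 1 = 1 from rfl, seq_one]
    exact le_top
  | succ n ih => exact step_antitone (step_antitone ih)

theorem even_mono : Monotone fun n => puigSeq G (2 * n) :=
  monotone_nat_of_le_succ seq_even_mono

theorem odd_anti : Antitone fun n => puigSeq G (2 * n + 1) :=
  antitone_nat_of_succ_le seq_odd_anti

theorem even_le_odd_self (n : ℕ) : puigSeq G (2 * n) ≤ puigSeq G (2 * n + 1) := by
  induction n with
  | zero => exact bot_le
  | succ n ih =>
    show puigStep (puigSeq G (2 * n + 1)) ≤ puigStep (puigSeq G (2 * n + 2))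
    exact step_antitone (step_antitone ih)

theorem even_le_odd (n m : ℕ) : puigSeq G (2 * n) ≤ puigSeq G (2 * m + 1) :=
  (even_mono (le_max_left n m)).trans ((even_le_odd_self _).trans (odd_anti (le_max_right n m)))

theorem exists_stable [Finite G] : ∃ k : ℕ, ∀ n : ℕ, k ≤ n →
    puigSeq G (2 * n) = puigLower G ∧ puigSeq G (2 * n + 1) = puigSubgroup G := by
  obtain ⟨k, hk⟩ := WellFoundedGT.monotone_chain_condition
    (⟨fun n => puigSeq G (2 * n), even_mono⟩ : ℕ →o Subgroup G)
  have hk' : ∀ m, k ≤ m → puigSeq G (2 * k) = puigSeq G (2 * m) := hk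
  have hodd : ∀ m, k ≤ m → puigSeq G (2 * m + 1) = puigSeq G (2 * k + 1) := fun m hm => by
    rw [seq_succ, seq_succ, hk' m hm]
  have hlow : puigLower G = puigSeq G (2 * k) := le_antisymm (iSup_le fun n => by
    rw [hk' (max n k) (le_max_right _ _)]
    exact even_mono (le_max_left n k)) (le_iSup (fun n => puigSeq G (2 * n)) k)
  have hup : puigSubgroup G = puigSeq G (2 * k + 1) := le_antisymm
    (iInf_le (fun n => puigSeq G (2 * n + 1)) k) (le_iInf fun n => by
      rw [← hodd (max n k) (le_max_right _ _)]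
      exact odd_anti (le_max_left n k))
  exact ⟨k, fun n hn => ⟨by rw [hlow, hk' n hn], by rw [hup, hodd n hn]⟩⟩

theorem lower_le : puigLower G ≤ puigSubgroup G :=
  iSup_le fun n => le_iInf fun m => even_le_odd n m

theorem step_lower [Finite G] : puigStep (puigLower G) = puigSubgroup G := by
  obtain ⟨k, hk⟩ := exists_stable (G := G)
  rw [← (hk k le_rfl).1, ← (hk k le_rfl).2]
  rfl

theorem step_upper [Finite G] : puigStep (puigSubgroup G) = puigLower G := by
  obtain ⟨k, hk⟩ := exists_stable (G := G)
  rw [← (hk k le_rfl).2, ← (hk (k + 1) (by omega)).1]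
  rfl

theorem le_seq_succ {A : Subgroup G} [A.Normal] (hA : IsMulCommutative A) (n : ℕ) :
    A ≤ puigSeq G (n + 1) :=
  le_step hA (by rw [Subgroup.normalizer_eq_top]; exact le_top)

end CfsgLib.Puig
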