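import Cfsg.Agent.OddLocal.Puig
import Cfsg.Agent.OddLocal.PStable
import Cfsg.Agent.Fus.FunctorCore

set_option autoImplicit false
set_option linter.style.haveILetI false
set_option linter.deprecated false

/-! Puig's theorem on the center of the Puig subgroup in solvable groups of odd order. -/

namespace CfsgLib.Puig

open Cfsg Subgroup

universe u v

/-! ### Transport -/

theorem map_step_le {G : Type u} [Group G] {G' : Type v} [Group G'] (e : G ≃* G') (X : Subgroup G) :
    (puigStep X).map e.toMonoidHom ≤ puigStep (X.map e.toMonoidHom) := by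
  rw [map_le_iff_le_comap]
  refine sSup_le fun A hA => map_le_iff_le_comap.1 (le_step ?_ ?_)
  · haveI := hA.1; infer_instance
  · exact (map_mono hA.2).trans (le_normalizer_map _)

theorem map_step {G : Type u} [Group G] {G' : Type v} [Group G'] (e : G ≃* G') (X : Subgroup G) :
    (puigStep X).map e.toMonoidHom = puigStep (X.map e.toMonoidHom) := by
  refine le_antisymm (map_step_le e X) ?_
  have h := map_mono (f := e.toMonoidHom) (map_step_le e.symm (X.map e.toMonoidHom))
  rw [Subgroup.map_map, Subgroup.map_map] at h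
  have h1 : e.toMonoidHom.comp e.symm.toMonoidHom = MonoidHom.id G' :=
    MonoidHom.ext fun x => e.apply_symm_apply x
  have h2 : e.symm.toMonoidHom.comp e.toMonoidHom = MonoidHom.id G :=
    MonoidHom.ext fun x => e.symm_apply_apply x
  rwa [h1, h2, Subgroup.map_id, Subgroup.map_id] at h

theorem map_seq {G : Type u} [Group G] {G' : Type v} [Group G'] (e : G ≃* G') (n : ℕ) :
    (puigSeq G n).map e.toMonoidHom = puigSeq G' n := by
  induction n with
  | zero => exact Subgroup.map_bot _
  | succ n ih => rw [seq_succ, map_step, ih, seq_succ]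

theorem seq_characteristic (G : Type u) [Group G] (n : ℕ) : (puigSeq G n).Characteristic :=
  characteristic_iff_map_eq.2 fun e => map_seq e n

theorem map_upper {G : Type u} [Group G] [Finite G] {G' : Type v} [Group G'] (e : G ≃* G') :
    (puigSubgroup G).map e.toMonoidHom = puigSubgroup G' := by
  haveI : Finite G' := Finite.of_equiv G e.toEquiv
  obtain ⟨k, hk⟩ := exists_stable (G := G)
  obtain ⟨l, hl⟩ := exists_stable (G := G')
  rw [← (hk _ (le_max_left k l)).2, ← (hl _ (le_max_right k l)).2, map_seq]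

theorem upper_characteristic (G : Type u) [Group G] [Finite G] : (puigSubgroup G).Characteristic :=
  characteristic_iff_map_eq.2 fun e => map_upper e

/-! ### The series inside a subgroup -/

variable {G : Type u} [Group G]

/-- The Puig series of `H` as subgroups of `G`. -/
def rel (H : Subgroup G) (n : ℕ) : Subgroup G := (puigSeq ↥H n).map H.subtype

theorem rel_le (H : Subgroup G) (n : ℕ) : rel H n ≤ H := map_subtype_le _

theorem rel_zero (H : Subgroup G) : rel H 0 = ⊥ := Subgroup.map_bot _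

theorem rel_one (H : Subgroup G) : rel H 1 = H := by
  rw [rel, seq_one, ← MonoidHom.range_eq_map, range_subtype]

theorem le_rel_succ {H A : Subgroup G} {n : ℕ} (hAH : A ≤ H) (hA : IsMulCommutative A)
    (hn : rel H n ≤ normalizer (A : Set G)) : A ≤ rel H (n + 1) := by
  have h1 : A.subgroupOf H ≤ puigSeq ↥H (n + 1) := by
    refine le_step ?_ fun x hx => ?_
    · exact ⟨⟨fun a b => Subtype.ext (Subtype.ext
        (congrArg Subtype.val (hA.is_comm.comm ⟨a.1.1, a.2⟩ ⟨b.1.1, b.2⟩) :))⟩⟩
    · have hx' := hn (mem_map_of_mem H.subtype hx)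
      rw [mem_normalizer_iff]
      intro y
      exact mem_normalizer_iff.1 hx' (y : G)
  have := map_mono (f := H.subtype) h1
  rwa [subgroupOf_map_subtype, inf_eq_left.2 hAH] at this

theorem rel_succ_le {H X : Subgroup G} {n : ℕ}
    (h : ∀ A : Subgroup G, A ≤ H → IsMulCommutative A → rel H n ≤ normalizer (A : Set G) → A ≤ X) :
    rel H (n + 1) ≤ X := by
  rw [rel, map_le_iff_le_comap, seq_succ, puigStep]
  refine sSup_le fun A hA => map_le_iff_le_comap.1 (h _ (map_subtype_le A) ?_ ?_)
  · haveI := hA.1; infer_instance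
  · exact (map_mono hA.2).trans (le_normalizer_map _)

theorem normalizer_le_rel [Finite G] (H : Subgroup G) (n : ℕ) :
    normalizer (H : Set G) ≤ normalizer (rel H n : Set G) := fun y hy =>
  Subgroup.mem_normalizer_fintype fun z hz => by
    obtain ⟨c, hc, rfl⟩ := hz
    exact ⟨H.normalizerMonoidHom ⟨y, hy⟩ c,
      (characteristic_iff_map_eq.1 (seq_characteristic ↥H n) (H.normalizerMonoidHom ⟨y, hy⟩)).le
        ⟨c, hc, rfl⟩, rfl⟩

theorem le_rel_of_normal {H A : Subgroup G} (hAH : A ≤ H) (hA : IsMulCommutative A)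
    (hn : H ≤ normalizer (A : Set G)) (n : ℕ) : A ≤ rel H (n + 1) :=
  le_rel_succ hAH hA ((rel_le H n).trans hn)

/-- The elements of `H` centralizing an odd term lie in it. -/
theorem centralizer_rel_odd (H : Subgroup G) (n : ℕ) :
    H ⊓ centralizer (rel H (2 * n + 1) : Set G) ≤ rel H (2 * n + 1) := by
  intro x hx
  refine le_rel_succ (A := zpowers x) (zpowers_le.2 hx.1) inferInstance ?_ (mem_zpowers x)
  intro y hy
  have hy' : y ∈ rel H (2 * n + 1) := map_mono (f := H.subtype) (even_le_odd_self n) hy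
  refine centralizer_le_normalizer _ (mem_centralizer_iff.2 fun z hz => ?_)
  obtain ⟨i, rfl⟩ := mem_zpowers_iff.1 hz
  exact ((show Commute y x from mem_centralizer_iff.1 hx.2 y hy').zpow_right i).symm.eq

/-- The limits of two series. -/
theorem exists_stable_rel [Finite G] (H : Subgroup G) : ∃ k : ℕ, ∀ n : ℕ, k ≤ n →
    rel H (2 * n) = (puigLower ↥H).map H.subtype ∧
      rel H (2 * n + 1) = (puigSubgroup ↥H).map H.subtype := by
  obtain ⟨k, hk⟩ := exists_stable (G := ↥H)
  exact ⟨k, fun n hn => ⟨by rw [rel, (hk n hn).1], by rw [rel, (hk n hn).2]⟩⟩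

/-- Subgroups above the Puig subgroup have the same Puig subgroup. -/
theorem upper_eq_of_le [Finite G] {R S : Subgroup G} (hRS : R ≤ S)
    (hR : (puigSubgroup ↥S).map S.subtype ≤ R) :
    (puigSubgroup ↥R).map R.subtype = (puigSubgroup ↥S).map S.subtype := by
  obtain ⟨k, hk⟩ := exists_stable_rel S
  obtain ⟨l, hl⟩ := exists_stable_rel R
  set L := (puigSubgroup ↥S).map S.subtype
  -- forwards
  have h1 : ∀ n : ℕ, rel S (2 * n) ≤ rel R (2 * n) ∧ rel R (2 * n + 1) ≤ rel S (2 * n + 1) := by
    intro n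
    induction n with
    | zero =>
      refine ⟨by rw [Nat.mul_zero, rel_zero]; exact bot_le, ?_⟩
      rw [Nat.mul_zero, Nat.zero_add, rel_one, rel_one]; exact hRS
    | succ n ih =>
      have he : rel S (2 * (n + 1)) ≤ rel R (2 * (n + 1)) := by
        refine rel_succ_le fun A hA hAc hAn => le_rel_succ (n := 2 * n + 1) ?_ hAc (ih.2.trans hAn)
        have hA' : A ≤ rel S (2 * (n + 1)) := le_rel_succ hA hAc hAn
        refine hA'.trans (le_trans ?_ hR)
        show rel S (2 * (n + 1)) ≤ L
        rw [← (hk k le_rfl).2]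
        exact map_mono (even_le_odd (n + 1) k)
      exact ⟨he, rel_succ_le fun A hA hAc hAn => le_rel_succ (hA.trans hRS) hAc (he.trans hAn)⟩
  -- backwards
  have h2 : ∀ n : ℕ, rel R (2 * n) ≤ rel S (2 * k) ∧ L ≤ rel R (2 * n + 1) := by
    intro n
    induction n with
    | zero =>
      refine ⟨by rw [Nat.mul_zero, rel_zero]; exact bot_le, ?_⟩
      rw [Nat.mul_zero, Nat.zero_add, rel_one]; exact hR
    | succ n ih =>
      have he : rel R (2 * (n + 1)) ≤ rel S (2 * k) := by
        rw [(hk k le_rfl).1, ← (hk (k + 1) (by omega)).1]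
        refine rel_succ_le fun A hA hAc hAn => le_rel_succ (n := 2 * k + 1) (hA.trans hRS) hAc ?_
        rw [(hk k le_rfl).2]
        exact ih.2.trans hAn
      refine ⟨he, ?_⟩
      show L ≤ rel R (2 * (n + 1) + 1)
      have hL : L = rel S (2 * k + 1) := (hk k le_rfl).2.symm
      rw [hL]
      refine rel_succ_le fun A hA hAc hAn => le_rel_succ ?_ hAc (he.trans hAn)
      exact ((le_rel_succ hA hAc hAn).trans hL.ge).trans hR
  rw [← (hl _ (le_max_right k l)).2]
  exact le_antisymm ((h1 _).2.trans (hk _ (le_max_left k l)).2.le) (h2 _).2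

/-! ### The theorem -/

variable [Finite G] [Group.IsSolvable G] {p : ℕ} [Fact p.Prime]

theorem compare (hodd : Odd (Nat.card G)) (hp : p ≠ 2) (hO : pPrimeCore p G = ⊥) (S : Sylow p G)
    (n : ℕ) : rel (S : Subgroup G) (2 * n) ≤ rel (pCore p G) (2 * n) ∧
      rel (pCore p G) (2 * n + 1) ≤ rel (S : Subgroup G) (2 * n + 1) := by
  have hTS : pCore p G ≤ (S : Subgroup G) := CfsgLib.Solv.pCore_le_sylow S
  induction n with
  | zero =>
    refine ⟨by rw [Nat.mul_zero, rel_zero]; exact bot_le, ?_⟩
    rw [Nat.mul_zero, Nat.zero_add, rel_one, rel_one]; exact hTS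
  | succ n ih =>
    have he : rel (S : Subgroup G) (2 * (n + 1)) ≤ rel (pCore p G) (2 * (n + 1)) := by
      refine rel_succ_le fun A hA hAc hAn => le_rel_succ (n := 2 * n + 1) ?_ hAc (ih.2.trans hAn)
      set P := rel (pCore p G) (2 * n + 1) with hP
      haveI : P.Normal := normalizer_eq_top_iff.1 (top_unique (le_of_eq_of_le
        (normalizer_eq_top_iff.2 (CfsgLib.Solv.pCore_normal G p)).symm (normalizer_le_rel _ _)))
      have hPp : IsPGroup p P := (CfsgLib.Solv.pCore_isPGroup G p).to_le (rel_le _ _)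
      have hq := CfsgLib.OddLocal.PStable.map_quad_le hodd hp P A hPp
        (CfsgLib.OddLocal.PStable.abelian_quad (ih.2.trans hAn) hAc)
      exact (map_le_iff_le_comap.1 hq).trans (CfsgLib.OddLocal.PStable.comap_pCore_le _
        (CfsgLib.OddLocal.PStable.centralizer_isPGroup hO P hPp (centralizer_rel_odd _ n)))
    exact ⟨he, rel_succ_le fun A hA hAc hAn => le_rel_succ (hA.trans hTS) hAc (he.trans hAn)⟩

theorem center_upper (H : Subgroup G) :
    ((center ↥(puigSubgroup ↥H)).map (puigSubgroup ↥H).subtype).map H.subtype =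
      (puigSubgroup ↥H).map H.subtype ⊓ centralizer ((puigSubgroup ↥H).map H.subtype : Set G) := by
  ext x
  constructor
  · rintro ⟨y, ⟨z, hz, rfl⟩, rfl⟩
    refine ⟨⟨z, z.2, rfl⟩, mem_centralizer_iff.2 ?_⟩
    rintro _ ⟨w, hw, rfl⟩
    exact congrArg (fun t : ↥(puigSubgroup ↥H) => ((t : ↥H) : G)) (mem_center_iff.1 hz ⟨w, hw⟩)
  · rintro ⟨⟨y, hy, rfl⟩, hc⟩
    refine ⟨y, ⟨⟨y, hy⟩, mem_center_iff.2 fun w => Subtype.ext (Subtype.ext ?_), rfl⟩, rfl⟩
    exact mem_centralizer_iff.1 hc _ ⟨w, w.2, rfl⟩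

theorem center_upper_normal (hodd : Odd (Nat.card G)) (hp : p ≠ 2) (hO : pPrimeCore p G = ⊥)
    (S : Sylow p G) :
    (((center ↥(puigSubgroup ↥(S : Subgroup G))).map
      (puigSubgroup ↥(S : Subgroup G)).subtype).map (S : Subgroup G).subtype).Normal := by
  haveI := CfsgLib.Solv.pCore_normal G p
  rw [center_upper]
  set T := pCore p G with hT
  have hTS : T ≤ (S : Subgroup G) := CfsgLib.Solv.pCore_le_sylow S
  obtain ⟨k, hk⟩ := exists_stable_rel (S : Subgroup G)
  obtain ⟨l, hl⟩ := exists_stable_rel T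
  set m := max k l with hm
  obtain ⟨hkS₀, hkS⟩ := hk m (le_max_left k l)
  obtain ⟨-, hkT⟩ := hl m (le_max_right k l)
  set L := (puigSubgroup ↥(S : Subgroup G)).map (S : Subgroup G).subtype with hL
  set LT := (puigSubgroup ↥T).map T.subtype with hLT
  have hTL : LT ≤ L := by rw [← hkS, ← hkT]; exact (compare hodd hp hO S m).2
  haveI hLTn : LT.Normal := normalizer_eq_top_iff.1 (top_unique (le_of_eq_of_le
    (normalizer_eq_top_iff.2 (inferInstance : T.Normal)).symm (hkT ▸ normalizer_le_rel _ _)))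
  have hLTp : IsPGroup p LT := (CfsgLib.Solv.pCore_isPGroup G p).to_le (map_subtype_le _)
  have hcT : T ⊓ centralizer (LT : Set G) ≤ LT := by rw [← hkT]; exact centralizer_rel_odd _ m
  haveI : (centralizer (LT : Set G)).Normal := inferInstance
  have hCT : centralizer (LT : Set G) ≤ T :=
    CfsgLib.Solv.le_pCore (CfsgLib.OddLocal.PStable.centralizer_isPGroup hO LT hLTp hcT)
  set V := LT ⊓ centralizer (LT : Set G) with hV
  haveI hVn : V.Normal := inferInstance
  have hVc : IsMulCommutative V :=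
    ⟨⟨fun a b => Subtype.ext (mem_centralizer_iff.1 b.2.2 a a.2.1)⟩⟩
  have hVp : IsPGroup p V := hLTp.to_le inf_le_left
  have hVS : V ≤ (S : Subgroup G) := inf_le_left.trans ((map_subtype_le _).trans hTS)
  have hnV : ∀ X : Subgroup G, X ≤ normalizer (V : Set G) := fun X => by
    rw [normalizer_eq_top]; exact le_top
  have hVlow : V ≤ rel (S : Subgroup G) (2 * (m + 1)) :=
    le_rel_of_normal hVS hVc (hnV _) (2 * m + 1)
  set C := centralizer (V : Set G) with hC
  haveI : C.Normal := inferInstance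
  haveI := CfsgLib.Solv.pCore_normal (G ⧸ C) p
  set D := (pCore p (G ⧸ C)).comap (QuotientGroup.mk' C) with hD
  haveI : D.Normal := inferInstance
  have hLD : L ≤ D := by
    rw [← hkS]
    refine rel_succ_le fun A hA hAc hAn => map_le_iff_le_comap.1 ?_
    refine CfsgLib.OddLocal.PStable.map_quad_le hodd hp V A hVp
      (CfsgLib.OddLocal.PStable.abelian_quad (hVlow.trans ?_) hAc)
    rw [(hk (m + 1) (by omega)).1, ← hkS₀]
    exact hAn
  have hR := CfsgLib.Glau.Syl.inf_normal (N := D) (CfsgLib.Glau.syl_top S)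
    (by rw [normalizer_eq_top])
  rw [top_inf_eq] at hR
  set R := (S : Subgroup G) ⊓ D with hRdef
  have hRL : (puigSubgroup ↥R).map R.subtype = L :=
    upper_eq_of_le inf_le_left (le_inf (map_subtype_le _) hLD)
  have hLn : normalizer (R : Set G) ≤ normalizer (L : Set G) := by
    obtain ⟨j, hj⟩ := exists_stable_rel R
    rw [← hRL, ← (hj j le_rfl).2]
    exact normalizer_le_rel _ _
  set Z := L ⊓ centralizer (L : Set G) with hZ
  have hNZ : normalizer (R : Set G) ≤ normalizer (Z : Set G) := by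
    intro g hg
    refine mem_normalizer_fintype fun x hx => ⟨(mem_normalizer_iff.1 (hLn hg) x).1 hx.1,
      mem_centralizer_iff.2 fun w hw => ?_⟩
    have hw' := (mem_normalizer_iff.1 (inv_mem (hLn hg)) w).1 hw
    have h1 : g⁻¹ * w * g⁻¹⁻¹ * x = x * (g⁻¹ * w * g⁻¹⁻¹) := mem_centralizer_iff.1 hx.2 _ hw'
    have h2 := congrArg (fun t => g * t * g⁻¹) h1
    simpa [mul_assoc] using h2
  have hZV : Z ≤ V := by
    have hZC : Z ≤ centralizer (LT : Set G) := inf_le_right.trans (centralizer_le hTL)
    exact le_inf ((le_inf (hZC.trans hCT) hZC).trans hcT) hZC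
  have hCZ : C ≤ normalizer (Z : Set G) := fun c hc =>
    centralizer_le_normalizer _ (centralizer_le hZV hc)
  -- the Frattini argument
  have htop : normalizer (R : Set G) ⊔ D = ⊤ := by
    have h := Sylow.normalizer_sup_eq_top (hR.toSylow : Sylow p ↥D)
    rwa [hR.coe_toSylow, subgroupOf_map_subtype, inf_eq_left.2 (inf_le_right : R ≤ D)] at h
  have hDle : D ≤ R ⊔ C := by
    have hCD : C ≤ D := fun c hc => by
      rw [hD, mem_comap, QuotientGroup.mk'_apply, (QuotientGroup.eq_one_iff c).2 hc]; exact one_mem _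
    rw [← relIndex_eq_one]
    have h1 : (R ⊔ C).relIndex D ∣ R.relIndex D := relIndex_dvd_of_le_left D le_sup_left
    have h2 : (R ⊔ C).relIndex D ∣ C.relIndex D := relIndex_dvd_of_le_left D le_sup_right
    obtain ⟨a, ha⟩ : ∃ a, C.relIndex D = p ^ a := by
      have hcard : C.relIndex D = Nat.card ↥(pCore p (G ⧸ C)) := by
        rw [relIndex, index_eq_card]
        refine Nat.card_congr (Equiv.ofBijective
          (QuotientGroup.lift _ (((QuotientGroup.mk' C).comp D.subtype).codRestrict (pCore p (G ⧸ C))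
            fun x => x.2) (fun x hx => Subtype.ext ((QuotientGroup.eq_one_iff (x : G)).2 hx))) ⟨?_, ?_⟩)
        · refine (MonoidHom.ker_eq_bot_iff _).1 ((eq_bot_iff_forall _).2 fun q hq => ?_)
          obtain ⟨x, rfl⟩ := QuotientGroup.mk_surjective q
          exact (QuotientGroup.eq_one_iff x).2 ((QuotientGroup.eq_one_iff (x : G)).1 (congrArg Subtype.val hq :))
        · rintro ⟨q, hq⟩
          obtain ⟨x, rfl⟩ := QuotientGroup.mk'_surjective C q
          exact ⟨QuotientGroup.mk ⟨x, hq⟩, rfl⟩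
      rw [hcard]
      exact (CfsgLib.Solv.pCore_isPGroup (G ⧸ C) p).exists_card_eq
    exact Nat.eq_one_of_dvd_coprimes (((Fact.out : p.Prime).coprime_iff_not_dvd.2 hR.idx).pow_left a)
      (ha ▸ h2) h1
  refine normalizer_eq_top_iff.1 (top_unique (htop.ge.trans (sup_le hNZ ?_)))
  exact hDle.trans (sup_le (le_normalizer.trans hNZ) hCZ)

theorem sup_normalizer (hodd : Odd (Nat.card G)) (hp : p ≠ 2) (S : Sylow p G) :
    pPrimeCore p G ⊔ normalizer ((((center ↥(puigSubgroup ↥(S : Subgroup G))).map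
      (puigSubgroup ↥(S : Subgroup G)).subtype).map (S : Subgroup G).subtype : Subgroup G) : Set G) = ⊤ := by
  set K := pPrimeCore p G with hK
  haveI : K.Normal := CfsgLib.Solv.pPrimeCore_normal G p
  set π := QuotientGroup.mk' K
  have hπ : Function.Surjective π := QuotientGroup.mk'_surjective K
  have hodd' : Odd (Nat.card (G ⧸ K)) := hodd.of_dvd_nat (card_quotient_dvd_card K)
  have hn := center_upper_normal hodd' hp (CfsgLib.Solv.pPrimeCore_quotient_self (G := G) (p := p))
    (S.mapSurjective hπ)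
  rw [center_upper] at hn ⊢
  -- the image of the Puig subgroup
  have hcopS : (Nat.card ↥(S : Subgroup G)).Coprime (Nat.card K) := by
    obtain ⟨a, ha⟩ := S.isPGroup'.exists_card_eq
    rw [ha]
    exact ((CfsgLib.Solv.pPrimeCore_coprime G p).symm).pow_left a
  have hinj : ∀ x ∈ (S : Subgroup G), ∀ y ∈ (S : Subgroup G), π x = π y → x = y := by
    intro x hx y hy he
    have : x⁻¹ * y ∈ (S : Subgroup G) ⊓ K :=
      ⟨(S : Subgroup G).mul_mem ((S : Subgroup G).inv_mem hx) hy, QuotientGroup.eq.1 he⟩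
    rw [inf_eq_bot_of_coprime hcopS, mem_bot, inv_mul_eq_one] at this
    exact this
  let e : ↥(S : Subgroup G) ≃* ↥((S : Subgroup G).map π) :=
    MulEquiv.ofBijective (π.subgroupMap (S : Subgroup G))
      ⟨fun a b h => Subtype.ext (hinj _ a.2 _ b.2 (congrArg Subtype.val h)),
        π.subgroupMap_surjective _⟩
  set L := (puigSubgroup ↥(S : Subgroup G)).map (S : Subgroup G).subtype with hL
  have hLmap : (puigSubgroup ↥((S : Subgroup G).map π)).map ((S : Subgroup G).map π).subtype = L.map π := by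
    rw [← map_upper e, hL, Subgroup.map_map, Subgroup.map_map]
    rfl
  rw [Sylow.coe_mapSurjective, hLmap] at hn
  set Z := L ⊓ centralizer (L : Set G) with hZ
  have hZπ : L.map π ⊓ centralizer ((L.map π : Subgroup (G ⧸ K)) : Set (G ⧸ K)) = Z.map π := by
    refine le_antisymm ?_ ?_
    · rintro _ ⟨⟨x, hx, rfl⟩, hc⟩
      refine ⟨x, ⟨hx, mem_centralizer_iff.2 fun w hw => hinj _ (mul_mem (map_subtype_le _ hw)
        (map_subtype_le _ hx)) _ (mul_mem (map_subtype_le _ hx) (map_subtype_le _ hw)) ?_⟩, rfl⟩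
      rw [map_mul, map_mul]
      exact mem_centralizer_iff.1 hc _ (mem_map_of_mem π hw)
    · rintro _ ⟨x, hx, rfl⟩
      refine ⟨mem_map_of_mem π hx.1, mem_centralizer_iff.2 ?_⟩
      rintro _ ⟨w, hw, rfl⟩
      rw [← map_mul, ← map_mul, mem_centralizer_iff.1 hx.2 w hw]
  rw [hZπ] at hn
  -- Frattini
  set M := (Z.map π).comap π with hM
  haveI : M.Normal := hn.comap π
  have hMeq : M = Z ⊔ K := by rw [hM, comap_map_eq, QuotientGroup.ker_mk']
  have hZS : Z ≤ (S : Subgroup G) := inf_le_left.trans (map_subtype_le _)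
  have hZp : IsPGroup p Z := S.isPGroup'.to_le hZS
  have hcard : Nat.card M = Nat.card Z * Nat.card K := by
    rw [hMeq]
    exact CfsgLib.Solv.card_sup_of_coprime (hcopS.coprime_dvd_left (card_dvd_of_le hZS))
  have hZM : Z ≤ M := hMeq ▸ le_sup_left
  have hidx : ¬ p ∣ (Z.subgroupOf M).index := by
    have h := card_mul_index (Z.subgroupOf M)
    rw [Nat.card_congr (subgroupOfEquivOfLe hZM).toEquiv, hcard] at h
    rw [Nat.eq_of_mul_eq_mul_left Nat.card_pos h]
    exact (Fact.out : p.Prime).coprime_iff_not_dvd.1 (CfsgLib.Solv.pPrimeCore_coprime G p).symm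
  have h := Sylow.normalizer_sup_eq_top
    ((hZp.of_equiv (subgroupOfEquivOfLe hZM).symm).toSylow hidx : Sylow p ↥M)
  rw [IsPGroup.toSylow_coe, subgroupOf_map_subtype, inf_eq_left.2 hZM] at h
  refine top_unique (h.ge.trans (sup_le le_sup_right ?_))
  rw [hMeq]
  exact sup_le (le_normalizer.trans le_sup_right) le_sup_left

end CfsgLib.Puig
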