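import Cfsg.Prelude.Def_CaseTheorems
import Cfsg.Agent.Solv.PGroups
import Cfsg.Agent.OddLocal.GLTwoOdd

/-!
Automorphisms of `p`-groups of `p`-rank at most two, `p` odd: there is a homomorphism to
`GL₂(p)` whose kernel contains no nontrivial automorphism of order prime to `p`.
Consequences for solvable groups of odd order of automorphisms.
-/

set_option autoImplicit false
set_option linter.style.haveILetI false
set_option linter.unusedSectionVars false

open scoped commutatorElement

namespace CfsgLib.OddLocal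

variable {p : ℕ} [hp : Fact p.Prime]

section Restrict

variable {R : Type*} [Group R]

/-- Restriction of automorphisms to a characteristic subgroup. -/
noncomputable def restr (H : Subgroup R) [H.Characteristic] : MulAut R →* MulAut H where
  toFun e := (e.subgroupMap H).trans
    (MulEquiv.subgroupCongr (Subgroup.characteristic_iff_map_eq.1 inferInstance e))
  map_one' := by ext x; rfl
  map_mul' e f := by ext x; rfl

@[simp] theorem restr_apply (H : Subgroup R) [H.Characteristic] (e : MulAut R) (x : H) :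
    (restr H e x : R) = e x := rfl

/-- The action of automorphisms on a characteristic quotient. -/
noncomputable def quot (N : Subgroup R) [N.Characteristic] : MulAut R →* MulAut (R ⧸ N) where
  toFun e := QuotientGroup.congr N N e (Subgroup.characteristic_iff_map_eq.1 inferInstance e)
  map_one' := by ext x; induction x using QuotientGroup.induction_on; rfl
  map_mul' e f := by ext x; induction x using QuotientGroup.induction_on; rfl

@[simp] theorem quot_apply (N : Subgroup R) [N.Characteristic] (e : MulAut R) (x : R) :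
    quot N e (x : R ⧸ N) = (e x : R ⧸ N) := rfl

theorem restr_eq_one {H : Subgroup R} [H.Characteristic] {e : MulAut R} :
    restr H e = 1 ↔ ∀ x ∈ H, e x = x := by
  refine ⟨fun h x hx => ?_, fun h => ?_⟩
  · exact congrArg Subtype.val (DFunLike.congr_fun h ⟨x, hx⟩)
  · ext x; exact h x x.2

theorem quot_eq_one {N : Subgroup R} [N.Characteristic] {e : MulAut R} :
    quot N e = 1 ↔ ∀ x, x⁻¹ * e x ∈ N := by
  refine ⟨fun h x => ?_, fun h => ?_⟩
  · exact QuotientGroup.eq.1 (DFunLike.congr_fun h (x : R ⧸ N)).symm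
  · ext x; induction x using QuotientGroup.induction_on with
    | _ x => exact (QuotientGroup.eq.2 (h x)).symm

end Restrict

/-- Automorphisms of an abelian group of exponent `p` and order at most `p ^ 2` embed in `GL₂(p)`. -/
theorem exists_gl_small {M : Type*} [CommGroup M] [Finite M] (hexp : ∀ m : M, m ^ p = 1)
    (hcard : Nat.card M ≤ p ^ 2) :
    ∃ f : MulAut M →* GL (Fin 2) (ZMod p), Function.Injective f := by
  obtain ⟨d, hd⟩ := (IsPGroup.iff_card (p := p)).1 (fun m : M => ⟨1, by rw [pow_one]; exact hexp m⟩)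
  have hd2 : d ≤ 2 := (Nat.pow_le_pow_iff_right hp.out.one_lt).1 (hd ▸ hcard)
  let W := Fin (2 - d) → Multiplicative (ZMod p)
  let pad : MulAut M →* MulAut (M × W) :=
    { toFun := fun e => e.prodCongr (MulEquiv.refl W)
      map_one' := by ext x <;> rfl
      map_mul' := fun e f => by ext x <;> rfl }
  have hpad : Function.Injective pad := fun e f h => by
    ext m; exact congrArg Prod.fst (DFunLike.congr_fun h (m, 1))
  have hW : ∀ w : W, w ^ p = 1 := fun w => funext fun i => by
    show Multiplicative.ofAdd (p • (w i).toAdd) = 1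
    rw [nsmul_eq_mul, ZMod.natCast_self, zero_mul]; rfl
  have hexp' : ∀ x : Additive (M × W), p • x = 0 := fun x =>
    show Additive.ofMul (x.toMul ^ p) = 0 by
      rw [show x.toMul ^ p = 1 from Prod.ext (hexp _) (hW _)]; rfl
  obtain ⟨hmod⟩ : Nonempty (Module (ZMod p) (Additive (M × W))) := ⟨AddCommGroup.zmodModule hexp'⟩
  haveI : Module.Finite (ZMod p) (Additive (M × W)) := Module.Finite.of_finite
  have hfr : Module.finrank (ZMod p) (Additive (M × W)) = 2 := by
    have h : Nat.card (Additive (M × W)) =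
        Nat.card (ZMod p) ^ Module.finrank (ZMod p) (Additive (M × W)) :=
      Module.natCard_eq_pow_finrank
    rw [Nat.card_congr Additive.toMul, Nat.card_prod, hd, Nat.card_fun, Nat.card_zmod] at h
    rw [show Nat.card (Fin (2 - d)) = 2 - d from Nat.card_fin _,
      show Nat.card (Multiplicative (ZMod p)) = p from
        (Nat.card_congr Multiplicative.toAdd).trans (Nat.card_zmod p), ← pow_add,
      Nat.add_sub_cancel' hd2] at h
    exact (Nat.pow_right_injective hp.out.two_le h).symm
  haveI : Module.Free (ZMod p) (Additive (M × W)) := Module.Free.of_divisionRing (ZMod p) _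
  let b := Module.finBasisOfFinrankEq (ZMod p) (Additive (M × W)) hfr
  let lin : MulAut (M × W) → (Additive (M × W) →ₗ[ZMod p] Additive (M × W)) := fun e =>
    (MonoidHom.toAdditive e.toMonoidHom).toZModLinearMap p
  let m : MulAut (M × W) →* Matrix (Fin 2) (Fin 2) (ZMod p) :=
    { toFun := fun e => LinearMap.toMatrix b b (lin e)
      map_one' := by
        rw [show lin 1 = LinearMap.id from LinearMap.ext fun x => rfl, LinearMap.toMatrix_id]
      map_mul' := fun e f => by
        rw [← LinearMap.toMatrix_comp b b b]; rfl }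
  refine ⟨m.toHomUnits.comp pad, fun e f h => hpad ?_⟩
  have h1 : m (pad e) = m (pad f) := congrArg Units.val h
  have h2 : lin (pad e) = lin (pad f) := (LinearMap.toMatrix b b).injective h1
  ext x
  · exact congrArg (fun z => (Additive.toMul z).1) (LinearMap.congr_fun h2 (Additive.ofMul x))
  · rfl

/-- Data on a group of exponent `p`, class at most two and rank at most two. -/
theorem small_center {E : Type*} [Group E] [Finite E] (hexp : ∀ x : E, x ^ p = 1)
    (hcl : ∀ x y : E, ⁅x, y⁆ ∈ Subgroup.center E) (hr : Cfsg.PRankLE p 2 E)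
    (hnc : ¬ ∀ x y : E, x * y = y * x) :
    Nat.card (Subgroup.center E) = p ∧ Nat.card (E ⧸ Subgroup.center E) ≤ p ^ 2 := by
  set Z := Subgroup.center E with hZ
  have hP : IsPGroup p E := fun m => ⟨1, by rw [pow_one]; exact hexp m⟩
  push_neg at hnc
  obtain ⟨x, y₀, hxy⟩ := hnc
  have hxZ : x ∉ Z := fun h => hxy (Subgroup.mem_center_iff.1 h y₀).symm
  haveI : Nontrivial E := ⟨x, 1, fun h => hxZ (h ▸ one_mem _)⟩
  -- the abelian subgroup generated by `x`, a commuting element and the centre
  let W : E → Subgroup E := fun y => Subgroup.closure ({x, y} ∪ (Z : Set E))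
  have hW : ∀ y, x * y = y * x → Nat.card (W y) ≤ p ^ 2 := fun y hy =>
    hr _ (Subgroup.isMulCommutative_closure (by
      rintro a ((rfl | rfl) | ha) b ((rfl | rfl) | hb) <;>
        first
          | rfl
          | exact hy
          | exact hy.symm
          | exact Subgroup.mem_center_iff.1 hb _
          | exact (Subgroup.mem_center_iff.1 ha _).symm)) fun a _ => hexp a
  have hZlt : Z < W x := lt_of_le_of_ne (fun z hz => Subgroup.subset_closure (Or.inr hz))
    fun e => hxZ (e ▸ Subgroup.subset_closure (Or.inl (Or.inl rfl)))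
  obtain ⟨i, hi⟩ := (IsPGroup.iff_card.1 (hP.to_subgroup Z) : _)
  obtain ⟨j, hj⟩ := (IsPGroup.iff_card.1 (hP.to_subgroup (W x)) : _)
  have hij : i < j := by
    by_contra hji
    refine hZlt.ne (Subgroup.eq_of_le_of_card_ge hZlt.le ?_)
    rw [hi, hj]; exact Nat.pow_le_pow_right hp.out.pos (by omega)
  have hj2 : j ≤ 2 := (Nat.pow_le_pow_iff_right hp.out.one_lt).1 (hj ▸ hW x rfl)
  haveI := hP.center_nontrivial
  have hi0 : i ≠ 0 := by
    rintro rfl
    rw [pow_zero] at hi
    exact absurd hi (Finite.one_lt_card).ne'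
  have hi1 : i = 1 := by omega
  subst hi1
  rw [pow_one] at hi
  have hj' : j = 2 := by omega
  subst hj'
  refine ⟨hi, ?_⟩
  let h : E →* Z :=
    { toFun := fun y => ⟨⁅x, y⁆, hcl x y⟩
      map_one' := Subtype.ext (by simp)
      map_mul' := fun y z => Subtype.ext (by
        show ⁅x, y * z⁆ = ⁅x, y⁆ * ⁅x, z⁆
        have hc : y * ⁅x, z⁆ * y⁻¹ = ⁅x, z⁆ := by
          rw [Subgroup.mem_center_iff.1 (hcl x z) y, mul_inv_cancel_right]
        calc ⁅x, y * z⁆ = ⁅x, y⁆ * (y * ⁅x, z⁆ * y⁻¹) := by
              simp only [commutatorElement_def]; group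
          _ = _ := by rw [hc]) }
  have hker : h.ker ≤ W x := fun y hy => by
    have hy' : x * y = y * x :=
      commutatorElement_eq_one_iff_mul_comm.1 (congrArg Subtype.val (MonoidHom.mem_ker.1 hy))
    have hle : W x ≤ W y := Subgroup.closure_mono (by
      rintro a ((rfl | rfl) | ha)
      · exact Or.inl (Or.inl rfl)
      · exact Or.inl (Or.inl rfl)
      · exact Or.inr ha)
    have e : W x = W y := Subgroup.eq_of_le_of_card_ge hle ((hW y hy').trans hj.ge)
    rw [e]; exact Subgroup.subset_closure (Or.inl (Or.inr rfl))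
  have h1 : Nat.card E ≤ p ^ 2 * p := by
    rw [← h.ker.index_mul_card, mul_comm, Subgroup.index_ker]
    exact Nat.mul_le_mul ((Subgroup.card_le_of_le hker).trans hj.le)
      ((Subgroup.card_le_card_group _).trans hi.le)
  rw [Subgroup.card_eq_card_quotient_mul_card_subgroup Z, hi] at h1
  exact Nat.le_of_mul_le_mul_right h1 hp.out.pos

/-- Automorphisms of a group of exponent `p`, class and rank at most two, modulo automorphisms of
`p`-power order, embed in `GL₂(p)`. -/
theorem exists_gl_exp {E : Type*} [Group E] [Finite E] (hexp : ∀ x : E, x ^ p = 1)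
    (hcl : ∀ x y : E, ⁅x, y⁆ ∈ Subgroup.center E) (hr : Cfsg.PRankLE p 2 E) :
    ∃ f : MulAut E →* GL (Fin 2) (ZMod p),
      ∀ a, (orderOf a).Coprime p → f a = 1 → a = 1 := by
  by_cases hc : ∀ x y : E, x * y = y * x
  · letI : CommGroup E := { (inferInstance : Group E) with mul_comm := hc }
    obtain ⟨f, hf⟩ := exists_gl_small (p := p) hexp (by
      have := hr ⊤ ⟨⟨fun a b => Subtype.ext (hc a b)⟩⟩ fun a _ => hexp a
      rwa [Subgroup.card_top] at this)
    exact ⟨f, fun a _ h => hf (h.trans (map_one f).symm)⟩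
  obtain ⟨hZ, hQ⟩ := small_center hexp hcl hr hc
  set Z := Subgroup.center E
  letI : CommGroup (E ⧸ Z) :=
    { (inferInstance : Group (E ⧸ Z)) with
      mul_comm := fun a b => by
        induction a using QuotientGroup.induction_on with
        | _ a => induction b using QuotientGroup.induction_on with
          | _ b =>
            refine commutatorElement_eq_one_iff_mul_comm.1 ?_
            show ⁅QuotientGroup.mk' Z a, QuotientGroup.mk' Z b⁆ = 1
            rw [← map_commutatorElement]
            exact (QuotientGroup.eq_one_iff _).2 (hcl a b) }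
  obtain ⟨f, hf⟩ := exists_gl_small (p := p) (M := E ⧸ Z) (fun m => by
    induction m using QuotientGroup.induction_on with
    | _ m => rw [← QuotientGroup.mk_pow, hexp]; rfl) hQ
  refine ⟨f.comp (quot Z), fun a ha h => ?_⟩
  have h' := quot_eq_one.1 (hf (h.trans (map_one f).symm))
  push_neg at hc
  obtain ⟨x, y, hxy⟩ := hc
  have hz0 : ∀ u v : E, ∀ z ∈ Z, ∀ w ∈ Z, ⁅u * z, v * w⁆ = ⁅u, v⁆ := fun u v z hz w hw => by
    have e1 := Subgroup.mem_center_iff.1 hz
    have e2 := Subgroup.mem_center_iff.1 hw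
    rw [commutatorElement_def, commutatorElement_def, mul_inv_rev, mul_inv_rev]
    calc u * z * (v * w) * (z⁻¹ * u⁻¹) * (w⁻¹ * v⁻¹)
        = u * (z * (v * w)) * z⁻¹ * u⁻¹ * w⁻¹ * v⁻¹ := by group
      _ = u * (v * w) * u⁻¹ * w⁻¹ * v⁻¹ := by rw [← e1 (v * w)]; group
      _ = u * v * (w * u⁻¹) * w⁻¹ * v⁻¹ := by group
      _ = u * v * u⁻¹ * v⁻¹ := by rw [← e2 u⁻¹]; group
  have hfixZ : ∀ z ∈ Z, a z = z := by
    intro z hz
    have hc1 : ⁅x, y⁆ ≠ 1 := fun e => hxy (commutatorElement_eq_one_iff_mul_comm.1 e)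
    have hfix : a ⁅x, y⁆ = ⁅x, y⁆ := by
      rw [map_commutatorElement, show a x = x * (x⁻¹ * a x) by group,
        show a y = y * (y⁻¹ * a y) by group, hz0 x y _ (h' x) _ (h' y)]
    obtain ⟨k, -, rfl⟩ := CfsgLib.Solv.exists_pow_eq_of_mem hZ (hcl x y) hc1 hz
    rw [map_pow, hfix]
  ext u
  have := CfsgLib.Solv.eq_one_of_fixed_shift (fun m => ⟨1, by rw [pow_one]; exact hexp m⟩) ha
    (x := u) (z := u⁻¹ * a u) (by group) (hfixZ _ (h' u))
  exact (inv_mul_eq_one.1 this).symm

/-- For odd `p` and a `p`-group of rank at most two, `Aut` maps to `GL₂(p)` with kernel free of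
`p'`-elements. -/
theorem exists_gl {R : Type*} [Group R] [Finite R] (hp2 : p ≠ 2) (hR : IsPGroup p R)
    (hr : Cfsg.PRankLE p 2 R) :
    ∃ f : MulAut R →* GL (Fin 2) (ZMod p),
      ∀ a, (orderOf a).Coprime p → f a = 1 → a = 1 := by
  obtain ⟨H, hHc, h1, h2, h3⟩ := CfsgLib.Solv.exists_critical (p := p) hR
  haveI := hHc
  haveI : H.Normal := inferInstance
  have hcomm := @CfsgLib.Solv.commute_of_critical R _ H inferInstance h2
  have hcp : ∀ {u v : R}, u ∈ H → v ∈ H → u ^ p = 1 → ⁅u, v⁆ ^ p = 1 := fun {u v} hu hv h => by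
    rw [← CfsgLib.Solv.pow_commutator_left (hcomm hu hv hu), h, commutatorElement_one_left]
  let Q : Subgroup R :=
    { carrier := {x | x ∈ H ∧ x ^ p = 1}
      one_mem' := ⟨one_mem _, one_pow p⟩
      mul_mem' := fun {x y} hx hy => ⟨mul_mem hx.1 hy.1, by
        rw [CfsgLib.Solv.mul_pow_prime hp2 (hcomm hy.1 hx.1 hx.1) (hcomm hy.1 hx.1 hy.1)
          (hcp hy.1 hx.1 hy.2), hx.2, hy.2, one_mul]⟩
      inv_mem' := fun {x} hx => ⟨inv_mem hx.1, by rw [inv_pow, hx.2, inv_one]⟩ }
  haveI : Q.Characteristic := Subgroup.characteristic_iff_map_le.2 fun e => by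
    rintro _ ⟨x, hx, rfl⟩
    exact ⟨CfsgLib.Solv.map_mem_of_characteristic e hx.1,
      show e x ^ p = 1 by rw [← map_pow, hx.2, map_one]⟩
  obtain ⟨f, hf⟩ := exists_gl_exp (p := p) (E := Q) (fun x => Subtype.ext x.2.2)
    (fun x y => Subgroup.mem_center_iff.2 fun w => Subtype.ext
      (hcomm x.2.1 y.2.1 w.2.1).eq.symm)
    (fun A hA hAp => by
      have hc : IsMulCommutative (A.map Q.subtype) := ⟨⟨by
        rintro ⟨_, a, ha, rfl⟩ ⟨_, b, hb, rfl⟩
        exact Subtype.ext (congrArg (fun z : A => ((z : Q) : R))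
          (hA.is_comm.comm ⟨a, ha⟩ ⟨b, hb⟩))⟩⟩
      have := hr (A.map Q.subtype) hc (by
        rintro _ ⟨a, ha, rfl⟩
        rw [← map_pow, hAp a ha, map_one])
      rwa [Subgroup.card_map_of_injective Q.subtype_injective] at this)
  refine ⟨f.comp (restr Q), fun a ha h => ?_⟩
  have hQ := restr_eq_one.1 (hf _ (ha.coprime_dvd_left (orderOf_map_dvd _ a)) h)
  have hH : restr H a = 1 := CfsgLib.Solv.aut_eq_one_of_fix_omega hp2 (hR.to_subgroup H)
    (ha.coprime_dvd_left (orderOf_map_dvd _ a))
    fun x hx => Subtype.ext (hQ x ⟨x.2, by rw [← Subgroup.coe_pow, hx]; rfl⟩)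
  exact CfsgLib.Solv.aut_eq_one_of_fix hR h3 ha (restr_eq_one.1 hH)

/-- A homomorphism `f` whose kernel has no nontrivial `p'`-element detects `p`-elements. -/
theorem exists_pow_eq_one_of_gl {G H : Type*} [Group G] [Finite G] [Group H] (f : G →* H)
    (hf : ∀ a, (orderOf a).Coprime p → f a = 1 → a = 1) {a : G} {k : ℕ} (h : f a ^ p ^ k = 1) :
    ∃ n, a ^ p ^ n = 1 := by
  obtain ⟨n, m, hm, e⟩ := Nat.exists_eq_pow_mul_and_not_dvd (orderOf_pos a).ne' p hp.out.ne_one
  refine ⟨n + k, hf _ ?_ ?_⟩
  · refine ((hp.out.coprime_iff_not_dvd.2 hm).symm).coprime_dvd_left (orderOf_dvd_of_pow_eq_one ?_)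
    rw [← pow_mul, pow_add, mul_right_comm, ← e, pow_mul, pow_orderOf_eq_one, one_pow]
  · rw [map_pow, pow_add, mul_comm, pow_mul, h, one_pow]

section Odd

variable {A R : Type*} [Group A] [Finite A] [Group R] [Finite R]

/-- Commutators of a solvable group of odd order act on a rank two `p`-group as `p`-elements. -/
theorem commutator_ppow (hp2 : p ≠ 2) (hR : IsPGroup p R) (hr : Cfsg.PRankLE p 2 R)
    (hodd : Odd (Nat.card A)) (hsolv : Group.IsSolvable A) (φ : A →* MulAut R) {a : A}
    (ha : a ∈ commutator A) : ∃ n, φ a ^ p ^ n = 1 := by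
  obtain ⟨f, hf⟩ := exists_gl hp2 hR hr
  haveI : CharP (AlgebraicClosure (ZMod p)) p := charP_of_injective_algebraMap
    (algebraMap (ZMod p) (AlgebraicClosure (ZMod p))).injective p
  let g := Matrix.GeneralLinearGroup.map (n := Fin 2)
    (algebraMap (ZMod p) (AlgebraicClosure (ZMod p)))
  have h := GLTwo.commutator_pow_eq_one p hsolv hodd (g.comp (f.comp φ)) ha
  have hg : Function.Injective g := by
    intro x y hxy
    ext i j
    refine (algebraMap (ZMod p) (AlgebraicClosure (ZMod p))).injective ?_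
    exact congrArg (fun M : GL (Fin 2) (AlgebraicClosure (ZMod p)) =>
      (M : Matrix (Fin 2) (Fin 2) (AlgebraicClosure (ZMod p))) i j) hxy
  have h' : f (φ a) ^ p = 1 := hg (by rw [map_pow, map_one]; exact h)
  exact exists_pow_eq_one_of_gl f hf (k := 1) (by rw [pow_one]; exact h')

/-- A `p'`-element of prime order acting nontrivially on a rank two `p`-group, in odd order. -/
theorem prime_lt_of_ne_one (hp2 : p ≠ 2) (hR : IsPGroup p R) (hr : Cfsg.PRankLE p 2 R)
    {q : ℕ} (hq : q.Prime) (hq2 : q ≠ 2) (hqp : q ≠ p) {u : MulAut R} (hu : orderOf u = q) :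
    q < p ∧ p ≠ 3 := by
  obtain ⟨f, hf⟩ := exists_gl hp2 hR hr
  have hne : f u ≠ 1 := fun h => by
    have := hf u (hu ▸ (Nat.coprime_primes hq hp.out).2 hqp) h
    rw [this, orderOf_one] at hu
    exact hq.ne_one hu.symm
  have ho : orderOf (f u) = q :=
    ((Nat.dvd_prime hq).1 (hu ▸ orderOf_map_dvd f u)).resolve_left
      fun h => hne (orderOf_eq_one_iff.1 h)
  have hd : q ∣ (p - 1) * (p + 1) * ((p - 1) * p) := by
    have h1 := ho ▸ orderOf_dvd_natCard (f u)
    rw [Matrix.card_GL_field, Fin.prod_univ_two, Fintype.card_eq_nat_card, Nat.card_zmod] at h1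
    have e1 : p ^ 2 - p ^ (0 : Fin 2).val = (p - 1) * (p + 1) := by
      rw [Fin.val_zero, pow_zero, mul_comm, ← Nat.sq_sub_sq, one_pow]
    have e2 : p ^ 2 - p ^ (1 : Fin 2).val = (p - 1) * p := by
      rw [Fin.val_one, pow_one, Nat.sub_mul, one_mul, sq]
    rwa [e1, e2] at h1
  have hp3 : 3 ≤ p := by have := hp.out.two_le; omega
  have hq3 : 3 ≤ q := by have := hq.two_le; omega
  obtain ⟨k, rfl⟩ : ∃ k, p = 2 * k + 1 := hp.out.odd_of_ne_two hp2
  have hq' : q.Coprime 2 := (Nat.coprime_primes hq Nat.prime_two).2 hq2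
  have key : q ∣ k ∨ q ∣ k + 1 := by
    rcases (Nat.Prime.dvd_mul hq).1 hd with h | h
    · rcases (Nat.Prime.dvd_mul hq).1 h with h | h
      · exact Or.inl (hq'.dvd_of_dvd_mul_left (by simpa using h))
      · exact Or.inr (hq'.dvd_of_dvd_mul_left (by rwa [show 2 * (k + 1) = 2 * k + 1 + 1 by ring]))
    · rcases (Nat.Prime.dvd_mul hq).1 h with h | h
      · exact Or.inl (hq'.dvd_of_dvd_mul_left (by simpa using h))
      · exact absurd ((Nat.prime_dvd_prime_iff_eq hq hp.out).1 h) hqp
  rcases key with h | h <;> have := Nat.le_of_dvd (by omega) h <;>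
    exact ⟨by omega, fun hk => by omega⟩

end Odd

end CfsgLib.OddLocal
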