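import Cfsg.Prelude.Def_CaseTheorems
import Cfsg.Agent.Solv.PGroups
import Cfsg.Agent.Solv.RankTwoNormal
import Cfsg.Agent.Solv.NormalSquare
import Cfsg.Agent.S1894

/-!
For odd `p`: a maximal normal elementary abelian subgroup `E` of a `p`-group contains every
element of order `p` centralising it; hence groups of rank at least three have a self-centralising
normal subgroup of rank at least three.
-/

set_option autoImplicit false
set_option linter.style.haveILetI false
set_option linter.unusedSectionVars false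

open Cfsg CfsgLib.Solv
open scoped commutatorElement

namespace CfsgLib.OddLocal.SCN3

variable {R : Type*} [Group R] [Finite R] {p : ℕ} [hp : Fact p.Prime]

/-- Commutators of `Y` with an element of order `p` lie in `E`, if `E` holds the order `p`
elements of `Y`. -/
theorem commutator_mem (hp2 : p ≠ 2) (hR : IsPGroup p R) {E Y : Subgroup R} [Y.Normal]
    (hE : ∀ e ∈ E, e ^ p = 1) (hYE : ∀ y ∈ Y, ∀ e ∈ E, e * y = y * e)
    (hY : ∀ y ∈ Y, y ^ p = 1 → y ∈ E) {x : R} (hx : x ^ p = 1)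
    (hxE : ∀ e ∈ E, e * x = x * e) {c : R} (hc : c ∈ Y) : ⁅c, x⁆ ∈ E := by
  haveI := hR.isNilpotent
  suffices h : ∀ m, ∀ c ∈ Y, c ∈ Subgroup.upperCentralSeries R m → ⁅c, x⁆ ∈ E by
    obtain ⟨m, hm⟩ := Group.IsNilpotent.nilpotent' (G := R)
    exact h m c hc (hm ▸ Subgroup.mem_top c)
  intro m
  induction m with
  | zero =>
    intro c _ hc0
    rw [Subgroup.upperCentralSeries_zero, Subgroup.mem_bot] at hc0
    rw [hc0, commutatorElement_one_left]
    exact one_mem E
  | succ m ih =>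
    intro c hc hcm
    set d := ⁅c, x⁆ with hd
    have hdY : d ∈ Y := by
      rw [hd, show ⁅c, x⁆ = c * (x * c⁻¹ * x⁻¹) by simp [commutatorElement_def, mul_assoc]]
      exact mul_mem hc ((inferInstance : Y.Normal).conj_mem _ (inv_mem hc) x)
    have hdm : d ∈ Subgroup.upperCentralSeries R m := by
      rw [hd, commutatorElement_def]
      exact (Subgroup.mem_upperCentralSeries_succ_iff.1 hcm) x
    have he : ⁅x, d⁆ ∈ E := by
      rw [← commutatorElement_inv]; exact inv_mem (ih d hdY hdm)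
    refine hY d hdY ?_
    have h1 : (d * x) ^ p = 1 := by
      rw [show d * x = c * x * c⁻¹ by simp [hd, commutatorElement_def, mul_assoc], conj_pow, hx]
      simp
    rw [mul_pow_prime hp2 (hYE d hdY _ he) (hxE _ he) (hE _ he), hx, mul_one] at h1
    exact h1

theorem mem_sup_elementary {E : Subgroup R} (hE : IsElementaryAbelian p E) {x : R} (hx : x ^ p = 1)
    (hxE : ∀ e ∈ E, e * x = x * e) : IsElementaryAbelian p (E ⊔ Subgroup.zpowers x : Subgroup R) := by
  rw [show E ⊔ Subgroup.zpowers x = Subgroup.closure ((E : Set R) ∪ {x}) by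
    rw [Subgroup.closure_union, Subgroup.closure_eq, Subgroup.zpowers_eq_closure]]
  haveI hcomm : IsMulCommutative (Subgroup.closure ((E : Set R) ∪ {x})) :=
    Subgroup.isMulCommutative_closure (by
    rintro a (ha | rfl) b (hb | rfl)
    · exact congrArg Subtype.val (hE.1.is_comm.comm ⟨a, ha⟩ ⟨b, hb⟩)
    · exact hxE a ha
    · exact (hxE b hb).symm
    · rfl)
  refine ⟨hcomm, fun a ha => ?_⟩
  induction ha using Subgroup.closure_induction with
  | mem y hy =>
    rcases hy with hy | rfl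
    · exact hE.2 y hy
    · exact hx
  | one => exact one_pow p
  | mul y z hy hz ihy ihz =>
    have hc : Commute y z := congrArg Subtype.val (hcomm.is_comm.comm ⟨y, hy⟩ ⟨z, hz⟩)
    rw [hc.mul_pow, ihy, ihz, one_mul]
  | inv y _ ih => rw [inv_pow, ih, inv_one]

/-- A maximal normal elementary abelian subgroup contains the centralising elements of order `p`. -/
theorem omega_le (hp2 : p ≠ 2) (hR : IsPGroup p R) {E : Subgroup R} [E.Normal]
    (hE : IsElementaryAbelian p E)
    (hmax : ∀ E' : Subgroup R, E'.Normal → IsElementaryAbelian p E' → E ≤ E' → E' = E)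
    {x₀ : R} (hx₀C : x₀ ∈ Subgroup.centralizer (E : Set R)) (hx₀ : x₀ ^ p = 1) : x₀ ∈ E := by
  by_contra hx₀E
  set C := Subgroup.centralizer (E : Set R)
  haveI : C.Normal := inferInstance
  have hEC : E ≤ C := fun e he => Subgroup.mem_centralizer_iff.2 fun f hf =>
    congrArg Subtype.val (hE.1.is_comm.comm ⟨f, hf⟩ ⟨e, he⟩)
  obtain ⟨Y, -, hYmin⟩ := Finite.exists_le_minimal
    (p := fun Y : Subgroup R => Y.Normal ∧ E ≤ Y ∧ Y ≤ C ∧ ∃ x ∈ Y, x ^ p = 1 ∧ x ∉ E) (a := C)
    ⟨inferInstance, hEC, le_rfl, x₀, hx₀C, hx₀, hx₀E⟩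
  obtain ⟨hYn, hEY, hYC, x, hxY, hx, hxE⟩ := hYmin.1
  haveI := hYn
  set Y₀ := ⁅Y, (⊤ : Subgroup R)⁆ ⊔ E with hY₀
  have hY₀Y : Y₀ ≤ Y := sup_le (Subgroup.commutator_le_left Y ⊤) hEY
  haveI : Y₀.Normal := by rw [hY₀]; infer_instance
  have hne : ¬ Y ≤ Y₀ := by
    intro hle
    haveI := hR.isNilpotent
    obtain ⟨m, hm⟩ := (Subgroup.nilpotent_iff_lowerCentralSeries (G := R)).1 inferInstance
    suffices h : ∀ m, Y ≤ (⊤ : Subgroup R).lowerCentralSeries m ⊔ E by
      exact hxE ((show Y ≤ E from (h m).trans (by rw [hm, bot_sup_eq])) hxY)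
    intro m
    induction m with
    | zero => rw [Subgroup.lowerCentralSeries_zero]; simp
    | succ m ih =>
      refine hle.trans (sup_le ?_ le_sup_right)
      rw [Subgroup.commutator_le]
      intro a ha r _
      have ha' := ih ha
      rw [← SetLike.mem_coe, Subgroup.normal_mul] at ha'
      obtain ⟨l, hl, e, he, rfl⟩ := ha'
      haveI : ((⊤ : Subgroup R).lowerCentralSeries (m + 1) ⊔ E).Normal := inferInstance
      rw [show ⁅l * e, r⁆ = l * ⁅e, r⁆ * l⁻¹ * ⁅l, r⁆ by simp [commutatorElement_def, mul_assoc]]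
      refine mul_mem ((inferInstance : ((⊤ : Subgroup R).lowerCentralSeries (m + 1) ⊔ E).Normal).conj_mem _
        (Subgroup.mem_sup_right ?_) l) (Subgroup.mem_sup_left ?_)
      · rw [show ⁅e, r⁆ = e * (r * e⁻¹ * r⁻¹) by simp [commutatorElement_def, mul_assoc]]
        exact mul_mem he ((inferInstance : E.Normal).conj_mem _ (inv_mem he) r)
      · rw [Subgroup.lowerCentralSeries_succ]
        exact Subgroup.commutator_mem_commutator hl (Subgroup.mem_top r)
  have hY0p : ∀ y ∈ Y₀, y ^ p = 1 → y ∈ E := fun y hy hyp => by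
    by_contra hyE
    exact hne (hYmin.2 ⟨inferInstance, le_sup_right, hY₀Y.trans hYC, y, hy, hyp, hyE⟩ hY₀Y)
  have hYE : ∀ y ∈ Y, ∀ e ∈ E, e * y = y * e := fun y hy e he =>
    Subgroup.mem_centralizer_iff.1 (hYC hy) e he
  -- conjugates of `x` are congruent to `x` modulo `E`
  have hconj : ∀ g, x⁻¹ * (g * x * g⁻¹) ∈ E := by
    intro g
    set c := x⁻¹ * (g * x * g⁻¹) with hc
    have hcY : c ∈ Y₀ := Subgroup.mem_sup_left (by
      rw [hc, show x⁻¹ * (g * x * g⁻¹) = ⁅x⁻¹, g⁆ by simp [commutatorElement_def, mul_assoc]]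
      exact Subgroup.commutator_mem_commutator (inv_mem hxY) (Subgroup.mem_top g))
    have he : ⁅c, x⁆ ∈ E :=
      commutator_mem hp2 hR hE.2 (fun y hy => hYE y (hY₀Y hy)) hY0p hx (hYE x hxY) hcY
    refine hY0p c hcY ?_
    have h1 : (x * c) ^ p = 1 := by
      rw [show x * c = g * x * g⁻¹ by simp [hc], conj_pow, hx]; simp
    rw [mul_pow_prime hp2 (hYE x hxY _ he) (hYE c (hY₀Y hcY) _ he) (hE.2 _ he), hx, one_mul] at h1
    exact h1
  have hn : (E ⊔ Subgroup.zpowers x).Normal := by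
    refine ⟨fun n hn g => ?_⟩
    have h1 : (E ⊔ Subgroup.zpowers x).map (MulAut.conj g).toMonoidHom ≤ E ⊔ Subgroup.zpowers x := by
      rw [Subgroup.map_sup, MonoidHom.map_zpowers, sup_le_iff, Subgroup.zpowers_le]
      refine ⟨?_, ?_⟩
      · rintro _ ⟨e, he, rfl⟩
        exact Subgroup.mem_sup_left ((inferInstance : E.Normal).conj_mem e he g)
      · show g * x * g⁻¹ ∈ E ⊔ Subgroup.zpowers x
        rw [show g * x * g⁻¹ = x * (x⁻¹ * (g * x * g⁻¹)) by group]
        exact mul_mem (Subgroup.mem_sup_right (Subgroup.mem_zpowers x)) (Subgroup.mem_sup_left (hconj g))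
    exact h1 ⟨n, hn, rfl⟩
  exact hxE ((hmax _ hn (mem_sup_elementary hE hx (hYE x hxY)) le_sup_left).le
    (Subgroup.mem_sup_right (Subgroup.mem_zpowers x)))

/-- In rank at least three a normal elementary `E` of order `p ^ 2` lies in a self-centralising normal
subgroup of rank at least three. -/
theorem exists_scn3_ge (hp2 : p ≠ 2) (hR : IsPGroup p R) (hr : ¬ PRankLE p 2 R) (E : Subgroup R)
    [E.Normal] (hE : IsElementaryAbelian p E) (hE2 : Nat.card E = p ^ 2) :
    ∃ A : Subgroup R, E ≤ A ∧ A.Normal ∧ IsMulCommutative A ∧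
      Subgroup.centralizer (A : Set R) = A ∧ ¬ PRankLE p 2 A := by
  obtain ⟨E', hEE', hE'⟩ := Finite.exists_le_maximal
    (p := fun F : Subgroup R => F.Normal ∧ IsElementaryAbelian p F) (a := E) ⟨inferInstance, hE⟩
  obtain ⟨hE'n, hE'e⟩ := hE'.1
  haveI := hE'n
  have hbig : p ^ 2 < Nat.card E' := by
    by_contra hle
    push Not at hle
    have e : E = E' := Subgroup.eq_of_le_of_card_ge hEE' (hE2.symm ▸ hle)
    subst e
    simp only [PRankLE, not_forall, not_le] at hr
    obtain ⟨F, hF, hFp, hFc⟩ := hr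
    have homega : ∀ f ∈ F, f ∈ Subgroup.centralizer (E : Set R) → f ∈ E := fun f hf hfc =>
      omega_le hp2 hR hE (fun E'' h1 h2 h3 => le_antisymm (hE'.2 ⟨h1, h2⟩ h3) h3) hfc (hFp f hf)
    have hF₀ : F ⊓ Subgroup.centralizer (E : Set R) ≤ E := fun f hf => homega f hf.1 hf.2
    have hidx := index_centralizer_normal_sq hR E hE2
    have hcard : Nat.card F ≤ p * Nat.card (F ⊓ Subgroup.centralizer (E : Set R) : Subgroup R) := by
      rw [← card_subgroupOf (inf_le_left : F ⊓ Subgroup.centralizer (E : Set R) ≤ F),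
        Subgroup.inf_subgroupOf_left,
        ← Subgroup.index_mul_card ((Subgroup.centralizer (E : Set R)).subgroupOf F)]
      refine Nat.mul_le_mul_right _ (Nat.le_of_dvd hp.out.pos ?_)
      exact (Subgroup.relIndex_dvd_index_of_normal _ F).trans hidx
    obtain ⟨j, hj⟩ := IsPGroup.iff_card.1 (hR.to_subgroup F)
    rw [hj] at hFc hcard
    have h3 : 3 ≤ j := (Nat.pow_lt_pow_iff_right hp.out.one_lt).1 hFc
    have hEF : E ≤ F := by
      have h4 : Nat.card E ≤ Nat.card (F ⊓ Subgroup.centralizer (E : Set R) : Subgroup R) := by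
        rw [hE2]
        refine Nat.le_of_mul_le_mul_left ?_ hp.out.pos
        rw [← pow_succ']
        exact (Nat.pow_le_pow_right hp.out.pos h3).trans hcard
      exact (Subgroup.eq_of_le_of_card_ge hF₀ h4).ge.trans inf_le_left
    have hFE : F ≤ E := fun f hf => homega f hf (Subgroup.mem_centralizer_iff.2 fun e he =>
      congrArg Subtype.val (hF.is_comm.comm ⟨e, hEF he⟩ ⟨f, hf⟩))
    have := Subgroup.card_le_of_le hFE
    rw [hj, hE2] at this
    exact absurd this (not_le.2 hFc)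
  obtain ⟨A, hAn, hE'A, -, -, hA⟩ := Cfsg.Agent.S1894.result hR ⊤ E' le_top hE'e.1
  rw [top_inf_eq] at hA
  have hAc : IsMulCommutative A := ⟨⟨fun a b => Subtype.ext
    (Subgroup.mem_centralizer_iff.1 (hA.ge b.2) a a.2)⟩⟩
  refine ⟨A, hEE'.trans hE'A, hAn, hAc, hA, fun h => ?_⟩
  have := h (E'.subgroupOf A) ⟨⟨fun a b => Subtype.ext (Subtype.ext (congrArg (fun w : E' => (w : R))
    (hE'e.1.is_comm.comm ⟨((a : A) : R), Subgroup.mem_subgroupOf.1 a.2⟩
      ⟨((b : A) : R), Subgroup.mem_subgroupOf.1 b.2⟩)))⟩⟩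
    (fun a ha => Subtype.ext (hE'e.2 _ (Subgroup.mem_subgroupOf.1 ha)))
  rw [card_subgroupOf hE'A] at this
  omega

/-- `SCN₃` is nonempty in rank at least three. -/
theorem exists_scn3 (hp2 : p ≠ 2) (hR : IsPGroup p R) (hr : ¬ PRankLE p 2 R) :
    ∃ A : Subgroup R, A.Normal ∧ IsMulCommutative A ∧
      Subgroup.centralizer (A : Set R) = A ∧ ¬ PRankLE p 2 A := by
  have hnc : ¬ IsCyclic (⊤ : Subgroup R) := by
    intro h
    refine hr fun A _ hAp => ?_
    haveI : IsCyclic R := Subgroup.topEquiv.isCyclic.1 h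
    haveI : IsCyclic A := Subgroup.isCyclic A
    rw [← IsCyclic.exponent_eq_card]
    exact (Nat.le_of_dvd hp.out.pos (Monoid.exponent_dvd_of_forall_pow_eq_one fun x =>
      Subtype.ext (hAp x x.2))).trans (Nat.le_self_pow two_ne_zero p)
  obtain ⟨E, -, hEn, hE, hE2⟩ := exists_normal_rank_two_le hp2 hR ⊤ hnc
  haveI := hEn
  obtain ⟨A, -, h⟩ := exists_scn3_ge hp2 hR hr E hE hE2
  exact ⟨A, h⟩

end CfsgLib.OddLocal.SCN3
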