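import Cfsg.Agent.OddLocal.PLenMax
import Mathlib

/-!
Bender–Glauberman 10.7: in a minimal simple group of odd order the normalizer of a Sylow subgroup
controls fusion in it.
-/

set_option autoImplicit false
set_option linter.style.haveILetI false
set_option linter.unusedSectionVars false

open Cfsg CfsgLib.Solv
open scoped commutatorElement Pointwise

namespace CfsgLib.OddLocal.SylowControl

variable {G : Type*} [Group G] [Finite G] {p : ℕ} [hp : Fact p.Prime]

/-- A proper subgroup is `O_{p'}` times the normalizer of a Sylow subgroup. -/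
theorem factor (hG : IsMinSimpleOddOrder G) {H : Subgroup G} (hH : H ≠ ⊤) (S : Sylow p H) :
    ∃ K : Subgroup G, K ≤ H ∧ H ≤ Subgroup.normalizer (K : Set G) ∧ (Nat.card K).Coprime p ∧
      H ≤ K ⊔ (Subgroup.normalizer (((S : Subgroup H).map H.subtype : Subgroup G) : Set G) ⊓ H) := by
  obtain ⟨M, hM, hHM⟩ := (eq_top_or_exists_le_coatom H).resolve_left hH
  obtain ⟨N, B, hN, hB, hNB, -, hc, ⟨m, hm⟩, hrel⟩ := PLenMax.good_comap (Subgroup.inclusion hHM)
    (Subgroup.inclusion_injective hHM) (PLenMax.good_maximal hG hM p)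
  haveI := hN
  haveI := hB
  rw [Subgroup.relIndex_top_right] at hrel
  have hSB : (S : Subgroup H) ≤ B := by
    intro s hs
    have h1 : IsPGroup p ((S : Subgroup H).map (QuotientGroup.mk' B)) := S.2.map _
    obtain ⟨k, hk⟩ := IsPGroup.iff_card.1 h1
    have h2 : Nat.card ((S : Subgroup H).map (QuotientGroup.mk' B)) ∣ B.index :=
      B.index_eq_card ▸ Subgroup.card_subgroup_dvd_card _
    rcases Nat.eq_zero_or_pos k with rfl | hk0
    · have h3 : QuotientGroup.mk' B s ∈ (S : Subgroup H).map (QuotientGroup.mk' B) := ⟨s, hs, rfl⟩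
      rw [Subgroup.card_eq_one.1 (show Nat.card ((S : Subgroup H).map (QuotientGroup.mk' B)) = 1 by rw [hk, pow_zero]), Subgroup.mem_bot] at h3
      exact (QuotientGroup.eq_one_iff s).1 h3
    · exact absurd ((hk ▸ dvd_pow_self p hk0.ne').trans h2) hrel
  have hBS : B ≤ N ⊔ (S : Subgroup H) := by
    set f := QuotientGroup.mk' N
    have h1 : ((S : Subgroup H).map f) = B.map f := by
      refine Subgroup.eq_of_le_of_card_ge (Subgroup.map_mono hSB) ?_
      have hBc : Nat.card (B.map f) = p ^ m := by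
        rw [← Subgroup.relIndex_ker, QuotientGroup.ker_mk', hm]
      have hidx : ¬ p ∣ ((S : Subgroup H).map f).index :=
        fun h => S.not_dvd_index (h.trans (Subgroup.index_map_dvd _ (QuotientGroup.mk'_surjective N)))
      have hmul := ((S : Subgroup H).map f).card_mul_index
      obtain ⟨k, hk⟩ := IsPGroup.iff_card.1 (S.2.map f)
      have hdvd : p ^ m ∣ p ^ k * ((S : Subgroup H).map f).index := by
        rw [← hk, hmul, ← hBc]; exact Subgroup.card_subgroup_dvd_card _
      rw [hBc, hk]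
      exact Nat.le_of_dvd (pow_pos hp.out.pos k)
        (((hp.out.coprime_iff_not_dvd.2 hidx).pow_left m).dvd_of_dvd_mul_right hdvd)
    intro b hb
    have : f b ∈ (S : Subgroup H).map f := h1.symm ▸ ⟨b, hb, rfl⟩
    obtain ⟨s, hs, hsb⟩ := this
    have hd : b * s⁻¹ ∈ N := by
      rw [← QuotientGroup.eq_one_iff]
      show f (b * s⁻¹) = 1
      rw [map_mul, map_inv, hsb, mul_inv_cancel]
    have := Subgroup.mul_mem_sup hd hs
    simpa using this
  have hfr := Sylow.normalizer_sup_eq_top' S hSB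
  have htop : N ⊔ Subgroup.normalizer ((S : Subgroup H) : Set H) = ⊤ := by
    refine top_le_iff.1 (hfr.ge.trans (sup_le le_sup_right (hBS.trans (sup_le le_sup_left ?_))))
    exact Subgroup.le_normalizer.trans le_sup_right
  refine ⟨N.map H.subtype, Subgroup.map_subtype_le _, ?_, by rwa [card_map_subtype], ?_⟩
  · exact (Subgroup.le_normalizer_map H.subtype).trans' (by
      rw [Subgroup.normalizer_eq_top, ← MonoidHom.range_eq_map, Subgroup.range_subtype])
  · intro h hh
    have h1 : (⟨h, hh⟩ : H) ∈ N ⊔ Subgroup.normalizer ((S : Subgroup H) : Set H) := by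
      rw [htop]; trivial
    have h2 : h ∈ (N ⊔ Subgroup.normalizer ((S : Subgroup H) : Set H)).map H.subtype := ⟨_, h1, rfl⟩
    rw [Subgroup.map_sup] at h2
    exact sup_le_sup le_rfl (le_inf (Subgroup.le_normalizer_map H.subtype) (Subgroup.map_subtype_le _)) h2

theorem normalizer_ne_top (hG : IsMinSimpleOddOrder G) {E : Subgroup G} (hE : E ≠ ⊥) (hEt : E ≠ ⊤) :
    Subgroup.normalizer (E : Set G) ≠ ⊤ := by
  intro h
  haveI := hG.2.1
  haveI : E.Normal := Subgroup.normalizer_eq_top_iff.1 h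
  exact (IsSimpleGroup.eq_bot_or_eq_top_of_normal E inferInstance).elim hE hEt

theorem pGroup_ne_top (hG : IsMinSimpleOddOrder G) {E : Subgroup G} (hE : IsPGroup p E) : E ≠ ⊤ := by
  rintro rfl
  haveI := hG.2.1
  have hp' : IsPGroup p G := hE.of_equiv Subgroup.topEquiv
  haveI := hp'.isNilpotent
  exact hG.2.2.1 ⟨⟨IsSimpleGroup.comm_iff_isSolvable.2 inferInstance⟩⟩

/-- Fusion in a Sylow subgroup is elementwise controlled by its normalizer. -/
theorem control (hG : IsMinSimpleOddOrder G) (P : Sylow p G) :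
    ∀ (n : ℕ) (D : Subgroup G) (x : G), D ≤ P → Nat.card (P : Subgroup G) - Nat.card D ≤ n →
      (∀ d ∈ D, x * d * x⁻¹ ∈ (P : Subgroup G)) →
      ∃ y ∈ Subgroup.normalizer ((P : Subgroup G) : Set G), ∀ d ∈ D, x * d * x⁻¹ = y * d * y⁻¹ := by
  intro n
  induction n with
  | zero =>
    intro D x hD hn hx
    have hDP : D = P := Subgroup.eq_of_le_of_card_ge hD (by omega)
    subst hDP
    refine ⟨x, mem_normalizer_of_conj_smul_eq (Subgroup.eq_of_le_of_card_ge ?_
      (by rw [card_conj_smul])), fun _ _ => rfl⟩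
    intro a ha
    have := hx _ (mem_conj_smul_iff.1 ha)
    simpa [mul_assoc] using this
  | succ n ih =>
    intro D x hD hn hx
    by_cases hle : Nat.card (P : Subgroup G) - Nat.card D ≤ n
    · exact ih D x hD hle hx
    by_cases hD1 : D = ⊥
    · exact ⟨1, one_mem _, fun d hd => by rw [hD1, Subgroup.mem_bot] at hd; simp [hd]⟩
    set E := D.map (MulAut.conj x).toMonoidHom with hE
    have hEP : E ≤ P := by
      rintro _ ⟨d, hd, rfl⟩
      exact hx d hd
    have hDlt : Nat.card D < Nat.card (P : Subgroup G) := by omega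
    have hEcard : Nat.card E = Nat.card D :=
      Subgroup.card_map_of_injective (MulAut.conj x).injective
    have hPp : IsPGroup p (P : Subgroup G) := P.2
    -- normalizers grow
    have hgrow : ∀ F : Subgroup G, F ≤ P → Nat.card F = Nat.card D →
        Nat.card D < Nat.card ↥((P : Subgroup G) ⊓ Subgroup.normalizer (F : Set G)) := by
      intro F hF hFc
      rw [← hFc]
      haveI := hPp.isNilpotent
      have hne : F.subgroupOf (P : Subgroup G) ≠ ⊤ := fun e => by
        have h5 : Nat.card F = Nat.card (P : Subgroup G) := by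
          rw [← card_subgroupOf hF, e, Subgroup.card_top]
        omega
      have hlt := Group.normalizerCondition_of_isNilpotent (G := (P : Subgroup G)) _
        (lt_top_iff_ne_top.2 hne)
      have h6 : (Subgroup.normalizer ((F.subgroupOf (P : Subgroup G) : Subgroup (P : Subgroup G)) :
          Set (P : Subgroup G))).map (P : Subgroup G).subtype
          ≤ (P : Subgroup G) ⊓ Subgroup.normalizer (F : Set G) := by
        refine le_inf (Subgroup.map_subtype_le _) ((Subgroup.le_normalizer_map _).trans (le_of_eq ?_))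
        rw [Subgroup.map_subgroupOf_eq_of_le hF]
      refine lt_of_lt_of_le ?_ (Subgroup.card_le_of_le h6)
      rw [card_map_subtype, ← card_subgroupOf hF]
      exact Nat.lt_of_le_of_ne (Subgroup.card_le_of_le hlt.le) fun e =>
        hlt.ne (Subgroup.eq_of_le_of_card_ge hlt.le e.ge)
    set N := Subgroup.normalizer (E : Set G) with hN
    have hE1 : E ≠ ⊥ := fun e => hD1 (Subgroup.card_eq_one.1 (by rw [← hEcard, e, Subgroup.card_bot]))
    have hNt : N ≠ ⊤ := normalizer_ne_top hG hE1 (pGroup_ne_top hG (hPp.to_le hEP))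
    set D₁ := (P : Subgroup G) ⊓ Subgroup.normalizer (D : Set G) with hD₁
    set E₁ := (P : Subgroup G) ⊓ N with hE₁
    have hT : D₁.map (MulAut.conj x).toMonoidHom ≤ N := by
      rintro _ ⟨d, hd, rfl⟩
      refine mem_normalizer_of_conj_smul_eq ?_
      show MulAut.conj (x * d * x⁻¹) • E = E
      rw [hE, ← conj_smul_eq_map, map_mul, map_mul, mul_smul, mul_smul, ← mul_smul _ _ D, ← map_mul,
        inv_mul_cancel, map_one, one_smul, conj_smul_eq_self_of_mem_normalizer hd.2]
    -- a Sylow subgroup of the local subgroup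
    obtain ⟨S, hS⟩ := (hPp.to_le (inf_le_left : E₁ ≤ P)).of_equiv
      (Subgroup.subgroupOfEquivOfLe (inf_le_right : E₁ ≤ N)).symm |>.exists_le_sylow
    obtain ⟨T, hT'⟩ := ((hPp.to_le (inf_le_left : D₁ ≤ P)).map (MulAut.conj x).toMonoidHom).of_equiv
      (Subgroup.subgroupOfEquivOfLe hT).symm |>.exists_le_sylow
    obtain ⟨c, hc⟩ := MulAction.exists_smul_eq N T S
    obtain ⟨K, hKN, hNK, hKc, hfac⟩ := factor hG hNt S
    have hcN := hfac c.2
    rw [sup_comm] at hcN
    obtain ⟨k', hk', m, hm, hkm⟩ := exists_mul_of_mem_sup (inf_le_right.trans hNK) hcN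
    set k := m⁻¹ * c with hk
    have hkK : k ∈ K := by
      have h1 : k = m⁻¹ * k' * m := by rw [hk, hkm]; group
      rw [h1]
      have := (Subgroup.mem_normalizer_iff''.1 (hNK hm.2) k').1 hk'
      exact this
    -- elements of `K` centralise `E`
    have hEN : E ≤ N := Subgroup.le_normalizer
    have hKE : K ⊓ E = ⊥ := by
      obtain ⟨j, hj⟩ := IsPGroup.iff_card.1 (hPp.to_le hEP)
      exact inf_eq_bot_of_coprime_card (by rw [hj]; exact hKc.pow_right j)
    have hKcent : ∀ e ∈ E, k * e * k⁻¹ = e := by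
      intro e he
      have h1 : ⁅k, e⁆ ∈ K ⊓ E := ⟨by
          rw [commutatorElement_def, mul_assoc, mul_assoc k e]
          refine K.mul_mem hkK ?_
          rw [← mul_assoc]
          exact (Subgroup.mem_normalizer_iff.1 (hNK (hEN he)) _).1 (K.inv_mem hkK),
        by
          rw [commutatorElement_def]
          exact E.mul_mem ((Subgroup.mem_normalizer_iff.1 (hKN hkK) e).1 he) (E.inv_mem he)⟩
      rw [hKE, Subgroup.mem_bot, commutatorElement_eq_one_iff_mul_comm] at h1
      rw [h1, mul_inv_cancel_right]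
    -- move into `P`
    obtain ⟨S', hS'⟩ := (S.2.map N.subtype).exists_le_sylow
    obtain ⟨g, hg⟩ := MulAction.exists_smul_eq G S' P
    have hgS : ∀ s : N, s ∈ (S : Subgroup N) → g * s * g⁻¹ ∈ (P : Subgroup G) := by
      intro s hs
      rw [← hg, Sylow.coe_subgroup_smul, mem_conj_smul_iff]
      have := hS' ⟨s, hs, rfl⟩
      simpa [mul_assoc] using this
    have h1 : ∀ d ∈ D₁, (g * k * x) * d * (g * k * x)⁻¹ ∈ (P : Subgroup G) := by
      intro d hd
      have hmem : (⟨x * d * x⁻¹, hT ⟨d, hd, rfl⟩⟩ : N) ∈ (T : Subgroup N) := hT' ⟨d, hd, rfl⟩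
      have h2 : c * ⟨x * d * x⁻¹, hT ⟨d, hd, rfl⟩⟩ * c⁻¹ ∈ (S : Subgroup N) := by
        rw [← hc, Sylow.coe_subgroup_smul, mem_conj_smul_iff]
        simpa [mul_assoc] using hmem
      have h3 : k * (x * d * x⁻¹) * k⁻¹ ∈ (S : Subgroup N).map N.subtype := by
        have h4 : (c : G) * (x * d * x⁻¹) * (c : G)⁻¹ ∈ (S : Subgroup N).map N.subtype :=
          ⟨_, h2, rfl⟩
        have h5 := (Subgroup.mem_normalizer_iff''.1 hm.1 _).1 h4
        rw [hk]
        simpa [mul_assoc] using h5
      obtain ⟨s, hs, hse⟩ := h3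
      have h6 := hgS s hs
      rw [show ((s : N) : G) = k * (x * d * x⁻¹) * k⁻¹ from hse] at h6
      simpa [mul_assoc] using h6
    have h2 : ∀ e ∈ E₁, g * e * g⁻¹ ∈ (P : Subgroup G) := fun e he =>
      hgS ⟨e, he.2⟩ (hS (show (⟨e, he.2⟩ : N) ∈ E₁.subgroupOf N from he))
    have hD1card := hgrow D hD rfl
    have hE1card := hgrow E hEP hEcard
    obtain ⟨y₁, hy₁, he₁⟩ := ih D₁ (g * k * x) inf_le_left (by rw [hD₁]; omega) h1
    obtain ⟨y₂, hy₂, he₂⟩ := ih E₁ g inf_le_left (by rw [hE₁, hN]; omega) h2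
    refine ⟨y₂⁻¹ * y₁, mul_mem (inv_mem hy₂) hy₁, fun d hd => ?_⟩
    have hdE : x * d * x⁻¹ ∈ E := ⟨d, hd, rfl⟩
    have e1 := he₁ d ⟨hD hd, Subgroup.le_normalizer hd⟩
    have e2 := he₂ _ ⟨hEP hdE, hEN hdE⟩
    have e3 : g * (x * d * x⁻¹) * g⁻¹ = y₁ * d * y₁⁻¹ := by
      rw [← e1]
      calc g * (x * d * x⁻¹) * g⁻¹ = g * (k * (x * d * x⁻¹) * k⁻¹) * g⁻¹ := by rw [hKcent _ hdE]
        _ = (g * k * x) * d * (g * k * x)⁻¹ := by group
    calc x * d * x⁻¹ = y₂⁻¹ * (y₂ * (x * d * x⁻¹) * y₂⁻¹) * y₂ := by group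
      _ = y₂⁻¹ * (y₁ * d * y₁⁻¹) * y₂ := by rw [← e2, e3]
      _ = y₂⁻¹ * y₁ * d * (y₂⁻¹ * y₁)⁻¹ := by group

end CfsgLib.OddLocal.SylowControl
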