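import Cfsg.Agent.OddLocal.Transitivity
import Cfsg.Agent.OddLocal.TransHyp
import Cfsg.Agent.Base.Constrained
import Cfsg.Agent.S3737
import Mathlib

/-!
The transitivity theorem of Thompson for abelian `p`-subgroups of rank at least three in groups with
`p`-constrained `p`-local subgroups.
-/

set_option autoImplicit false
set_option linter.style.haveILetI false
set_option linter.unusedSectionVars false
set_option maxHeartbeats 400000

open Cfsg CfsgLib.Solv
open scoped commutatorElement Pointwise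

namespace CfsgLib.OddLocal.ThompsonTrans

/-- Invariant `p'`-subgroups lie in `O_{p'}`. -/
theorem le_core {X : Type*} [Group X] [Finite X] {p : ℕ} [Fact p.Prime] (hX : IsPConstrained p X)
    (h2 : p = 2 → ∀ S : Subgroup X, IsPGroup p S → ∀ a ∈ S, ∀ b ∈ S, ∀ c ∈ S, Commute ⁅a, b⁆ c)
    {E Y : Subgroup X} (hE : IsPGroup p E)
    (hfull : ∀ x ∈ Subgroup.centralizer (E : Set X), (∃ j : ℕ, x ^ p ^ j = 1) → x ∈ E)
    (hY : (Nat.card Y).Coprime p) (hEY : E ≤ Subgroup.normalizer (Y : Set X)) :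
    Y ≤ pPrimeCore p X := by
  classical
  haveI := CfsgLib.Solv.pPrimeCore_normal X p
  set O := pPrimeCore p X with hO
  set f := QuotientGroup.mk' O
  have hfs : Function.Surjective f := QuotientGroup.mk'_surjective O
  haveI := CfsgLib.Solv.pCore_normal (X ⧸ O) p
  set R := pCore p (X ⧸ O) with hR
  have hCR : Subgroup.centralizer (R : Set (X ⧸ O)) ≤ R := CfsgLib.Base.Constrained.quotient_charP hX
  obtain ⟨S, hES⟩ := hE.exists_le_sylow
  have hRS : R ≤ (S : Subgroup X).map f := pCore_le_sylow (S.mapSurjective hfs)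
  have hSO : ∀ x ∈ (S : Subgroup X), f x = 1 → x = 1 := fun x hx h => by
    obtain ⟨j, hj⟩ := S.isPGroup' ⟨x, hx⟩
    rw [← orderOf_eq_one_iff]
    exact Nat.eq_one_of_dvd_coprimes ((pPrimeCore_coprime X p).symm.pow_left j)
      (orderOf_dvd_of_pow_eq_one (congrArg Subtype.val hj))
      (Subgroup.orderOf_dvd_natCard _ ((QuotientGroup.eq_one_iff x).1 h))
  have hpel : ∀ x ∈ (S : Subgroup X), ∃ j : ℕ, x ^ p ^ j = 1 := fun x hx => by
    obtain ⟨j, hj⟩ := S.isPGroup' ⟨x, hx⟩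
    exact ⟨j, congrArg Subtype.val hj⟩
  have hRn : ∀ B : Subgroup (X ⧸ O), B ≤ Subgroup.normalizer (R : Set (X ⧸ O)) :=
    fun B => Subgroup.le_normalizer_of_normal
  have hRp : IsPGroup p R := pCore_isPGroup (X ⧸ O) p
  have hYc : (Nat.card (Y.map f)).Coprime p := hY.coprime_dvd_left (Y.card_map_dvd f)
  have hRY : R ⊓ Y.map f = ⊥ := by
    obtain ⟨n, hn⟩ := IsPGroup.iff_card.1 hRp
    exact inf_eq_bot_of_coprime_card (by rw [hn]; exact hYc.symm.pow_left n)
  have hEY' : E.map f ≤ Subgroup.normalizer ((Y.map f : Subgroup (X ⧸ O)) : Set (X ⧸ O)) :=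
    (Subgroup.map_mono hEY).trans (Subgroup.le_normalizer_map f)
  have hRE : R ⊓ E.map f ≤ Subgroup.centralizer ((Y.map f : Subgroup (X ⧸ O)) : Set (X ⧸ O)) := by
    rintro r ⟨hr, hre⟩
    refine Subgroup.mem_centralizer_iff.2 fun y hy => ?_
    have h1 : ⁅r, y⁆ ∈ R ⊓ Y.map f := by
      refine ⟨Subgroup.commutator_le_left R ⊤ (Subgroup.commutator_mem_commutator hr (Subgroup.mem_top y)),
        ?_⟩
      exact commutator_le_of_le_normalizer hEY' (Subgroup.commutator_comm (E.map f) _ ▸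
        Subgroup.commutator_mem_commutator hre hy)
    rw [hRY, Subgroup.mem_bot, commutatorElement_eq_one_iff_mul_comm] at h1
    exact h1.symm
  have hkey : R ⊓ Subgroup.centralizer ((E.map f : Subgroup (X ⧸ O)) : Set (X ⧸ O)) ≤
      Subgroup.centralizer ((Y.map f : Subgroup (X ⧸ O)) : Set (X ⧸ O)) := by
    rintro r ⟨hr, hrc⟩
    obtain ⟨s, hs, rfl⟩ := hRS hr
    refine hRE ⟨hr, ⟨s, hfull s ?_ (hpel s hs), rfl⟩⟩
    refine Subgroup.mem_centralizer_iff.2 fun a ha => ?_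
    refine commutatorElement_eq_one_iff_mul_comm.1 (hSO _ ?_ ?_)
    · rw [commutatorElement_def]
      exact mul_mem (mul_mem (mul_mem (hES ha) hs) (inv_mem (hES ha))) (inv_mem hs)
    · rw [map_commutatorElement, commutatorElement_eq_one_iff_mul_comm]
      exact Subgroup.mem_centralizer_iff.1 hrc (f a) ⟨a, ha, rfl⟩
  have hcent : Y.map f ≤ Subgroup.centralizer (R : Set (X ⧸ O)) := by
    by_cases hp2 : p = 2
    swap
    · exact Cfsg.Agent.S3737.result hp2 (E.map f) (Y.map f) R (hE.map f) hYc hEY' hRp (hRn _) (hRn _) hkey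
    · -- Sylow subgroups have class at most two
      have hcl := h2 hp2 S S.isPGroup'
      have hz : ∀ r ∈ R, ∀ e ∈ E.map f, ⁅e, r⁆ ∈ R ⊓ E.map f := by
        rintro r hr _ ⟨a, ha, rfl⟩
        refine ⟨Subgroup.commutator_le_right ⊤ R
          (Subgroup.commutator_mem_commutator (Subgroup.mem_top _) hr), ?_⟩
        obtain ⟨s, hs, rfl⟩ := hRS hr
        refine ⟨⁅a, s⁆, hfull _ ?_ (hpel _ ?_), map_commutatorElement f a s⟩
        · exact Subgroup.mem_centralizer_iff.2 fun b hb => ((hcl a (hES ha) s hs b (hES hb)).eq).symm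
        · rw [commutatorElement_def]
          exact mul_mem (mul_mem (mul_mem (hES ha) hs) (inv_mem (hES ha))) (inv_mem hs)
      have hzC : ∀ r ∈ R, ∀ e ∈ E.map f, ⁅e, r⁆ ∈ R ⊓ Subgroup.centralizer
          ((Y.map f : Subgroup (X ⧸ O)) : Set (X ⧸ O)) := fun r hr e he =>
        ⟨(hz r hr e he).1, hRE (hz r hr e he)⟩
      have hRc : ∀ z ∈ R, ∀ (r e : X ⧸ O), r ∈ R → e ∈ E.map f → Commute ⁅e, r⁆ z := by
        rintro z hzR r e hr ⟨a, ha, rfl⟩
        obtain ⟨s, hs, rfl⟩ := hRS hr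
        obtain ⟨t, ht, rfl⟩ := hRS hzR
        rw [← map_commutatorElement]
        exact (hcl a (hES ha) s hs t ht).map f
      have hEYc : ⁅E.map f, Y.map f⁆ = ⊥ := by
        rw [eq_bot_iff, Subgroup.commutator_le]
        intro e he y hy
        set w := ⁅e, y⁆ with hw
        have hwY : w ∈ Y.map f := commutator_le_of_le_normalizer hEY'
          (Subgroup.commutator_comm (E.map f) _ ▸ Subgroup.commutator_mem_commutator he hy)
        refine hRY.le ⟨hCR (Subgroup.mem_centralizer_iff.2 fun r hr => ?_), hwY⟩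
        -- `w` moves `r` by a central element fixed by `w`
        have hconj : ∀ g : X ⧸ O, ∀ z ∈ R, g * z * g⁻¹ ∈ R := fun g z hz =>
          (inferInstance : R.Normal).conj_mem z hz g
        set r1 := y⁻¹ * r * y with hr1
        have hr1R : r1 ∈ R := by simpa [hr1] using hconj y⁻¹ r hr
        set z1 := ⁅e⁻¹, r1⁆ with hz1
        set z2 := ⁅e, r⁆ with hz2
        have hz1C := hzC r1 hr1R e⁻¹ ((E.map f).inv_mem he)
        have hz2C := hzC r hr e he
        have hyz : y * z1 * y⁻¹ = z1 := by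
          rw [Subgroup.mem_centralizer_iff.1 hz1C.2 y hy, mul_inv_cancel_right]
        have hez : e * z1 * e⁻¹ = z1 := by
          have h1 : Commute z1 e := by
            obtain ⟨a, ha, hae⟩ := (hz r1 hr1R e⁻¹ ((E.map f).inv_mem he)).2
            obtain ⟨b, hb, rfl⟩ := he
            rw [← hz1] at hae
            rw [← hae]
            obtain ⟨a', ha', hae'⟩ := hz r1 hr1R (f b)⁻¹ ((E.map f).inv_mem ⟨b, hb, rfl⟩)
            obtain ⟨s, hs, hse⟩ := hRS hr1R
            have h7 : f a = f ⁅b⁻¹, s⁆ := by rw [map_commutatorElement, map_inv, hse, hae]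
            rw [h7]
            exact (hcl b⁻¹ (inv_mem (hES hb)) s hs b (hES hb)).map f
          rw [← h1.eq, mul_inv_cancel_right]
        have e1 : e⁻¹ * r1 * e = z1 * r1 := by simp [hz1, commutatorElement_def, mul_assoc]
        have e2 : e * r * e⁻¹ = z2 * r := by simp [hz2, commutatorElement_def, mul_assoc]
        have e3 : w * r * w⁻¹ = z1 * z2 * r := by
          calc w * r * w⁻¹ = e * (y * (e⁻¹ * r1 * e) * y⁻¹) * e⁻¹ := by
                rw [hw, hr1]; simp [commutatorElement_def, mul_assoc]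
            _ = e * ((y * z1 * y⁻¹) * (y * r1 * y⁻¹)) * e⁻¹ := by rw [e1]; group
            _ = e * (z1 * r) * e⁻¹ := by rw [hyz, hr1]; group
            _ = (e * z1 * e⁻¹) * (e * r * e⁻¹) := by group
            _ = z1 * z2 * r := by rw [hez, e2, mul_assoc]
        have hcw : w * (z1 * z2) * w⁻¹ = z1 * z2 := by
          rw [Subgroup.mem_centralizer_iff.1 ((Subgroup.centralizer _).mul_mem hz1C.2 hz2C.2) w hwY,
            mul_inv_cancel_right]
        have hit : ∀ n : ℕ, w ^ n * r * (w ^ n)⁻¹ = (z1 * z2) ^ n * r := by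
          intro n
          induction n with
          | zero => simp
          | succ n ih =>
            calc w ^ (n + 1) * r * (w ^ (n + 1))⁻¹ = w * (w ^ n * r * (w ^ n)⁻¹) * w⁻¹ := by
                  rw [pow_succ' w n]; group
              _ = (w * (z1 * z2) ^ n * w⁻¹) * (w * r * w⁻¹) := by rw [ih]; group
              _ = (z1 * z2) ^ n * (z1 * z2 * r) := by rw [← conj_pow, hcw, e3]
              _ = (z1 * z2) ^ (n + 1) * r := by rw [pow_succ, mul_assoc ((z1 * z2) ^ n)]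
        have h8 := hit (orderOf w)
        rw [pow_orderOf_eq_one, one_mul, inv_one, mul_one, right_eq_mul] at h8
        have hzR : z1 * z2 ∈ R := R.mul_mem hz1C.1 hz2C.1
        have h9 : orderOf (z1 * z2) = 1 := by
          obtain ⟨n, hn⟩ := IsPGroup.iff_card.1 hRp
          refine Nat.eq_one_of_dvd_coprimes ?_ (orderOf_dvd_of_pow_eq_one h8)
            (Subgroup.orderOf_dvd_natCard R hzR)
          rw [hn]
          exact (hYc.coprime_dvd_left (Subgroup.orderOf_dvd_natCard _ hwY)).pow_right n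
        rw [orderOf_eq_one_iff.1 h9, one_mul] at e3
        exact (mul_inv_eq_iff_eq_mul.1 e3).symm
      exact thompson_pq (hE.map f) hYc (Subgroup.commutator_eq_bot_iff_le_centralizer.1 hEYc) R hRp
        (hRn _) (hRn _) hkey
  have h5 : Y.map f = ⊥ := le_bot_iff.1 ((le_inf (hcent.trans hCR) le_rfl).trans hRY.le)
  rwa [Subgroup.map_eq_bot_iff, QuotientGroup.ker_mk'] at h5

variable {G : Type*} [Group G] [Finite G]

/-- `p'`-subgroups of `C(E)` lie in its `p'`-core. -/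
theorem le_K {p : ℕ} [hp : Fact p.Prime] {E Y : Subgroup G} (hEp : IsPGroup p E)
    (hEc : IsMulCommutative E)
    (hfull : ∀ x ∈ Subgroup.centralizer (E : Set G), (∃ j : ℕ, x ^ p ^ j = 1) → x ∈ E)
    (hYC : Y ≤ Subgroup.centralizer (E : Set G)) (hY : (Nat.card Y).Coprime p) :
    Y ≤ piCoreOf (primesNotDvd p) (Subgroup.centralizer (E : Set G)) := by
  set C := Subgroup.centralizer (E : Set G) with hC
  have hEC : E ≤ C := fun a ha => Subgroup.mem_centralizer_iff.2 fun b hb =>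
    congrArg (fun w : E => (w : G)) (hEc.is_comm.comm ⟨b, hb⟩ ⟨a, ha⟩)
  set E' : Subgroup C := E.subgroupOf C with hE'
  have hEz : ∀ a : C, a ∈ E' → ∀ c : C, c * a = a * c := fun a ha c =>
    Subtype.ext (Subgroup.mem_centralizer_iff.1 c.2 (a : G) ha).symm
  haveI : E'.Normal := ⟨fun a ha c => by rw [hEz a ha c, mul_inv_cancel_right]; exact ha⟩
  obtain ⟨S, hS⟩ := (hEp.of_equiv (Subgroup.subgroupOfEquivOfLe hEC).symm).exists_le_sylow
  have hSE : (S : Subgroup C) = E' := by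
    refine le_antisymm ?_ hS
    intro a ha
    refine hfull (a : G) a.2 ?_
    obtain ⟨j, hj⟩ := S.isPGroup' ⟨a, ha⟩
    exact ⟨j, congrArg (fun t : S => ((t : C) : G)) hj⟩
  have hidx : ¬ p ∣ E'.index := hSE ▸ S.not_dvd_index
  obtain ⟨n, hn⟩ := IsPGroup.iff_card.1 (hEp.of_equiv (Subgroup.subgroupOfEquivOfLe hEC).symm)
  obtain ⟨K0, hK0⟩ := Subgroup.exists_right_complement'_of_coprime (N := E')
    (by rw [hn]; exact (hp.out.coprime_iff_not_dvd.2 hidx).pow_left n)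
  haveI hK0n : K0.Normal := ⟨fun k hk c => by
    have hc : c ∈ E' ⊔ K0 := by rw [hK0.sup_eq_top]; trivial
    obtain ⟨a, ha, b, hb, rfl⟩ := Subgroup.mem_sup_of_normal_left.1 hc
    have h1 : b * k * b⁻¹ ∈ K0 := K0.mul_mem (K0.mul_mem hb hk) (K0.inv_mem hb)
    have h2 : a * b * k * (a * b)⁻¹ = b * k * b⁻¹ := by
      calc a * b * k * (a * b)⁻¹ = a * (b * k * b⁻¹) * a⁻¹ := by group
        _ = b * k * b⁻¹ := by rw [← hEz a ha, mul_inv_cancel_right]
    rw [h2]; exact h1⟩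
  have hK0p : PiNat (primesNotDvd p) (Nat.card K0) := by
    intro r hr hd
    refine ⟨hr, fun h => hidx ?_⟩
    rw [hK0.symm.index_eq_card, ← (Nat.prime_dvd_prime_iff_eq hr hp.out).1 h]
    exact hd
  intro y hy
  refine ⟨⟨y, hYC hy⟩, CfsgLib.Solv.le_piCore hK0p ?_, rfl⟩
  rw [← QuotientGroup.eq_one_iff, ← orderOf_eq_one_iff]
  refine Nat.eq_one_of_dvd_coprimes (hY.pow_right n) ((orderOf_map_dvd (QuotientGroup.mk' K0) _).trans ?_) ?_
  · rw [Subgroup.orderOf_mk]; exact Subgroup.orderOf_dvd_natCard Y hy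
  · rw [← hn, ← hK0.index_eq_card, Subgroup.index_eq_card]
    exact orderOf_dvd_natCard _

theorem transitive (p : ℕ) [hp : Fact p.Prime]
    (hloc : ∀ T : Subgroup G, IsPGroup p T → T ≠ ⊥ → IsPConstrained p ↥(Subgroup.normalizer (T : Set G)))
    (h2 : p = 2 → ∀ S : Subgroup G, IsPGroup p S → ∀ a ∈ S, ∀ b ∈ S, ∀ c ∈ S, Commute ⁅a, b⁆ c)
    (E : Subgroup G) (hEp : IsPGroup p E) (hEc : IsMulCommutative E) {B : Subgroup G} (hBE : B ≤ E)
    (hB : IsElementaryAbelian p B) (hB3 : p ^ 3 ≤ Nat.card B)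
    (hfull : ∀ x ∈ Subgroup.centralizer (E : Set G), (∃ j : ℕ, x ^ p ^ j = 1) → x ∈ E)
    (q : ℕ) [hq : Fact q.Prime] (hqp : q ≠ p) {Q₁ Q₂ : Subgroup G}
    (h₁ : Q₁ ∈ maxInvSubgroups ⊤ E {q}) (h₂ : Q₂ ∈ maxInvSubgroups ⊤ E {q}) :
    ∃ k ∈ piCoreOf (primesNotDvd p) (Subgroup.centralizer (E : Set G)),
      Q₂ = Q₁.map (MulAut.conj k).toMonoidHom := by
  classical
  set K := piCoreOf (primesNotDvd p) (Subgroup.centralizer (E : Set G)) with hK
  by_contra hcon
  obtain ⟨D, ⟨X₁, X₂, hX₁, hX₂, hX, rfl⟩, hmax⟩ := (Set.toFinite {D : Subgroup G | ∃ X₁ X₂,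
    X₁ ∈ maxInvSubgroups ⊤ E {q} ∧ X₂ ∈ maxInvSubgroups ⊤ E {q} ∧
    (¬ ∃ k ∈ K, X₂ = X₁.map (MulAut.conj k).toMonoidHom) ∧ D = X₁ ⊓ X₂}).exists_maximal
      ⟨_, Q₁, Q₂, h₁, h₂, hcon, rfl⟩
  set D := X₁ ⊓ X₂ with hD
  have hne' : X₁ ≠ X₂ := fun e => hX ⟨1, one_mem _, by rw [Trans.map_conj_one, e]⟩
  have hlt₁ : D < X₁ := lt_of_le_of_ne inf_le_left fun e =>
    hne' (hX₁.2 _ hX₂.1 (inf_eq_left.1 e)).symm
  have hlt₂ : D < X₂ := lt_of_le_of_ne inf_le_right fun e =>
    hne' (hX₂.2 _ hX₁.1 (inf_eq_right.1 e))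
  set N := Subgroup.normalizer (D : Set G) with hN
  have hED : E ≤ N := le_normalizer_inf_of_le hX₁.1.2.2 hX₂.1.2.2
  have hEN : E ≤ Subgroup.normalizer (N : Set G) := hED.trans Subgroup.le_normalizer
  obtain ⟨n, hn⟩ := IsPGroup.iff_card.1 hEp
  have hcopq : ∀ U : Subgroup G, IsPGroup q U → (Nat.card U).Coprime p := fun U hU => by
    obtain ⟨m, hm⟩ := IsPGroup.iff_card.1 hU
    rw [hm]; exact ((Nat.coprime_primes hq.out hp.out).2 hqp).pow_left m
  haveI := hB.1
  -- a hyperplane of `B` moving `D` in each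
  have hfix : ∀ {Q}, Q ∈ maxInvSubgroups ⊤ E {q} → D < Q → ∃ B₀, B₀ ≤ B ∧
      (∃ a ∈ B, B₀ ⊔ Subgroup.zpowers a = B) ∧
        ¬ (Q ⊓ N) ⊓ Subgroup.centralizer (B₀ : Set G) ≤ D := by
    intro Q hQ hlt
    by_contra! hno
    refine (Trans.lt_inf_normalizer (Trans.inv_isPGroup hQ.1) hlt).not_ge
      (le_of_cocyclic_centralizers ?_ ?_ hno |> fun h => h)
    · exact hBE.trans (le_normalizer_inf_of_le hQ.1.2.2 hEN)
    · obtain ⟨m, hm⟩ := IsPGroup.iff_card.1 (hEp.to_le hBE)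
      rw [hm]
      exact ((hcopq _ ((Trans.inv_isPGroup hQ.1).to_le inf_le_left)).pow_right m).symm
  obtain ⟨B₁, hB₁, c₁, e₁⟩ := hfix hX₁ hlt₁
  obtain ⟨B₂, hB₂, c₂, e₂⟩ := hfix hX₂ hlt₂
  obtain ⟨b, hb, hb1⟩ := (B₁ ⊓ B₂).bot_or_exists_ne_one.resolve_left
    (Sig.inf_ne_bot_of_cocyclic hB hB3 hB₁ hB₂ c₁ c₂)
  -- the local subgroup of `b`
  set T := Subgroup.zpowers b
  have hTE : T ≤ E := Subgroup.zpowers_le.2 (hBE (hB₁ hb.1))
  set X := Subgroup.normalizer (T : Set G) with hXdef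
  have hCX : Subgroup.centralizer ({b} : Set G) ≤ X := by
    refine le_trans (le_of_eq ?_) (Subgroup.centralizer_le_normalizer _)
    show _ = Subgroup.centralizer ((Subgroup.zpowers b : Subgroup G) : Set G)
    rw [Subgroup.zpowers_eq_closure, Subgroup.centralizer_closure]
  have hEX : E ≤ X := fun a ha => hCX (Subgroup.mem_centralizer_singleton_iff.2
    (congrArg (fun w : E => (w : G)) (hEc.is_comm.comm ⟨a, ha⟩ ⟨b, hBE (hB₁ hb.1)⟩)))
  set W0 := (pPrimeCore p X).map X.subtype with hW0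
  have hcore : ∀ U : Subgroup G, U ≤ X → IsPGroup q U → E ≤ Subgroup.normalizer (U : Set G) → U ≤ W0 := by
    intro U hUX hU hEU
    rw [← Subgroup.map_subgroupOf_eq_of_le hUX, hW0]
    refine Subgroup.map_mono (le_core (hloc T (hEp.to_le hTE)
      (fun e => hb1 (Subgroup.zpowers_eq_bot.1 e))) ?_ (E := E.subgroupOf X)
      (hEp.of_equiv (Subgroup.subgroupOfEquivOfLe hEX).symm) ?_ ?_ (TransHyp.subgroupOf_normalizer hEU hUX))
    · intro hp2 S hS a ha b' hb' c hc
      have h := h2 hp2 (S.map X.subtype) (hS.map _) a ⟨a, ha, rfl⟩ b' ⟨b', hb', rfl⟩ c ⟨c, hc, rfl⟩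
      refine Subtype.ext ?_
      simpa [commutatorElement_def] using h.eq
    · rintro x hx ⟨j, hj⟩
      refine Subgroup.mem_subgroupOf.2 (hfull _ ?_ ⟨j, by rw [← Subgroup.coe_pow, hj]; rfl⟩)
      exact Subgroup.mem_centralizer_iff.2 fun a ha => congrArg Subtype.val
        (Subgroup.mem_centralizer_iff.1 hx ⟨a, hEX ha⟩ ha)
    · rw [card_subgroupOf hUX]; exact hcopq U hU
  set W := W0 ⊓ N with hW
  have hEW0 : E ≤ Subgroup.normalizer (W0 : Set G) := by
    refine hEX.trans (Subgroup.le_normalizer.trans ?_)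
    intro g hg
    rw [Subgroup.mem_normalizer_iff_map_conj_eq, hW0]
    show ((pPrimeCore p X).map X.subtype).map _ = _
    rw [Subgroup.map_map]
    have hch : (pPrimeCore p X).Characteristic := pPrimeCore_characteristic
    have h1 := Subgroup.characteristic_iff_map_eq.1 hch (Subgroup.normalizerMonoidHom X ⟨g, hg⟩)
    conv_rhs => rw [← h1, Subgroup.map_map]
    rfl
  have hWp : (Nat.card W).Coprime p := by
    refine Nat.Coprime.coprime_dvd_left (Subgroup.card_dvd_of_le inf_le_left) ?_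
    rw [hW0, card_map_subtype]; exact pPrimeCore_coprime X p
  have hDN : D ≤ N := Subgroup.le_normalizer
  have hDq : IsPGroup q D := (Trans.inv_isPGroup hX₁.1).to_le inf_le_left
  set DW := D ⊔ W with hDW
  have hDWp : (Nat.card DW).Coprime p := by
    have h1 : Nat.card DW ∣ Nat.card D * Nat.card W := by
      haveI : (D.subgroupOf N).Normal := Subgroup.normal_in_normalizer
      have h := card_sup_dvd_mul (W.subgroupOf N) (D.subgroupOf N)
      rw [← Subgroup.subgroupOf_sup inf_le_right hDN, card_subgroupOf (sup_le inf_le_right hDN),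
        card_subgroupOf (inf_le_right : W ≤ N), card_subgroupOf hDN, sup_comm, mul_comm] at h
      exact h
    exact (Nat.Coprime.mul_left (hcopq D hDq) hWp).coprime_dvd_left h1
  have hEDW : E ≤ Subgroup.normalizer (DW : Set G) := by
    intro a ha
    refine mem_normalizer_of_conj_smul_eq ?_
    rw [hDW, Subgroup.smul_sup, conj_smul_eq_self_of_mem_normalizer (hED ha),
      conj_smul_eq_self_of_mem_normalizer (le_normalizer_inf_of_le hEW0 hEN ha)]
  have hcop : (Nat.card E).Coprime (Nat.card DW) := by rw [hn]; exact (hDWp.pow_right n).symm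
  have hs : Group.IsSolvable E ∨ Group.IsSolvable DW :=
    Or.inl (Group.isSolvable_of_comm fun a b => hEc.is_comm.comm a b)
  have hEC : E ≤ Subgroup.normalizer ((Subgroup.centralizer ({b} : Set G) : Subgroup G) : Set G) := by
    refine le_trans ?_ Subgroup.le_normalizer
    exact fun a ha => Subgroup.mem_centralizer_singleton_iff.2
      (congrArg (fun w : E => (w : G)) (hEc.is_comm.comm ⟨a, ha⟩ ⟨b, hBE (hB₁ hb.1)⟩))
  have hsub : ∀ {Q}, Q ∈ maxInvSubgroups ⊤ E {q} → D < Q →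
      (Q ⊓ N) ⊓ Subgroup.centralizer ({b} : Set G) ≤ DW := fun {Q} hQ hlt =>
    le_trans (le_inf (hcore _ (inf_le_right.trans hCX)
      ((Trans.inv_isPGroup hQ.1).to_le (inf_le_left.trans inf_le_left))
      (le_normalizer_inf_of_le (le_normalizer_inf_of_le hQ.1.2.2 hEN) hEC))
      (inf_le_left.trans inf_le_right)) le_sup_right
  have hU : ∀ {Q}, Q ∈ maxInvSubgroups ⊤ E {q} → D < Q → ∀ B₀ : Subgroup G, b ∈ B₀ →
      ¬ (Q ⊓ N) ⊓ Subgroup.centralizer (B₀ : Set G) ≤ D →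
      ∃ U : Subgroup G, D < U ∧ U ≤ Q ∧ U ≤ DW ∧ IsPGroup q U ∧
        E ≤ Subgroup.normalizer (U : Set G) := by
    intro Q hQ hlt B₀ hb0 hne
    refine ⟨D ⊔ (Q ⊓ N) ⊓ Subgroup.centralizer ({b} : Set G), ?_, ?_, ?_, ?_, ?_⟩
    · refine lt_of_le_of_ne le_sup_left fun e => hne ?_
      rw [e]
      exact le_trans (inf_le_inf_left _ (Subgroup.centralizer_le (Set.singleton_subset_iff.2 hb0)))
        le_sup_right
    · exact sup_le hlt.le (inf_le_left.trans inf_le_left)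
    · exact sup_le le_sup_left (hsub hQ hlt)
    · exact (Trans.inv_isPGroup hQ.1).to_le (sup_le hlt.le (inf_le_left.trans inf_le_left))
    · intro a ha
      refine mem_normalizer_of_conj_smul_eq ?_
      rw [Subgroup.smul_sup, conj_smul_eq_self_of_mem_normalizer (hED ha),
        conj_smul_eq_self_of_mem_normalizer
          (le_normalizer_inf_of_le (le_normalizer_inf_of_le hQ.1.2.2 hEN) hEC ha)]
  obtain ⟨U₁, hDU₁, hU₁X, hU₁W, hU₁q, hEU₁⟩ := hU hX₁ hlt₁ B₁ hb.1 e₁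
  obtain ⟨U₂, hDU₂, hU₂X, hU₂W, hU₂q, hEU₂⟩ := hU hX₂ hlt₂ B₂ hb.2 e₂
  obtain ⟨R₁, hR₁, hA₁⟩ := exists_invariant_sylow_ge (p := q) hEDW hcop hs hU₁W hU₁q hEU₁
  obtain ⟨R₂, hR₂, hA₂⟩ := exists_invariant_sylow_ge (p := q) hEDW hcop hs hU₂W hU₂q hEU₂
  obtain ⟨c, hc, hce⟩ := invariant_sylow_conj hEDW hcop hs R₁ R₂ hA₁ hA₂
  have hcK : (c : G) ∈ K := le_K hEp hEc hfull (Y := DW ⊓ Subgroup.centralizer (E : Set G)) inf_le_right
    (hDWp.coprime_dvd_left (Subgroup.card_dvd_of_le inf_le_left)) ⟨c.2, hc⟩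
  have hcN : (c : G) ∈ Subgroup.normalizer (E : Set G) := Subgroup.centralizer_le_normalizer _ hc
  obtain ⟨Q₃, hQ₃, hle₁⟩ := Trans.exists_max_ge (Trans.mem_inv_of_isPGroup le_top (R₁.2.map DW.subtype) hA₁)
  have hle₂ : U₂ ≤ Q₃.map (MulAut.conj (c : G)).toMonoidHom := by
    refine hR₂.trans ?_
    rw [← hce, Sylow.coe_subgroup_smul]
    refine le_trans ?_ (Subgroup.map_mono hle₁)
    rintro _ ⟨y, hy, rfl⟩
    replace hy := mem_conj_smul_iff.1 (show y ∈ MulAut.conj c • (R₁ : Subgroup DW) from hy)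
    exact ⟨_, Subgroup.mem_map_of_mem DW.subtype hy, by simp [mul_assoc]⟩
  have hbig : ∀ {Z₁ Z₂}, Z₁ ∈ maxInvSubgroups ⊤ E {q} → Z₂ ∈ maxInvSubgroups ⊤ E {q} →
      D < Z₁ ⊓ Z₂ → ∃ k ∈ K, Z₂ = Z₁.map (MulAut.conj k).toMonoidHom := by
    intro Z₁ Z₂ hZ₁ hZ₂ hlt
    by_contra hno
    exact hlt.not_ge (hmax ⟨Z₁, Z₂, hZ₁, hZ₂, hno, rfl⟩ hlt.le)
  obtain ⟨a, ha, hae⟩ := hbig hX₁ hQ₃ (lt_of_lt_of_le hDU₁ (le_inf hU₁X (hR₁.trans hle₁)))
  obtain ⟨d, hd, hde⟩ := hbig (Trans.conj_max (c : G) hcN hQ₃) hX₂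
    (lt_of_lt_of_le hDU₂ (le_inf hle₂ hU₂X))
  exact hX ⟨d * ((c : G) * a), mul_mem hd (mul_mem hcK ha), by
    rw [hde, hae, Trans.conj_map_mul, Trans.conj_map_mul]; group⟩

end CfsgLib.OddLocal.ThompsonTrans
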