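import Cfsg.Prelude.Def_OddOrderLocal
import Cfsg.Prelude.Def_OddOrder
import Cfsg.Agent.Solv.CoprimeSylow
import Cfsg.Agent.Solv.Signalizer

/-!
Bender–Glauberman, Section 7: the transitivity theorems for a subgroup `A` satisfying the
transitivity hypothesis in a minimal simple group of odd order.
-/

set_option autoImplicit false
set_option linter.style.haveILetI false
set_option linter.unusedSectionVars false

open Cfsg CfsgLib.Solv
open scoped Pointwise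

namespace CfsgLib.OddLocal.Trans

variable {G : Type*} [Group G] [Finite G]

theorem solvable_proper (hG : IsMinSimpleOddOrder G) {X : Subgroup G} (hX : X ≠ ⊤) :
    Group.IsSolvable X := hG.2.2.2 X hX

theorem normalizer_ne_top (hG : IsMinSimpleOddOrder G) {X : Subgroup G} (h1 : X ≠ ⊥) (h2 : X ≠ ⊤) :
    Subgroup.normalizer (X : Set G) ≠ ⊤ := by
  intro h
  haveI := hG.2.1
  rcases (Subgroup.normalizer_eq_top_iff.1 h).eq_bot_or_eq_top with h' | h'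
  · exact h1 h'
  · exact h2 h'

theorem ne_top_of_solvable (hG : IsMinSimpleOddOrder G) {X : Subgroup G} (hX : Group.IsSolvable X) :
    X ≠ ⊤ := by
  rintro rfl
  haveI := hG.2.1
  haveI := hX
  have : Group.IsSolvable G := isSolvable_of_mulEquiv Subgroup.topEquiv
  exact hG.2.2.1 ⟨⟨(IsSimpleGroup.comm_iff_isSolvable.2 this)⟩⟩

theorem centralizer_singleton_ne_top (hG : IsMinSimpleOddOrder G) {b : G} (hb : b ≠ 1) :
    Subgroup.centralizer ({b} : Set G) ≠ ⊤ := by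
  intro h
  haveI := hG.2.1
  have hz : b ∈ Subgroup.center G := Subgroup.mem_center_iff.2 fun g =>
    Subgroup.mem_centralizer_singleton_iff.1 (h ▸ Subgroup.mem_top g)
  have hne : Subgroup.center G ≠ ⊥ := fun e => hb (Subgroup.mem_bot.1 (e ▸ hz))
  have htop := (inferInstance : (Subgroup.center G).Normal).eq_bot_or_eq_top.resolve_left hne
  exact hG.2.2.1 ⟨⟨fun x y => (Subgroup.mem_center_iff.1 (htop ▸ Subgroup.mem_top x : x ∈ _) y).symm⟩⟩

section Basic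

variable {π : Set ℕ} {X Y : Subgroup G}

theorem piCoreOf_le (π : Set ℕ) (X : Subgroup G) : piCoreOf π X ≤ X := Subgroup.map_subtype_le _

theorem piNat_piCoreOf (π : Set ℕ) (X : Subgroup G) : PiNat π (Nat.card (piCoreOf π X)) := by
  rw [piCoreOf, card_map_subtype]; exact piNat_card_piCore π

theorem le_piCoreOf (hYX : Y ≤ X) (hn : X ≤ Subgroup.normalizer (Y : Set G))
    (h : PiNat π (Nat.card Y)) : Y ≤ piCoreOf π X := by
  haveI : (Y.subgroupOf X).Normal := Subgroup.normal_subgroupOf_of_le_normalizer hn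
  rw [← Subgroup.map_subgroupOf_eq_of_le hYX]
  exact Subgroup.map_mono (le_piCore (by rwa [card_subgroupOf hYX]))

theorem normalizes_piCoreOf (π : Set ℕ) (X : Subgroup G) :
    Subgroup.normalizer (X : Set G) ≤ Subgroup.normalizer (piCoreOf π X : Set G) := by
  intro g hg
  rw [Subgroup.mem_normalizer_iff_map_conj_eq, piCoreOf, Subgroup.map_map]
  have h1 := Subgroup.characteristic_iff_map_eq.1 (piCore_characteristic (π := π) (G := X))
    (Subgroup.normalizerMonoidHom X ⟨g, hg⟩)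
  conv_rhs => rw [← h1, Subgroup.map_map]
  rfl

end Basic

/-- The primes outside `π(A)`. -/
abbrev pc (A : Subgroup G) : Set ℕ := primesNotDvd (Nat.card A)

theorem coprime_of_piNat {A H : Subgroup G}
    (hH : ∀ r : ℕ, r.Prime → r ∣ Nat.card H → r ∣ Nat.card A) {n : ℕ} (hn : PiNat (pc A) n) :
    (Nat.card H).Coprime n :=
  Nat.coprime_of_dvd fun r hr h1 h2 => (hn r hr h2).2 (hH r hr h1)

theorem coprime_self {A : Subgroup G} {n : ℕ} (hn : PiNat (pc A) n) : (Nat.card A).Coprime n :=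
  coprime_of_piNat (fun _ _ h => h) hn

theorem conj_map_mul (g h : G) (X : Subgroup G) :
    (X.map (MulAut.conj h).toMonoidHom).map (MulAut.conj g).toMonoidHom =
      X.map (MulAut.conj (g * h)).toMonoidHom := by
  rw [Subgroup.map_map, map_mul]; rfl

theorem map_conj_one (X : Subgroup G) : X.map (MulAut.conj (1 : G)).toMonoidHom = X := by
  rw [map_one]; exact Subgroup.map_id X

theorem map_conj_normalizer (g : G) (X : Subgroup G) :
    (Subgroup.normalizer (X : Set G)).map (MulAut.conj g).toMonoidHom =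
      Subgroup.normalizer ((X.map (MulAut.conj g).toMonoidHom : Subgroup G) : Set G) :=
  Subgroup.map_equiv_normalizer_eq X (MulAut.conj g)

section Max

variable {A : Subgroup G} {q : ℕ} [hq : Fact q.Prime]

theorem inv_isPGroup {H P Q : Subgroup G} (h : Q ∈ invSubgroups H P {q}) : IsPGroup q Q :=
  IsPGroup.of_card (n := (Nat.card Q).primeFactorsList.length)
    (Nat.eq_prime_pow_of_unique_prime_dvd Nat.card_pos.ne' fun hd hdd => h.2.1 _ hd hdd)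

theorem inv_piNat {H P Q : Subgroup G} (hqA : ¬ q ∣ Nat.card A) (h : Q ∈ invSubgroups H P {q}) :
    PiNat (pc A) (Nat.card Q) := fun r hr hd => by
  rw [show r = q from h.2.1 r hr hd]; exact ⟨hq.out, hqA⟩

theorem mem_inv_of_isPGroup {H P Q : Subgroup G} (hQH : Q ≤ H) (hQ : IsPGroup q Q)
    (hP : P ≤ Subgroup.normalizer (Q : Set G)) : Q ∈ invSubgroups H P {q} :=
  ⟨hQH, PiNat.of_isPGroup hQ (Set.mem_singleton q), hP⟩

theorem exists_max_ge {P U : Subgroup G} (hU : U ∈ invSubgroups ⊤ P {q}) :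
    ∃ Q ∈ maxInvSubgroups ⊤ P {q}, U ≤ Q := by
  obtain ⟨Q, hUQ, hQ⟩ := Finite.exists_le_maximal (p := fun Q => Q ∈ invSubgroups ⊤ P {q}) hU
  exact ⟨Q, ⟨hQ.1, fun R hR hle => le_antisymm (hQ.2 hR hle) hle⟩, hUQ⟩

theorem conj_inv {P Q : Subgroup G} (g : G) (hg : g ∈ Subgroup.normalizer (P : Set G))
    (hQ : Q ∈ invSubgroups ⊤ P {q}) : Q.map (MulAut.conj g).toMonoidHom ∈ invSubgroups ⊤ P {q} := by
  refine ⟨le_top, fun r hr hd => hQ.2.1 r hr ?_, ?_⟩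
  · rwa [Subgroup.card_map_of_injective (MulAut.conj g).injective] at hd
  · rw [← map_conj_normalizer]
    conv_lhs => rw [← Subgroup.mem_normalizer_iff_map_conj_eq.1 hg]
    exact Subgroup.map_mono hQ.2.2

theorem conj_max {P Q : Subgroup G} (g : G) (hg : g ∈ Subgroup.normalizer (P : Set G))
    (hQ : Q ∈ maxInvSubgroups ⊤ P {q}) :
    Q.map (MulAut.conj g).toMonoidHom ∈ maxInvSubgroups ⊤ P {q} := by
  refine ⟨conj_inv g hg hQ.1, fun R hR hle => ?_⟩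
  have h1 := hQ.2 _ (conj_inv g⁻¹ (inv_mem hg) hR) (by
    have := Subgroup.map_mono (f := (MulAut.conj g⁻¹).toMonoidHom) hle
    rwa [conj_map_mul, inv_mul_cancel, map_conj_one] at this)
  rw [← h1, conj_map_mul, mul_inv_cancel, map_conj_one]

theorem max_eq_bot {P Q Q' : Subgroup G} (hQ : Q ∈ maxInvSubgroups ⊤ P {q}) (hb : Q = ⊥)
    (hQ' : Q' ∈ maxInvSubgroups ⊤ P {q}) : Q' = Q := hQ.2 Q' hQ'.1 (hb ▸ bot_le)

theorem lt_inf_normalizer {D Q : Subgroup G} (hQ : IsPGroup q Q) (h : D < Q) :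
    D < Q ⊓ Subgroup.normalizer (D : Set G) := by
  have hlt : D.subgroupOf Q < ⊤ := by
    rw [lt_top_iff_ne_top, Ne, Subgroup.subgroupOf_eq_top]; exact h.not_ge
  haveI := hQ.isNilpotent
  have h2 := normalizerCondition_of_isNilpotent (G := Q) _ hlt
  refine lt_of_le_of_ne (le_inf h.le Subgroup.le_normalizer) fun e => h2.not_ge fun z hz => ?_
  refine Subgroup.mem_subgroupOf.2 (e.symm ▸ Subgroup.mem_inf.2 ⟨z.2, ?_⟩)
  exact Subgroup.mem_normalizer_fintype fun u hu => (Subgroup.mem_normalizer_iff.1 hz ⟨u, h.le hu⟩).1 hu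

end Max

section Hyp

variable {A : Subgroup G} (hG : IsMinSimpleOddOrder G) (hA : TransitivityHypothesis A)
include hG hA

theorem le_core {X Y : Subgroup G} (hX : X ≠ ⊤) (hAX : A ≤ X)
    (hY : Y ∈ invSubgroups X A (pc A)) : Y ≤ piCoreOf (pc A) X := by
  rw [← hA.2.2 X hX hAX]; exact le_sSup hY

/-- Every `π'`-subgroup of `C(A)` lies in `O_{π'}(C(A))`. -/
theorem le_K {Y : Subgroup G} (hYC : Y ≤ Subgroup.centralizer (A : Set G))
    (hY : PiNat (pc A) (Nat.card Y)) : Y ≤ piCoreOf (pc A) (Subgroup.centralizer (A : Set G)) := by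
  set X := Subgroup.normalizer (A : Set G)
  have hX : X ≠ ⊤ := normalizer_ne_top hG hA.1 hA.2.1
  set C := piCoreOf (pc A) X
  have hYX : Y ∈ invSubgroups X A (pc A) := by
    refine ⟨hYC.trans (Subgroup.centralizer_le_normalizer _), hY, ?_⟩
    exact (Subgroup.le_centralizer_iff.1 hYC).trans (Subgroup.centralizer_le_normalizer _)
  have h1 := le_core hG hA hX Subgroup.le_normalizer hYX
  have hC : C ≤ Subgroup.centralizer (A : Set G) := by
    intro c hc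
    exact mem_centralizer_of_mem_normalizer (A := A) (K := C)
      (Subgroup.le_normalizer.trans (Subgroup.le_normalizer.trans (normalizes_piCoreOf _ _)))
      (inf_eq_bot_of_coprime_card (coprime_self (piNat_piCoreOf _ _))) hc (piCoreOf_le _ _ hc)
  refine h1.trans (le_piCoreOf hC ?_ (piNat_piCoreOf _ _))
  exact (Subgroup.centralizer_le_normalizer _).trans
    (Subgroup.le_normalizer.trans (normalizes_piCoreOf _ _))

variable {q : ℕ} [hq : Fact q.Prime] (hqA : ¬ q ∣ Nat.card A)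
include hqA

local notation "K₀" => piCoreOf (pc A) (Subgroup.centralizer (A : Set G))

theorem mem_normalizer_of_mem_K {k : G} (hk : k ∈ K₀) : k ∈ Subgroup.normalizer (A : Set G) :=
  Subgroup.centralizer_le_normalizer _ (piCoreOf_le _ _ hk)

/-- Invariant `q`-subgroups of a proper overgroup of `A` lie in conjugate maximal ones. -/
theorem step {X U₁ U₂ : Subgroup G} (hX : X ≠ ⊤) (hAX : A ≤ X)
    (h₁ : U₁ ∈ invSubgroups X A {q}) (h₂ : U₂ ∈ invSubgroups X A {q}) :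
    ∃ k ∈ K₀, ∃ Q ∈ maxInvSubgroups ⊤ A {q}, U₁ ≤ Q ∧ U₂ ≤ Q.map (MulAut.conj k).toMonoidHom := by
  set Y := piCoreOf (pc A) X with hY
  have hYX : Y ≤ X := piCoreOf_le _ _
  have hAY : A ≤ Subgroup.normalizer (Y : Set G) :=
    hAX.trans (Subgroup.le_normalizer.trans (normalizes_piCoreOf _ _))
  have hcop : (Nat.card A).Coprime (Nat.card Y) := coprime_self (piNat_piCoreOf _ _)
  have hs : Group.IsSolvable A ∨ Group.IsSolvable Y :=
    Or.inr (solvable_proper hG fun e => hX (top_le_iff.1 (e ▸ hYX)))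
  have hle : ∀ {U}, U ∈ invSubgroups X A {q} → U ≤ Y := fun {U} hU =>
    le_core hG hA hX hAX ⟨hU.1, inv_piNat hqA hU, hU.2.2⟩
  obtain ⟨R₁, hR₁, hA₁⟩ := exists_invariant_sylow_ge (p := q) hAY hcop hs (hle h₁) (inv_isPGroup h₁)
    h₁.2.2
  obtain ⟨R₂, hR₂, hA₂⟩ := exists_invariant_sylow_ge (p := q) hAY hcop hs (hle h₂) (inv_isPGroup h₂)
    h₂.2.2
  obtain ⟨c, hc, hce⟩ := invariant_sylow_conj hAY hcop hs R₁ R₂ hA₁ hA₂
  have hcK : (c : G) ∈ K₀ := by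
    refine le_K hG hA (Y := Y ⊓ Subgroup.centralizer (A : Set G)) inf_le_right
      ((piNat_piCoreOf (pc A) X).of_dvd (Subgroup.card_dvd_of_le inf_le_left)) ⟨c.2, hc⟩
  obtain ⟨Q, hQ, hQle⟩ := exists_max_ge (mem_inv_of_isPGroup le_top (R₁.2.map Y.subtype) hA₁)
  refine ⟨c, hcK, Q, hQ, hR₁.trans hQle, hR₂.trans ?_⟩
  rw [← hce, Sylow.coe_subgroup_smul]
  refine le_trans ?_ (Subgroup.map_mono hQle)
  rintro _ ⟨y, hy, rfl⟩
  replace hy := mem_conj_smul_iff.1 (show y ∈ MulAut.conj c • (R₁ : Subgroup Y) from hy)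
  exact ⟨_, Subgroup.mem_map_of_mem Y.subtype hy, by simp [mul_assoc]⟩

/-- Maximal invariant `q`-subgroups with nontrivial intersection are conjugate. -/
theorem conj_of_inf_ne_bot {Q₁ Q₂ : Subgroup G} (h₁ : Q₁ ∈ maxInvSubgroups ⊤ A {q})
    (h₂ : Q₂ ∈ maxInvSubgroups ⊤ A {q}) (hne : Q₁ ⊓ Q₂ ≠ ⊥) :
    ∃ k ∈ K₀, Q₂ = Q₁.map (MulAut.conj k).toMonoidHom := by
  classical
  by_contra hcon
  obtain ⟨D, ⟨X₁, X₂, hX₁, hX₂, hX, hD1, rfl⟩, hmax⟩ := (Set.toFinite {D : Subgroup G | ∃ X₁ X₂,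
    X₁ ∈ maxInvSubgroups ⊤ A {q} ∧ X₂ ∈ maxInvSubgroups ⊤ A {q} ∧
    (¬ ∃ k ∈ K₀, X₂ = X₁.map (MulAut.conj k).toMonoidHom) ∧ D ≠ ⊥ ∧
      D = X₁ ⊓ X₂}).exists_maximal ⟨_, Q₁, Q₂, h₁, h₂, hcon, hne, rfl⟩
  set D := X₁ ⊓ X₂ with hD
  have hne' : X₁ ≠ X₂ := fun e => hX ⟨1, one_mem _, by rw [map_conj_one, e]⟩
  have hq1 := inv_isPGroup hX₁.1
  have hlt₁ : D < X₁ := lt_of_le_of_ne inf_le_left fun e =>
    hne' (hX₁.2 _ hX₂.1 (inf_eq_left.1 e)).symm
  have hlt₂ : D < X₂ := lt_of_le_of_ne inf_le_right fun e =>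
    hne' (hX₂.2 _ hX₁.1 (inf_eq_right.1 e))
  set N := Subgroup.normalizer (D : Set G)
  have hAN : A ≤ N := le_normalizer_inf_of_le hX₁.1.2.2 hX₂.1.2.2
  have hN : N ≠ ⊤ := normalizer_ne_top hG hD1 (ne_top_of_solvable hG
    (haveI := (hq1.to_le inf_le_left : IsPGroup q D).isNilpotent; inferInstance))
  have hU : ∀ {Z}, Z ∈ maxInvSubgroups ⊤ A {q} → Z ⊓ N ∈ invSubgroups N A {q} := fun {Z} hZ =>
    mem_inv_of_isPGroup inf_le_right ((inv_isPGroup hZ.1).to_le inf_le_left)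
      (le_normalizer_inf_of_le hZ.1.2.2 (hAN.trans Subgroup.le_normalizer))
  have hbig : ∀ {Z₁ Z₂}, Z₁ ∈ maxInvSubgroups ⊤ A {q} → Z₂ ∈ maxInvSubgroups ⊤ A {q} →
      D < Z₁ ⊓ Z₂ → ∃ k ∈ K₀, Z₂ = Z₁.map (MulAut.conj k).toMonoidHom := by
    intro Z₁ Z₂ hZ₁ hZ₂ hlt
    by_contra hno
    exact hlt.not_ge (hmax ⟨Z₁, Z₂, hZ₁, hZ₂, hno, fun e => hD1 (le_bot_iff.1 (e ▸ hlt.le)), rfl⟩ hlt.le)
  obtain ⟨k, hk, Q₃, hQ₃, hle₁, hle₂⟩ := step hG hA hqA hN hAN (hU hX₁) (hU hX₂)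
  obtain ⟨a, ha, hae⟩ := hbig hX₁ hQ₃ (lt_of_lt_of_le (lt_inf_normalizer hq1 hlt₁)
    (le_inf inf_le_left hle₁))
  obtain ⟨b, hb, hbe⟩ := hbig (conj_max k (mem_normalizer_of_mem_K hG hA hqA hk) hQ₃) hX₂
    (lt_of_lt_of_le (lt_inf_normalizer (inv_isPGroup hX₂.1) hlt₂) (le_inf hle₂ inf_le_left))
  exact hX ⟨b * (k * a), mul_mem hb (mul_mem hk ha), by
    rw [hbe, hae, conj_map_mul, conj_map_mul]; group⟩

/-- BG 7.2. -/
theorem conj_of_meets {Q₁ Q₂ H : Subgroup G} (h₁ : Q₁ ∈ maxInvSubgroups ⊤ A {q})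
    (h₂ : Q₂ ∈ maxInvSubgroups ⊤ A {q}) (hH : H ≠ ⊤) (hAH : A ≤ H) (hH₁ : H ⊓ Q₁ ≠ ⊥)
    (hH₂ : H ⊓ Q₂ ≠ ⊥) : ∃ k ∈ K₀, Q₂ = Q₁.map (MulAut.conj k).toMonoidHom := by
  have hU : ∀ {Z}, Z ∈ maxInvSubgroups ⊤ A {q} → H ⊓ Z ∈ invSubgroups H A {q} := fun {Z} hZ =>
    mem_inv_of_isPGroup inf_le_left ((inv_isPGroup hZ.1).to_le inf_le_right)
      (le_normalizer_inf_of_le (hAH.trans Subgroup.le_normalizer) hZ.1.2.2)
  obtain ⟨k, hk, Q₃, hQ₃, hle₁, hle₂⟩ := step hG hA hqA hH hAH (hU h₁) (hU h₂)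
  obtain ⟨a, ha, hae⟩ := conj_of_inf_ne_bot hG hA hqA h₁ hQ₃
    fun e => hH₁ (le_bot_iff.1 (e ▸ le_inf inf_le_right hle₁))
  obtain ⟨b, hb, hbe⟩ := conj_of_inf_ne_bot hG hA hqA
    (conj_max k (mem_normalizer_of_mem_K hG hA hqA hk) hQ₃) h₂
    fun e => hH₂ (le_bot_iff.1 (e ▸ le_inf hle₂ inf_le_right))
  exact ⟨b * (k * a), mul_mem hb (mul_mem hk ha), by
    rw [hbe, hae, conj_map_mul, conj_map_mul]; group⟩

theorem ne_bot_of_pair {Q₁ Q₂ : Subgroup G} (h₁ : Q₁ ∈ maxInvSubgroups ⊤ A {q})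
    (h₂ : Q₂ ∈ maxInvSubgroups ⊤ A {q}) :
    (∃ k ∈ K₀, Q₂ = Q₁.map (MulAut.conj k).toMonoidHom) ∨ (Q₁ ≠ ⊥ ∧ Q₂ ≠ ⊥) := by
  by_cases hb₁ : Q₁ = ⊥
  · exact Or.inl ⟨1, one_mem _, by rw [map_conj_one, max_eq_bot h₁ hb₁ h₂]⟩
  by_cases hb₂ : Q₂ = ⊥
  · exact Or.inl ⟨1, one_mem _, by rw [map_conj_one, max_eq_bot h₂ hb₂ h₁]⟩
  exact Or.inr ⟨hb₁, hb₂⟩

theorem le_centralizer_of_mem_inf {b : G} (hb : b ∈ A ⊓ Subgroup.centralizer (A : Set G)) :
    A ≤ Subgroup.centralizer ({b} : Set G) := fun a ha =>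
  Subgroup.mem_centralizer_singleton_iff.2 (Subgroup.mem_centralizer_iff.1 hb.2 a ha)

/-- BG 7.3 for centres of rank at least three. -/
theorem conj_of_rank_three {p : ℕ} [Fact p.Prime] {B : Subgroup G} (hB : IsElementaryAbelian p B)
    (hB3 : p ^ 3 ≤ Nat.card B) (hBZ : B ≤ A ⊓ Subgroup.centralizer (A : Set G))
    {Q₁ Q₂ : Subgroup G} (h₁ : Q₁ ∈ maxInvSubgroups ⊤ A {q})
    (h₂ : Q₂ ∈ maxInvSubgroups ⊤ A {q}) :
    ∃ k ∈ K₀, Q₂ = Q₁.map (MulAut.conj k).toMonoidHom := by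
  rcases ne_bot_of_pair hG hA hqA h₁ h₂ with h | ⟨hb₁, hb₂⟩
  · exact h
  haveI := hB.1
  have hfix : ∀ {Q}, Q ∈ maxInvSubgroups ⊤ A {q} → Q ≠ ⊥ → ∃ B₀, B₀ ≤ B ∧
      (∃ a ∈ B, B₀ ⊔ Subgroup.zpowers a = B) ∧
        Q ⊓ Subgroup.centralizer (B₀ : Set G) ≠ ⊥ := by
    intro Q hQ hQ1
    by_contra! hno
    refine hQ1 (le_bot_iff.1 (le_of_cocyclic_centralizers
      ((hBZ.trans inf_le_left).trans hQ.1.2.2) ?_ fun B₀ hB₀ hc => (hno B₀ hB₀ hc).le))
    exact (coprime_self (inv_piNat hqA hQ.1)).coprime_dvd_left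
      (Subgroup.card_dvd_of_le (hBZ.trans inf_le_left))
  obtain ⟨B₁, hB₁, c₁, e₁⟩ := hfix h₁ hb₁
  obtain ⟨B₂, hB₂, c₂, e₂⟩ := hfix h₂ hb₂
  obtain ⟨b, hb, hb1⟩ := (B₁ ⊓ B₂).bot_or_exists_ne_one.resolve_left
    (Sig.inf_ne_bot_of_cocyclic hB hB3 hB₁ hB₂ c₁ c₂)
  have hmeet : ∀ {B₀ Q : Subgroup G}, b ∈ B₀ → Q ⊓ Subgroup.centralizer (B₀ : Set G) ≠ ⊥ →
      Subgroup.centralizer ({b} : Set G) ⊓ Q ≠ ⊥ := fun {B₀ Q} hb0 h e =>
    h (le_bot_iff.1 (e ▸ le_inf (inf_le_right.trans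
      (Subgroup.centralizer_le (Set.singleton_subset_iff.2 hb0))) inf_le_left))
  exact conj_of_meets hG hA hqA h₁ h₂ (centralizer_singleton_ne_top hG hb1)
    (le_centralizer_of_mem_inf hG hA hqA (hBZ (hB₁ hb.1))) (hmeet hb.1 e₁) (hmeet hb.2 e₂)

/-- BG 7.3 for centres of rank two. -/
theorem conj_of_rank_two {B : Subgroup G} [IsMulCommutative B] (hB : ¬ IsCyclic B)
    (hBZ : B ≤ A ⊓ Subgroup.centralizer (A : Set G)) (hqC : q ∣ Nat.card (Subgroup.centralizer (A : Set G)))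
    {Q₁ Q₂ : Subgroup G} (h₁ : Q₁ ∈ maxInvSubgroups ⊤ A {q})
    (h₂ : Q₂ ∈ maxInvSubgroups ⊤ A {q}) :
    ∃ k ∈ K₀, Q₂ = Q₁.map (MulAut.conj k).toMonoidHom := by
  obtain ⟨t, ht⟩ := exists_prime_orderOf_dvd_card' q hqC
  set T := Subgroup.zpowers (t : G)
  have hTq : IsPGroup q T := IsPGroup.of_card (n := 1) (by
    rw [Nat.card_zpowers, Subgroup.orderOf_coe, ht, pow_one])
  have hTC : T ≤ Subgroup.centralizer (A : Set G) := Subgroup.zpowers_le.2 t.2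
  have hT1 : T ≠ ⊥ := by
    rw [Ne, Subgroup.zpowers_eq_bot]
    exact fun e => hq.out.ne_one (by rw [← ht, ← Subgroup.orderOf_coe, e, orderOf_one])
  obtain ⟨Q₃, hQ₃, hTQ⟩ := exists_max_ge (mem_inv_of_isPGroup le_top hTq
    ((Subgroup.le_centralizer_iff.1 hTC).trans (Subgroup.centralizer_le_normalizer _)))
  have hrel : ∀ {Q}, Q ∈ maxInvSubgroups ⊤ A {q} → Q ≠ ⊥ →
      ∃ k ∈ K₀, Q = Q₃.map (MulAut.conj k).toMonoidHom := by
    intro Q hQ hQ1
    by_contra hno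
    refine hQ1 (le_bot_iff.1 (le_of_noncyclic_centralizers hB
      ((hBZ.trans inf_le_left).trans hQ.1.2.2)
      ((coprime_self (inv_piNat hqA hQ.1)).coprime_dvd_left
        (Subgroup.card_dvd_of_le (hBZ.trans inf_le_left))) fun b hb hb1 => ?_))
    by_contra hne
    refine hno (conj_of_meets hG hA hqA hQ₃ hQ (centralizer_singleton_ne_top hG hb1)
      (le_centralizer_of_mem_inf hG hA hqA (hBZ hb)) (fun e => hT1 (le_bot_iff.1 (e ▸ le_inf
        (hTC.trans (Subgroup.centralizer_le (Set.singleton_subset_iff.2 (hBZ hb).1))) hTQ))) ?_)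
    rw [inf_comm]; exact fun e => hne e.le
  rcases ne_bot_of_pair hG hA hqA h₁ h₂ with h | ⟨hb₁, hb₂⟩
  · exact h
  obtain ⟨a, ha, hae⟩ := hrel h₁ hb₁
  obtain ⟨b, hb, hbe⟩ := hrel h₂ hb₂
  exact ⟨b * a⁻¹, mul_mem hb (inv_mem ha), by rw [hbe, hae, conj_map_mul, inv_mul_cancel_right]⟩

/-- A nontrivial maximal `P`-invariant `q`-subgroup is a maximal `A`-invariant one. -/
theorem max_of_max {P Q : Subgroup G} (hAP : A ≤ P)
    (hPπ : ∀ r : ℕ, r.Prime → r ∣ Nat.card P → r ∣ Nat.card A)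
    (hQ : Q ∈ maxInvSubgroups ⊤ P {q}) (hQ1 : Q ≠ ⊥) : Q ∈ maxInvSubgroups ⊤ A {q} := by
  obtain ⟨R, hR, hQR⟩ := exists_max_ge (P := A) ⟨hQ.1.1, hQ.1.2.1, hAP.trans hQ.1.2.2⟩
  have hQq := inv_isPGroup hQ.1
  have hRq := inv_isPGroup hR.1
  rcases eq_or_lt_of_le hQR with e | hlt
  · exact e ▸ hR
  exfalso
  set X := Subgroup.normalizer (Q : Set G)
  have hX : X ≠ ⊤ := normalizer_ne_top hG hQ1 (ne_top_of_solvable hG
    (haveI := hQq.isNilpotent; inferInstance))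
  set Y := piCoreOf (pc A) X
  have hPY : P ≤ Subgroup.normalizer (Y : Set G) :=
    hQ.1.2.2.trans (Subgroup.le_normalizer.trans (normalizes_piCoreOf _ _))
  have hU : R ⊓ X ≤ Y := le_core hG hA hX (hAP.trans hQ.1.2.2) ⟨inf_le_right,
    (inv_piNat hqA hR.1).of_dvd (Subgroup.card_dvd_of_le inf_le_left),
    le_normalizer_inf_of_le hR.1.2.2 ((hAP.trans hQ.1.2.2).trans Subgroup.le_normalizer)⟩
  obtain ⟨S, hS, hPS⟩ := exists_invariant_sylow_ge (p := q) hPY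
    (coprime_of_piNat hPπ (piNat_piCoreOf _ _))
    (Or.inr (solvable_proper hG fun e => hX (top_le_iff.1 (e ▸ piCoreOf_le _ _))))
    ((le_inf hQR Subgroup.le_normalizer).trans hU) hQq hQ.1.2.2
  have hSQ := hQ.2 _ (mem_inv_of_isPGroup le_top (S.2.map Y.subtype) hPS) hS
  have h3 := lt_inf_normalizer hRq hlt
  set W := R ⊓ X
  have hWq : IsPGroup q (W.subgroupOf Y) :=
    (hRq.to_le inf_le_left : IsPGroup q W).comap_of_injective Y.subtype Y.subtype_injective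
  have hle : (S : Subgroup Y) ≤ W.subgroupOf Y := fun y hy => by
    have hy' : (y : G) ∈ Q := hSQ ▸ Subgroup.mem_map_of_mem Y.subtype hy
    exact Subgroup.mem_subgroupOf.2 (h3.le hy')
  have e := congrArg (Subgroup.map Y.subtype) (S.3 hWq hle)
  rw [Subgroup.map_subgroupOf_eq_of_le hU, hSQ] at e
  exact h3.ne' e

/-- The transitivity property of an overgroup `P` of `A`. -/
def Good (A : Subgroup G) (q : ℕ) (P : Subgroup G) : Prop :=
  (∀ Q₁ ∈ maxInvSubgroups ⊤ P {q}, ∀ Q₂ ∈ maxInvSubgroups ⊤ P {q},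
    ∃ k ∈ piCoreOf (pc A) (Subgroup.centralizer (P : Set G)),
      Q₂ = Q₁.map (MulAut.conj k).toMonoidHom) ∧
  maxInvSubgroups ⊤ P {q} ⊆ maxInvSubgroups ⊤ A {q}

theorem good_step {H P : Subgroup G} (hAH : A ≤ H) (hHP : H ≤ P)
    (hPH : P ≤ Subgroup.normalizer (H : Set G))
    (hPπ : ∀ r : ℕ, r.Prime → r ∣ Nat.card P → r ∣ Nat.card A)
    (hgood : Good A q H) : Good A q P := by
  letI : MulAction G (Subgroup G) := MulAction.compHom _ (MulAut.conj : G →* MulAut G)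
  have hsmul : ∀ (g : G) (X : Subgroup G), g • X = X.map (MulAut.conj g).toMonoidHom := fun g X =>
    conj_smul_eq_map g X
  set KH := piCoreOf (pc A) (Subgroup.centralizer (H : Set G)) with hKH
  have hPK : P ≤ Subgroup.normalizer (KH : Set G) := by
    refine hPH.trans (le_trans ?_ (normalizes_piCoreOf _ _))
    intro g hg
    refine Subgroup.mem_normalizer_fintype fun c hc => Subgroup.mem_centralizer_iff.2 fun x hx => ?_
    have h1 : g⁻¹ * x * g ∈ H := by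
      simpa using (Subgroup.mem_normalizer_iff.1 (inv_mem hg) x).1 hx
    have h2 := Subgroup.mem_centralizer_iff.1 hc _ h1
    calc x * (g * c * g⁻¹) = g * ((g⁻¹ * x * g) * c) * g⁻¹ := by group
      _ = g * (c * (g⁻¹ * x * g)) * g⁻¹ := by rw [h2]
      _ = _ := by group
  have hcop := coprime_of_piNat hPπ (piNat_piCoreOf (pc A) (Subgroup.centralizer (H : Set G)))
  have hCA : Subgroup.centralizer (H : Set G) ≤ Subgroup.centralizer (A : Set G) :=
    Subgroup.centralizer_le hAH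
  have hs : Group.IsSolvable P ∨ Group.IsSolvable KH := Or.inr (solvable_proper hG fun e =>
    normalizer_ne_top hG hA.1 hA.2.1 (top_le_iff.1 (e ▸ ((piCoreOf_le _ _).trans hCA).trans
      (Subgroup.centralizer_le_normalizer _))))
  have hfix : ∀ {Q : Subgroup G}, P ≤ Subgroup.normalizer (Q : Set G) → ∀ a ∈ P, a • Q = Q :=
    fun hQ a ha => by rw [hsmul]; exact Subgroup.mem_normalizer_iff_map_conj_eq.1 (hQ ha)
  -- a member of the maximal `H`-invariant family fixed by `P`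
  obtain ⟨Q₀, hQ₀, -⟩ := exists_max_ge (U := ⊥) (P := H) (q := q)
    (mem_inv_of_isPGroup le_top IsPGroup.of_bot
      (le_top.trans (Subgroup.normalizer_eq_top (H := (⊥ : Subgroup G))).ge))
  obtain ⟨k, hk, hkfix⟩ := exists_fixed_in_orbit hPK hcop hs Q₀ (fun a ha => by
    obtain ⟨k, hk, e⟩ := hgood.1 Q₀ hQ₀ _ (conj_max a (hPH ha) hQ₀)
    exact ⟨k, hk, by rw [hsmul, hsmul, e]⟩)
  have hkN : k ∈ Subgroup.normalizer (H : Set G) :=
    Subgroup.centralizer_le_normalizer _ (piCoreOf_le _ _ hk)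
  have hQ₁ : k • Q₀ ∈ maxInvSubgroups ⊤ H {q} := by rw [hsmul]; exact conj_max k hkN hQ₀
  have hQ₁P : P ≤ Subgroup.normalizer ((k • Q₀ : Subgroup G) : Set G) := fun a ha => by
    rw [Subgroup.mem_normalizer_iff_map_conj_eq]
    exact (hsmul a (k • Q₀)).symm.trans (hkfix a ha)
  have hsub : maxInvSubgroups ⊤ P {q} ⊆ maxInvSubgroups ⊤ A {q} := by
    intro Q hQ
    by_cases hb : Q = ⊥
    · have e := hQ.2 (k • Q₀) ⟨le_top, hQ₁.1.2.1, hQ₁P⟩ (hb ▸ bot_le)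
      rw [← e]; exact hgood.2 hQ₁
    · exact max_of_max hG hA hqA (hAH.trans hHP) hPπ hQ hb
  refine ⟨fun Q₁ h₁ Q₂ h₂ => ?_, hsub⟩
  have hup : ∀ {Q}, Q ∈ maxInvSubgroups ⊤ P {q} → Q ∈ maxInvSubgroups ⊤ H {q} := fun {Q} hQ =>
    ⟨⟨hQ.1.1, hQ.1.2.1, hHP.trans hQ.1.2.2⟩,
      fun R hR hle => (hsub hQ).2 R ⟨hR.1, hR.2.1, hAH.trans hR.2.2⟩ hle⟩
  obtain ⟨c, hc, e⟩ := hgood.1 Q₁ (hup h₁) Q₂ (hup h₂)
  obtain ⟨d, hd, hde⟩ := exists_centralizing_smul_eq hPK hcop hs (hfix h₁.1.2.2) (hfix h₂.1.2.2)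
    hc (by rw [hsmul, e])
  refine ⟨d, le_piCoreOf inf_le_right ?_ ((piNat_piCoreOf (pc A) _).of_dvd
    (Subgroup.card_dvd_of_le inf_le_left)) hd, by rw [← hde, hsmul]⟩
  exact le_normalizer_inf_of_le ((Subgroup.centralizer_le hHP).trans
    (Subgroup.le_normalizer.trans (normalizes_piCoreOf _ _))) Subgroup.le_normalizer

theorem good_of_subnormal {P : Subgroup G}
    (hPπ : ∀ r : ℕ, r.Prime → r ∣ Nat.card P → r ∣ Nat.card A) (hAP : A ≤ P)
    (hsn : (A.subgroupOf P).IsSubnormal) (hgood : Good A q A) : Good A q P := by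
  suffices h : ∀ H : Subgroup P, H.IsSubnormal → A ≤ H.map P.subtype →
      Good A q (H.map P.subtype) → Good A q P by
    exact h _ hsn (Subgroup.map_subgroupOf_eq_of_le hAP).ge
      ((Subgroup.map_subgroupOf_eq_of_le hAP).symm ▸ hgood)
  intro H hH
  induction hH with
  | top => intro _ h; rwa [← MonoidHom.range_eq_map, Subgroup.range_subtype] at h
  | step H K hle hK hN ih =>
    intro hAH h
    haveI := hN
    refine ih (hAH.trans (Subgroup.map_mono hle)) (good_step hG hA hqA hAH (Subgroup.map_mono hle) ?_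
      (fun r hr hd => hPπ r hr (hd.trans ((card_map_subtype P K).symm ▸ K.card_subgroup_dvd_card))) h)
    exact (Subgroup.map_mono ((Subgroup.normal_subgroupOf_iff_le_normalizer hle).1 hN)).trans
      (Subgroup.le_normalizer_map _)

end Hyp

end CfsgLib.OddLocal.Trans
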