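import Cfsg.Agent.OddLocal.Uniqueness

/-!
Bender–Glauberman, Section 8: elementary properties of subgroups lying in a unique maximal subgroup.
-/

set_option autoImplicit false
set_option linter.style.haveILetI false
set_option linter.unusedSectionVars false

open Cfsg CfsgLib.Solv

namespace CfsgLib.OddLocal.Uniq

variable {G : Type*} [Group G] [Finite G] (hG : IsMinSimpleOddOrder G)
include hG

omit hG in
theorem exists_coatom {X : Subgroup G} (hX : X ≠ ⊤) : ∃ M, IsCoatom M ∧ X ≤ M :=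
  (eq_top_or_exists_le_coatom X).resolve_left hX

omit hG in
theorem le_unique {L M : Subgroup G} (hL : InUniqueMaximal L) (hM : IsCoatom M) (hLM : L ≤ M)
    {X : Subgroup G} (hX : X ≠ ⊤) (hLX : L ≤ X) : X ≤ M := by
  obtain ⟨M', hM', hXM'⟩ := exists_coatom hX
  obtain ⟨M₀, -, hu⟩ := hL
  rw [hu M ⟨hM, hLM⟩, ← hu M' ⟨hM', hLX.trans hXM'⟩]
  exact hXM'

omit hG in
theorem mono {L K : Subgroup G} (hL : InUniqueMaximal L) (hLK : L ≤ K) (hK : K ≠ ⊤) :
    InUniqueMaximal K := by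
  obtain ⟨M', hM', hKM'⟩ := exists_coatom hK
  obtain ⟨M₀, -, hu⟩ := hL
  exact ⟨M', ⟨hM', hKM'⟩, fun N hN => by rw [hu N ⟨hN.1, hLK.trans hN.2⟩, hu M' ⟨hM', hLK.trans hKM'⟩]⟩

theorem ne_bot {L : Subgroup G} (hL : InUniqueMaximal L) : L ≠ ⊥ := by
  rintro rfl
  obtain ⟨M, hM, hu⟩ := hL
  refine hM.1.1 (eq_top_iff.2 fun g _ => ?_)
  obtain ⟨M', hM', hg⟩ := exists_coatom (Trans.ne_top_of_solvable hG
    (CfsgLib.Solv.isSolvable_of_isMulCommutative (Subgroup.zpowers g)))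
  rw [← hu M' ⟨hM', bot_le⟩]
  exact hg (Subgroup.mem_zpowers g)

/-- BG 8.1: `K ≤ C(L)` of rank at least two lies in a unique maximal subgroup with `L`. -/
theorem of_centralizing {p : ℕ} [Fact p.Prime] {L B : Subgroup G} (hL : InUniqueMaximal L)
    (hBp : IsPGroup p B) (hBc : IsMulCommutative B) (hBnc : ¬ IsCyclic B)
    (hB : B ≤ Subgroup.centralizer (L : Set G)) : InUniqueMaximal B := by
  obtain ⟨M, ⟨hM, hLM⟩, -⟩ := id hL
  have hLt : L ≠ ⊤ := fun e => hM.1 (top_le_iff.1 (e ▸ hLM))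
  refine inUniqueMaximal_of_centralizers hG hM hBp hBc hBnc
    (hB.trans ((Subgroup.centralizer_le_normalizer _).trans
      (le_unique hL hM hLM (Trans.normalizer_ne_top hG (ne_bot hG hL) hLt) Subgroup.le_normalizer)))
    fun b hb hb1 => ?_
  exact le_unique hL hM hLM (Trans.centralizer_singleton_ne_top hG hb1) fun l hl =>
    Subgroup.mem_centralizer_singleton_iff.2 (Subgroup.mem_centralizer_iff.1 (hB hb) l hl)

theorem conj {L : Subgroup G} (hL : InUniqueMaximal L) (g : G) :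
    InUniqueMaximal (L.map (MulAut.conj g).toMonoidHom) := by
  obtain ⟨M, ⟨hM, hLM⟩, hu⟩ := hL
  have hco : ∀ (h : G) {N : Subgroup G}, IsCoatom N → IsCoatom (N.map (MulAut.conj h).toMonoidHom) :=
    fun h N hN => ((MulAut.conj h).mapSubgroup.isCoatom_iff N).2 hN
  refine ⟨_, ⟨hco g hM, Subgroup.map_mono hLM⟩, fun N ⟨hN, hLN⟩ => ?_⟩
  have := hu _ ⟨hco g⁻¹ hN, by
    have h1 := Subgroup.map_mono (f := (MulAut.conj g⁻¹).toMonoidHom) hLN
    rwa [Trans.conj_map_mul, inv_mul_cancel, Trans.map_conj_one] at h1⟩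
  rw [← this, Trans.conj_map_mul, mul_inv_cancel, Trans.map_conj_one]

end CfsgLib.OddLocal.Uniq

namespace CfsgLib.OddLocal.Uniq

variable {G : Type*} [Group G] [Finite G] {p : ℕ} [hp : Fact p.Prime]

theorem exists_cube {X : Subgroup G} (h : ¬ PRankLE p 2 X) :
    ∃ E : Subgroup G, E ≤ X ∧ IsElementaryAbelian p E ∧ p ^ 3 ≤ Nat.card E := by
  simp only [PRankLE, not_forall, not_le] at h
  obtain ⟨B, hB, hBp, hlt⟩ := h
  refine ⟨B.map X.subtype, Subgroup.map_subtype_le _, ⟨⟨⟨?_⟩⟩, ?_⟩, ?_⟩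
  · rintro ⟨_, a, ha, rfl⟩ ⟨_, b, hb, rfl⟩
    exact Subtype.ext (congrArg (fun z : B => ((z : X) : G)) (hB.is_comm.comm ⟨a, ha⟩ ⟨b, hb⟩))
  · rintro _ ⟨a, ha, rfl⟩
    rw [← map_pow, hBp a ha, map_one]
  · rw [Subgroup.card_map_of_injective X.subtype_injective]
    obtain ⟨n, hn⟩ := (IsPGroup.iff_card (p := p) (G := B)).1
      (fun x => ⟨1, by rw [pow_one]; exact Subtype.ext (hBp x x.2)⟩)
    rw [hn] at hlt ⊢
    exact Nat.pow_le_pow_right hp.out.pos ((Nat.pow_lt_pow_iff_right hp.out.one_lt).1 hlt)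

theorem isPGroup_elementary {E : Subgroup G} (hE : IsElementaryAbelian p E) : IsPGroup p E :=
  fun x => ⟨1, by rw [pow_one]; exact Subtype.ext (hE.2 x x.2)⟩

theorem elementary_of_le {E D : Subgroup G} (hE : IsElementaryAbelian p E) (h : D ≤ E) :
    IsElementaryAbelian p D :=
  ⟨⟨⟨fun a b => Subtype.ext (congrArg (fun w : E => (w : G))
    (hE.1.is_comm.comm ⟨a, h a.2⟩ ⟨b, h b.2⟩))⟩⟩, fun a ha => hE.2 a (h ha)⟩

/-- A normal elementary subgroup of order `p ^ 2` of `P` is centralised by a large part of `E`. -/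
theorem card_le_inf_centralizer {P E F : Subgroup G} (hP : IsPGroup p P) (hEP : E ≤ P) (hFP : F ≤ P)
    (hn : P ≤ Subgroup.normalizer (F : Set G)) (hF : Nat.card F = p ^ 2) :
    Nat.card E ≤ p * Nat.card (E ⊓ Subgroup.centralizer (F : Set G) : Subgroup G) := by
  haveI : (F.subgroupOf P).Normal := Subgroup.normal_subgroupOf_of_le_normalizer hn
  have h1 := index_centralizer_normal_sq hP (F.subgroupOf P) (by rwa [card_subgroupOf hFP])
  have h2 : Subgroup.centralizer ((F.subgroupOf P : Subgroup P) : Set P) ≤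
      (Subgroup.centralizer (F : Set G)).subgroupOf P := fun x hx =>
    Subgroup.mem_subgroupOf.2 (Subgroup.mem_centralizer_iff.2 fun f hf => congrArg Subtype.val
      (Subgroup.mem_centralizer_iff.1 hx ⟨f, hFP hf⟩ (Subgroup.mem_subgroupOf.2 hf)))
  have h3 : (Subgroup.centralizer (F : Set G)).relIndex P ∣ p := (Subgroup.index_dvd_of_le h2).trans h1
  have h4 : (Subgroup.centralizer (F : Set G)).relIndex E ≤
      (Subgroup.centralizer (F : Set G)).relIndex P :=
    Subgroup.relIndex_le_of_le_right hEP (Subgroup.index_ne_zero_of_finite)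
  rw [← Subgroup.relIndex_bot_left E, ← Subgroup.relIndex_mul_relIndex ⊥
    (E ⊓ Subgroup.centralizer (F : Set G)) E bot_le inf_le_left, Subgroup.relIndex_bot_left,
    Subgroup.inf_relIndex_left, mul_comm]
  exact Nat.mul_le_mul_right _ (h4.trans (Nat.le_of_dvd hp.out.pos h3))

theorem exists_square {B : Subgroup G} (hp2 : p ≠ 2) (hB : IsPGroup p B) (hnc : ¬ IsCyclic B) :
    ∃ E : Subgroup G, E ≤ B ∧ IsElementaryAbelian p E ∧ Nat.card E = p ^ 2 ∧
      B ≤ Subgroup.normalizer (E : Set G) := by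
  obtain ⟨E, hEn, hE, hEc⟩ := exists_normal_rank_two _ B p hp2 rfl hB hnc
  refine ⟨E.map B.subtype, Subgroup.map_subtype_le _, ⟨⟨⟨?_⟩⟩, ?_⟩, by rw [card_map_subtype, hEc], ?_⟩
  · rintro ⟨_, a, ha, rfl⟩ ⟨_, b, hb, rfl⟩
    exact Subtype.ext (congrArg (fun z : E => ((z : B) : G)) (hE.1.is_comm.comm ⟨a, ha⟩ ⟨b, hb⟩))
  · rintro _ ⟨a, ha, rfl⟩
    rw [← map_pow, hE.2 a ha, map_one]
  · intro x hx
    exact map_le_normalizer (x := ⟨x, hx⟩) (Subgroup.normalizer_eq_top_iff.2 hEn ▸ Subgroup.mem_top _)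

/-- BG 8.2: one member of rank three puts all noncyclic `p`-groups with large centraliser there. -/
theorem of_rank_three_member (hG : IsMinSimpleOddOrder G) (hp2 : p ≠ 2) {A B : Subgroup G}
    (hAc : IsMulCommutative A) (hA3 : ¬ PRankLE p 2 A) (hAU : InUniqueMaximal A)
    (hBp : IsPGroup p B) (hBnc : ¬ IsCyclic B)
    (hB3 : ¬ PRankLE p 2 (Subgroup.centralizer (B : Set G))) : InUniqueMaximal B := by
  have hsq : ∀ {D : Subgroup G}, IsElementaryAbelian p D → p ^ 2 ≤ Nat.card D → ¬ IsCyclic D :=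
    fun hD h => CfsgLib.Solv.Sig.not_isCyclic hD h
  have hcen : ∀ {L K : Subgroup G}, InUniqueMaximal L → IsElementaryAbelian p K → p ^ 2 ≤ Nat.card K →
      K ≤ Subgroup.centralizer (L : Set G) → InUniqueMaximal K := fun hL hK h hKL =>
    of_centralizing hG hL (isPGroup_elementary hK) hK.1 (hsq hK h) hKL
  obtain ⟨A₁, hA₁, hA₁e, hA₁c⟩ := exists_cube hA3
  have hU₁ : InUniqueMaximal A₁ := hcen hAU hA₁e ((Nat.pow_le_pow_right hp.out.pos (by norm_num)).trans hA₁c)
    fun x hx => Subgroup.mem_centralizer_iff.2 fun a ha =>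
      congrArg (fun w : A => (w : G)) (hAc.is_comm.comm ⟨a, ha⟩ ⟨x, hA₁ hx⟩)
  obtain ⟨P, hP⟩ := (isPGroup_elementary hA₁e).exists_le_sylow
  have hPnc : ¬ IsCyclic (P : Subgroup G) := by
    intro h
    haveI : IsCyclic A₁ := isCyclic_of_injective (Subgroup.inclusion hP) (Subgroup.inclusion_injective hP)
    exact hsq hA₁e ((Nat.pow_le_pow_right hp.out.pos (by norm_num)).trans hA₁c) inferInstance
  obtain ⟨F, hFP, hFe, hFc, hFn⟩ := exists_square hp2 P.isPGroup' hPnc
  have hlarge : ∀ {E : Subgroup G} {g : G}, IsElementaryAbelian p E → p ^ 3 ≤ Nat.card E →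
      E ≤ (P : Subgroup G).map (MulAut.conj g).toMonoidHom →
      p ^ 2 ≤ Nat.card (E ⊓ Subgroup.centralizer
        ((F.map (MulAut.conj g).toMonoidHom : Subgroup G) : Set G) : Subgroup G) := by
    intro E g hE hEc hEP
    have := card_le_inf_centralizer (p := p) (P.isPGroup'.map _) hEP
      (Subgroup.map_mono (f := (MulAut.conj g).toMonoidHom) hFP) (by
        rw [← Trans.map_conj_normalizer]; exact Subgroup.map_mono hFn)
      (by rw [Subgroup.card_map_of_injective (MulAut.conj g).injective, hFc])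
    refine Nat.le_of_mul_le_mul_left ?_ hp.out.pos
    rw [← pow_succ']
    exact hEc.trans this
  have hUF : InUniqueMaximal F := by
    have h1 := hlarge (g := 1) hA₁e hA₁c (by rw [Trans.map_conj_one]; exact hP)
    rw [Trans.map_conj_one] at h1
    set D := A₁ ⊓ Subgroup.centralizer (F : Set G)
    have hUD : InUniqueMaximal D := hcen hU₁ (elementary_of_le hA₁e inf_le_left) h1 fun x hx =>
      Subgroup.mem_centralizer_iff.2 fun a ha =>
        congrArg (fun w : A₁ => (w : G)) (hA₁e.1.is_comm.comm ⟨a, ha⟩ ⟨x, hx.1⟩)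
    exact hcen hUD hFe hFc.ge (Subgroup.le_centralizer_iff.1 inf_le_right)
  obtain ⟨E, hEC, hEe, hEc⟩ := exists_cube hB3
  obtain ⟨Q, hQ⟩ := (isPGroup_elementary hEe).exists_le_sylow
  obtain ⟨g, hg⟩ := MulAction.exists_smul_eq G P Q
  have hEQ : E ≤ (P : Subgroup G).map (MulAut.conj g).toMonoidHom := by
    refine hQ.trans (le_of_eq ?_)
    rw [← hg, Sylow.coe_subgroup_smul, conj_smul_eq_map]
  have h1 := hlarge hEe hEc hEQ
  set D := E ⊓ Subgroup.centralizer ((F.map (MulAut.conj g).toMonoidHom : Subgroup G) : Set G)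
  have hUD : InUniqueMaximal D :=
    hcen (conj hG hUF g) (elementary_of_le hEe inf_le_left) h1 inf_le_right
  have hUE : InUniqueMaximal E :=
    hcen hUD hEe ((Nat.pow_le_pow_right hp.out.pos (by norm_num)).trans hEc) fun x hx =>
      Subgroup.mem_centralizer_iff.2 fun a ha =>
        congrArg (fun w : E => (w : G)) (hEe.1.is_comm.comm ⟨a, ha.1⟩ ⟨x, hx⟩)
  obtain ⟨B₂, hB₂, hB₂e, hB₂c, -⟩ := exists_square hp2 hBp hBnc
  exact mono (hcen hUE hB₂e hB₂c.ge (hB₂.trans (Subgroup.le_centralizer_iff.1 hEC))) hB₂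
    (Trans.ne_top_of_solvable hG (haveI := hBp.isNilpotent; inferInstance))

end CfsgLib.OddLocal.Uniq
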