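import Cfsg.Agent.OddLocal.FittingUnique
import Cfsg.Agent.OddLocal.GoodSub
import Cfsg.Agent.OddLocal.MinSimpleCN
import Cfsg.Agent.OddLocal.Factor
import Cfsg.Agent.S1451

/-!
Bender–Glauberman, Section 9: every self-centralising normal subgroup of rank three of a Sylow
subgroup lies in a unique maximal subgroup.
-/

set_option autoImplicit false
set_option linter.style.haveILetI false
set_option linter.unusedSectionVars false

open Cfsg CfsgLib.Solv
open scoped commutatorElement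

namespace CfsgLib.OddLocal.UniqSCN

open Uniq Bender

section Basic

variable {G : Type*} [Group G] [Finite G]

theorem rank_of_inj {A B : Type*} [Group A] [Group B] (f : A →* B) (hf : Function.Injective f)
    {p k : ℕ} (h : PRankLE p k B) : PRankLE p k A := by
  intro C hC hCp
  have hc : IsMulCommutative (C.map f) := ⟨⟨by
    rintro ⟨_, a, ha, rfl⟩ ⟨_, b, hb, rfl⟩
    exact Subtype.ext ((map_mul f a b).symm.trans ((congrArg (fun z : C => f (z : A))
      (hC.is_comm.comm ⟨a, ha⟩ ⟨b, hb⟩)).trans (map_mul f b a)))⟩⟩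
  have := h _ hc (by
    rintro _ ⟨a, ha, rfl⟩
    rw [← map_pow, hCp a ha, map_one])
  rwa [Subgroup.card_map_of_injective hf] at this

theorem rank_subgroupOf {A B : Subgroup G} {p k : ℕ} (h : A ≤ B) (hA : PRankLE p k A) :
    PRankLE p k (A.subgroupOf B) :=
  rank_of_inj (Subgroup.subgroupOfEquivOfLe h).toMonoidHom
    (Subgroup.subgroupOfEquivOfLe h).injective hA

/-- The image of a characteristic subgroup of `X` is normalised by the normalizer of `X`. -/
theorem normalizes_char {X : Subgroup G} (T : Subgroup X) (hT : T.Characteristic) :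
    Subgroup.normalizer (X : Set G) ≤ Subgroup.normalizer (T.map X.subtype : Set G) := by
  intro g hg
  rw [Subgroup.mem_normalizer_iff_map_conj_eq]
  show (T.map X.subtype).map _ = T.map X.subtype
  rw [Subgroup.map_map]
  have h1 := Subgroup.characteristic_iff_map_eq.1 hT (Subgroup.normalizerMonoidHom X ⟨g, hg⟩)
  conv_rhs => rw [← h1, Subgroup.map_map]
  rfl

theorem mem_commutator_coe {N : Subgroup G} {x : N} (h : (x : G) ∈ ⁅N, N⁆) : x ∈ commutator N := by
  rw [← Subgroup.map_subtype_commutator N] at h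
  exact (Subgroup.mem_map_iff_mem N.subtype_injective).1 h

/-- In `N = K N₁` a `p`-element of `N₁ ∩ N'` lies in `N₁'`, for a normal `p'`-subgroup `K`. -/
theorem derived_of_factor {p : ℕ} [hp : Fact p.Prime] {N K N₁ : Subgroup G} (hKN : K ≤ N)
    (hn : N ≤ Subgroup.normalizer (K : Set G)) (hK : (Nat.card K).Coprime p) (h₁ : N₁ ≤ N)
    (hfac : N ≤ K ⊔ N₁) {x : G} (hx₁ : x ∈ N₁) (hxp : ∃ j : ℕ, x ^ p ^ j = 1)
    (hxN : x ∈ ⁅N, N⁆) : x ∈ ⁅N₁, N₁⁆ := by
  haveI : (K.subgroupOf N).Normal := Subgroup.normal_subgroupOf_of_le_normalizer hn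
  set x' : N := ⟨x, h₁ hx₁⟩
  have hsup : K.subgroupOf N ⊔ N₁.subgroupOf N = ⊤ := by
    rw [← Subgroup.subgroupOf_sup hKN h₁, Subgroup.subgroupOf_eq_top]
    exact hfac
  have hle : Subgroup.zpowers x' ≤ N₁.subgroupOf N :=
    Subgroup.zpowers_le.2 (Subgroup.mem_subgroupOf.2 hx₁)
  have hcop : (Nat.card (Subgroup.zpowers x')).Coprime (Nat.card (K.subgroupOf N)) := by
    rw [card_subgroupOf hKN, Nat.card_zpowers, show orderOf x' = orderOf x from Subgroup.orderOf_mk _ _]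
    obtain ⟨j, hj⟩ := hxp
    exact (hK.symm.pow_left j).coprime_dvd_left (orderOf_dvd_of_pow_eq_one hj)
  have h1 : x' ∈ Subgroup.zpowers x' ⊓ _root_.commutator N :=
    ⟨Subgroup.mem_zpowers _, mem_commutator_coe hxN⟩
  rw [CfsgLib.OddLocal.focal_inf hsup hle hcop] at h1
  have h2 := Subgroup.mem_map_of_mem N.subtype h1.2
  rwa [Subgroup.map_commutator, Subgroup.map_subgroupOf_eq_of_le h₁] at h2

variable {p : ℕ} [hp : Fact p.Prime]

/-- A Sylow subgroup lies in the derived group of the normalizer of `Z(J(P))`. -/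
theorem le_commutator_normalizer_zJ (hG : IsMinSimpleOddOrder G) (hpG : p ∣ Nat.card G)
    (P : Sylow p G) : (P : Subgroup G) ≤
      ⁅Subgroup.normalizer (CfsgLib.Inv.ZJ.zJ 0 (P : Subgroup G) : Set G),
        Subgroup.normalizer (CfsgLib.Inv.ZJ.zJ 0 (P : Subgroup G) : Set G)⁆ := by
  haveI := hG.2.1
  set N := Subgroup.normalizer (CfsgLib.Inv.ZJ.zJ 0 (P : Subgroup G) : Set G)
  have hfus := CfsgLib.OddLocal.CN.odd_control hG.1 hpG P
  have hctrl : ∀ x ∈ (P : Subgroup G), ∀ g : G, g * x * g⁻¹ ∈ (P : Subgroup G) →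
      ∃ v ∈ N, v * x * v⁻¹ = g * x * g⁻¹ := by
    intro x hx g hgx
    obtain ⟨v, hv, hve⟩ := hfus (Subgroup.zpowers x) (Subgroup.zpowers_le.2 hx) g trivial (by
      rw [CfsgLib.Glau.cj, MonoidHom.map_zpowers, Subgroup.zpowers_le]; exact hgx)
    exact ⟨v, hv, hve x (Subgroup.mem_zpowers x)⟩
  have htop : commutator G = ⊤ := by
    refine ((inferInstance : (commutator G).Normal).eq_bot_or_eq_top).resolve_left fun h => ?_
    refine hG.2.2.1 ⟨⟨fun x y => ?_⟩⟩
    have h1 : ⁅x, y⁆ ∈ commutator G :=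
      Subgroup.commutator_mem_commutator (Subgroup.mem_top x) (Subgroup.mem_top y)
    rw [h, Subgroup.mem_bot] at h1
    exact commutatorElement_eq_one_iff_mul_comm.1 h1
  have hfoc := Subgroup.commutator_inf_eq_focalSubgroup P
  rw [htop, top_inf_eq] at hfoc
  refine hfoc.le.trans ?_
  rw [Subgroup.focalSubgroup_def, Subgroup.closure_le]
  rintro z ⟨hz, x, hx, u, rfl⟩
  have hPN : (P : Subgroup G) ≤ N :=
    Subgroup.le_normalizer.trans (CfsgLib.Inv.ZJ.normalizer_le_zJ _)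
  have hmem : u * x⁻¹ * u⁻¹ ∈ (P : Subgroup G) := by
    have h1 := mul_mem (inv_mem hx) hz
    rwa [show x⁻¹ * ⁅x, u⁆ = u * x⁻¹ * u⁻¹ by simp [commutatorElement_def, mul_assoc]] at h1
  obtain ⟨v, hv, he⟩ := hctrl x⁻¹ (inv_mem hx) u hmem
  rw [show ⁅x, u⁆ = x * (u * x⁻¹ * u⁻¹) by simp [commutatorElement_def, mul_assoc], ← he,
    show x * (v * x⁻¹ * v⁻¹) = ⁅x, v⁆ by simp [commutatorElement_def, mul_assoc]]
  exact Subgroup.commutator_mem_commutator (hPN hx) hv

end Basic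

section Main

variable {G : Type*} [Group G] [Finite G]

/-- The data extracted from a maximal subgroup with `O_s` of rank three. -/
structure Big (A L : Subgroup G) (s : ℕ) (F V : Subgroup G) : Prop where
  coatom : IsCoatom L
  prime : s.Prime
  notDvd : ¬ s ∣ Nat.card A
  le : A ≤ L
  rank : ¬ PRankLE s 2 (fittingOf L)
  F_le : F ≤ L
  F_normal : A ≤ Subgroup.normalizer (F : Set G)
  F_pow : ∀ x ∈ F, x ^ s = 1
  F_noncyclic : ¬ IsCyclic F
  F_member : ∀ B : Subgroup G, B ≤ F → ¬ IsCyclic B → InUniqueMaximal B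
  V_le : V ≤ L
  V_pGroup : IsPGroup s V
  V_normal : A ≤ Subgroup.normalizer (V : Set G)
  V_member : InUniqueMaximal V
  V_centralizer : ∀ w ∈ V, w ≠ 1 → Subgroup.centralizer ({w} : Set G) ≤ L

variable (hG : IsMinSimpleOddOrder G)
include hG

theorem member_of_rank_three {L : Subgroup G} (hL : IsCoatom L) {s : ℕ} [hs : Fact s.Prime]
    (hrank : ¬ PRankLE s 2 (fittingOf L)) {U : Subgroup G} (hU : IsPGroup s U)
    (hU3 : ¬ PRankLE s 2 U) : InUniqueMaximal U := by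
  obtain ⟨E, hEU, hEe, hE3⟩ := exists_cube hU3
  have hUE : InUniqueMaximal E := by
    refine FitUniq.of_fitting_rank_three hG hL hrank (isPGroup_elementary hEe)
      (Sig.not_isCyclic hEe ((Nat.pow_le_pow_right hs.out.pos (by norm_num)).trans hE3)) fun h => ?_
    have hEC : E ≤ Subgroup.centralizer (E : Set G) := fun x hx =>
      Subgroup.mem_centralizer_iff.2 fun y hy =>
        congrArg (fun w : E => (w : G)) (hEe.1.is_comm.comm ⟨y, hy⟩ ⟨x, hx⟩)
    have h1 := FitUniq.rank_of_le hEC h ⊤ (by haveI := hEe.1; infer_instance)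
      fun a _ => Subtype.ext (hEe.2 a a.2)
    rw [Subgroup.card_top] at h1
    exact absurd (hE3.trans h1) (not_le.2 (Nat.pow_lt_pow_right hs.out.one_lt (by norm_num)))
  exact mono hUE hEU (Trans.ne_top_of_solvable hG (haveI := hU.isNilpotent; inferInstance))

theorem exists_big {A L : Subgroup G} (hL : IsCoatom L) {s : ℕ} [hs : Fact s.Prime]
    (hAL : A ≤ L) (hsA : ¬ s ∣ Nat.card A) (hrank : ¬ PRankLE s 2 (fittingOf L)) :
    ∃ F V : Subgroup G, Big A L s F V := by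
  have hsG : s ∣ Nat.card G := by
    obtain ⟨E, -, hEe, hE3⟩ := exists_cube hrank
    obtain ⟨n, hn⟩ := Sig.card_eq_pow hEe
    refine dvd_trans ?_ (Subgroup.card_subgroup_dvd_card E)
    rw [hn]
    refine dvd_pow_self s fun e => ?_
    rw [hn, e, pow_zero] at hE3
    exact absurd hE3 (not_le.2 (Nat.one_lt_pow (by norm_num) hs.out.one_lt))
  have hs2 := TransHyp.ne_two hG hsG
  set R := opc s L with hR
  have hRp : IsPGroup s R := isPGroup_opc s L
  have hR3 : ¬ PRankLE s 2 R := by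
    intro h
    obtain ⟨E, hEF, hEe, hE3⟩ := exists_cube hrank
    have hER : E ≤ R := FitUniq.le_opc_of_le_fittingOf hEF (isPGroup_elementary hEe)
    have h1 := FitUniq.rank_of_le hER h ⊤ (by haveI := hEe.1; infer_instance)
      fun a _ => Subtype.ext (hEe.2 a a.2)
    rw [Subgroup.card_top] at h1
    exact absurd (hE3.trans h1) (not_le.2 (Nat.pow_lt_pow_right hs.out.one_lt (by norm_num)))
  obtain ⟨F₀, V₀, hFc, hVc, hFnc, hFpow, hV3, hmem, hw⟩ := GoodSub.exists_good hs2 hRp hR3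
  have hRL : R ≤ L := Subgroup.map_subtype_le _
  have hAN : A ≤ Subgroup.normalizer (R : Set G) := hAL.trans (FitUniq.normalizes_opc_le L s)
  have hmember : ∀ B : Subgroup G, B ≤ F₀.map R.subtype → ¬ IsCyclic B → InUniqueMaximal B := by
    intro B hB hBnc
    have hBR : B ≤ R := hB.trans (Subgroup.map_subtype_le _)
    obtain ⟨E, hEB, hEe, hE2, hE3⟩ := hmem (B.subgroupOf R) (fun x hx => by
        obtain ⟨y, hy, hye⟩ := hB (Subgroup.mem_subgroupOf.1 hx)
        rwa [← R.subtype_injective hye])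
      (fun h => hBnc ((Subgroup.subgroupOfEquivOfLe hBR).isCyclic.1 h))
    have hEG : IsElementaryAbelian s (E.map R.subtype) := by
      refine ⟨⟨⟨?_⟩⟩, ?_⟩
      · rintro ⟨_, a, ha, rfl⟩ ⟨_, b, hb, rfl⟩
        exact Subtype.ext (congrArg (fun z : E => ((z : R) : G))
          (hEe.1.is_comm.comm ⟨a, ha⟩ ⟨b, hb⟩))
      · rintro _ ⟨a, ha, rfl⟩
        rw [← map_pow, hEe.2 a ha, map_one]
    have hEU : InUniqueMaximal (E.map R.subtype) := by
      refine FitUniq.of_fitting_rank_three hG hL hrank (isPGroup_elementary hEG)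
        (Sig.not_isCyclic hEG (by rwa [card_map_subtype])) fun h => hE3 ?_
      refine rank_of_inj (R.subtype.comp (Subgroup.centralizer (E : Set R)).subtype |>.codRestrict
        (Subgroup.centralizer ((E.map R.subtype : Subgroup G) : Set G)) fun x => ?_) ?_ h
      · refine Subgroup.mem_centralizer_iff.2 ?_
        rintro _ ⟨e, he, rfl⟩
        exact congrArg Subtype.val (Subgroup.mem_centralizer_iff.1 x.2 e he)
      · intro a b hab
        exact Subtype.ext (Subtype.ext (congrArg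
          (fun z : Subgroup.centralizer ((E.map R.subtype : Subgroup G) : Set G) => (z : G)) hab))
    refine mono hEU ?_ (Trans.ne_top_of_solvable hG
      (haveI := (hRp.to_le hBR).isNilpotent; inferInstance))
    exact (Subgroup.map_mono hEB).trans (Subgroup.map_subgroupOf_eq_of_le hBR).le
  refine ⟨F₀.map R.subtype, V₀.map R.subtype, hL, hs.out, hsA, hAL, hrank,
    (Subgroup.map_subtype_le _).trans hRL, hAN.trans (normalizes_char F₀ hFc), ?_, ?_, hmember,
    (Subgroup.map_subtype_le _).trans hRL, hRp.to_le (Subgroup.map_subtype_le _),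
    hAN.trans (normalizes_char V₀ hVc), ?_, ?_⟩
  · rintro _ ⟨a, ha, rfl⟩
    rw [← map_pow, hFpow a ha, map_one]
  · exact fun h => hFnc ((F₀.equivMapOfInjective R.subtype R.subtype_injective).isCyclic.2 h)
  · exact member_of_rank_three hG hL hrank (hRp.to_le (Subgroup.map_subtype_le _))
      fun h => hV3 (FitUniq.rank_of_map h)
  · rintro _ ⟨w, hw', rfl⟩ hw1
    set B := (F₀ ⊓ Subgroup.centralizer ({w} : Set R)).map R.subtype with hB
    have hBU : InUniqueMaximal B := hmember B (Subgroup.map_mono inf_le_left) fun h =>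
      hw w hw' (((F₀ ⊓ Subgroup.centralizer ({w} : Set R)).equivMapOfInjective R.subtype
        R.subtype_injective).isCyclic.2 h)
    refine le_unique hBU hL ((Subgroup.map_subtype_le _).trans hRL)
      (Trans.centralizer_singleton_ne_top hG hw1) ?_
    rintro _ ⟨x, hx, rfl⟩
    exact Subgroup.mem_centralizer_singleton_iff.2
      (congrArg Subtype.val (Subgroup.mem_centralizer_singleton_iff.1 hx.2))

variable {p : ℕ} [hp : Fact p.Prime] {A A₃ : Subgroup G}

/-- Some element of `A₃` has its centraliser in `L`. -/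
theorem exists_centralizer_le {L F V : Subgroup G} {s : ℕ} (hb : Big A L s F V) (hA₃A : A₃ ≤ A)
    (hA₃e : IsElementaryAbelian p A₃) (hA₃3 : p ^ 3 ≤ Nat.card A₃) :
    ∃ a ∈ A₃, a ≠ 1 ∧ Subgroup.centralizer ({a} : Set G) ≤ L := by
  haveI := Fact.mk hb.prime
  haveI := hA₃e.1
  have hFp : IsPGroup s F := fun x => ⟨1, by rw [pow_one]; exact Subtype.ext (hb.F_pow x x.2)⟩
  have hn : A₃ ≤ Subgroup.normalizer (F : Set G) := hA₃A.trans hb.F_normal
  have hcop : (Nat.card A₃).Coprime (Nat.card F) := by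
    obtain ⟨k, hk⟩ := IsPGroup.iff_card.1 hFp
    rw [hk]
    exact (((hb.prime.coprime_iff_not_dvd).2 hb.notDvd).symm.pow_right k).coprime_dvd_left
      (Subgroup.card_dvd_of_le hA₃A)
  by_cases hexit' : ∃ a ∈ A₃, a ≠ 1 ∧ F ≤ Subgroup.centralizer ({a} : Set G)
  · obtain ⟨a, ha, ha1, hle⟩ := hexit'
    exact ⟨a, ha, ha1, le_unique (hb.F_member F le_rfl hb.F_noncyclic) hb.coatom hb.F_le
      (Trans.centralizer_singleton_ne_top hG ha1) hle⟩
  have hexit : ∀ a ∈ A₃, a ≠ 1 → ¬ F ≤ Subgroup.centralizer ({a} : Set G) := fun a ha ha1 h =>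
    hexit' ⟨a, ha, ha1, h⟩
  obtain ⟨B₁, hB₁, c₁, hne₁⟩ : ∃ B, B ≤ A₃ ∧ (∃ a ∈ A₃, B ⊔ Subgroup.zpowers a = A₃) ∧
      F ⊓ Subgroup.centralizer (B : Set G) ≠ ⊥ := by
    by_contra! h
    exact hb.F_noncyclic (by
      rw [le_bot_iff.1 (le_of_cocyclic_centralizers hn hcop fun B hB hc => (h B hB hc).le)]
      infer_instance)
  obtain ⟨B₂, hB₂, c₂, hne₂⟩ : ∃ B, B ≤ A₃ ∧ (∃ a ∈ A₃, B ⊔ Subgroup.zpowers a = A₃) ∧
      ¬ F ⊓ Subgroup.centralizer (B : Set G) ≤ F ⊓ Subgroup.centralizer (B₁ : Set G) := by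
    by_contra! h
    obtain ⟨a, ha, ha1⟩ := B₁.bot_or_exists_ne_one.resolve_left fun e =>
      Sig.inf_ne_bot_of_cocyclic hA₃e hA₃3 hB₁ hB₁ c₁ c₁ (by rw [e, inf_idem])
    have h1 : F ≤ Subgroup.centralizer ({a} : Set G) :=
      (le_of_cocyclic_centralizers hn hcop h).trans (inf_le_right.trans
        (Subgroup.centralizer_le (Set.singleton_subset_iff.2 ha)))
    exact hexit a (hB₁ ha) ha1 h1
  obtain ⟨a, ha, ha1⟩ := (B₁ ⊓ B₂).bot_or_exists_ne_one.resolve_left
    (Sig.inf_ne_bot_of_cocyclic hA₃e hA₃3 hB₁ hB₂ c₁ c₂)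
  refine ⟨a, hB₁ ha.1, ha1, ?_⟩
  have hCa : ∀ {B : Subgroup G}, a ∈ B → F ⊓ Subgroup.centralizer (B : Set G) ≤
      F ⊓ Subgroup.centralizer ({a} : Set G) := fun haB =>
    inf_le_inf_left F (Subgroup.centralizer_le (Set.singleton_subset_iff.2 haB))
  have hnc : ¬ IsCyclic (F ⊓ Subgroup.centralizer ({a} : Set G) : Subgroup G) := by
    intro h
    haveI := h
    have h1 : Nat.card (F ⊓ Subgroup.centralizer ({a} : Set G) : Subgroup G) ≤ s := by
      rw [← IsCyclic.exponent_eq_card]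
      exact Nat.le_of_dvd hb.prime.pos (Monoid.exponent_dvd_of_forall_pow_eq_one fun x =>
        Subtype.ext (hb.F_pow x x.2.1))
    obtain ⟨k, hk⟩ := IsPGroup.iff_card.1 (hFp.to_le (inf_le_left :
      F ⊓ Subgroup.centralizer (B₁ : Set G) ≤ F))
    have hk0 : k ≠ 0 := fun e => hne₁ (Subgroup.card_eq_one.1 (by rw [hk, e, pow_zero]))
    have e := Subgroup.eq_of_le_of_card_ge (hCa ha.1) (h1.trans (hk ▸ Nat.le_self_pow hk0 s))
    exact hne₂ ((hCa ha.2).trans e.ge)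
  exact le_unique (hb.F_member _ inf_le_left hnc) hb.coatom (inf_le_left.trans hb.F_le)
    (Trans.centralizer_singleton_ne_top hG ha1) inf_le_right

variable (hT : TransitivityHypothesis A) (hAc : IsMulCommutative A) (hA₃A : A₃ ≤ A)
  (hA₃e : IsElementaryAbelian p A₃) (hA₃3 : p ^ 3 ≤ Nat.card A₃)
include hT hAc hA₃A hA₃e hA₃3

theorem core_le {L F V : Subgroup G} {s : ℕ} (hb : Big A L s F V) :
    piCoreOf (Trans.pc A) (Subgroup.centralizer (A : Set G)) ≤ L := by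
  obtain ⟨a, ha, -, hle⟩ := exists_centralizer_le hG hb hA₃A hA₃e hA₃3
  exact (Trans.piCoreOf_le _ _).trans
    ((Subgroup.centralizer_le (Set.singleton_subset_iff.2 (hA₃A ha))).trans hle)

theorem all_invariant_le {L F V : Subgroup G} {s : ℕ} (hb : Big A L s F V) {U : Subgroup G}
    (hU : IsPGroup s U) (hAU : A ≤ Subgroup.normalizer (U : Set G)) : U ≤ L := by
  haveI := Fact.mk hb.prime
  have hA₃Z : A₃ ≤ A ⊓ Subgroup.centralizer (A : Set G) := fun x hx => ⟨hA₃A hx,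
    Subgroup.mem_centralizer_iff.2 fun a ha =>
      congrArg (fun w : A => (w : G)) (hAc.is_comm.comm ⟨a, ha⟩ ⟨x, hA₃A hx⟩)⟩
  obtain ⟨Q, hQ, hVQ⟩ := Trans.exists_max_ge
    (Trans.mem_inv_of_isPGroup (H := ⊤) le_top hb.V_pGroup hb.V_normal)
  obtain ⟨Q', hQ', hUQ⟩ := Trans.exists_max_ge (Trans.mem_inv_of_isPGroup (H := ⊤) le_top hU hAU)
  obtain ⟨k, hk, hke⟩ :=
    Trans.conj_of_rank_three hG hT hb.notDvd hA₃e hA₃3 hA₃Z hQ hQ'
  have hQL : Q ≤ L := le_unique hb.V_member hb.coatom hb.V_le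
    (Trans.ne_top_of_solvable hG (haveI := (Trans.inv_isPGroup hQ.1).isNilpotent; inferInstance)) hVQ
  have hkL := core_le hG hT hAc hA₃A hA₃e hA₃3 hb hk
  refine hUQ.trans ?_
  rw [hke]
  rintro _ ⟨y, hy, rfl⟩
  exact mul_mem (mul_mem hkL (hQL hy)) (inv_mem hkL)

/-- The key step, for `s < u`. -/
theorem claim_of_lt {L F V L₂ F₂ V₂ : Subgroup G} {s u : ℕ} (hb : Big A L s F V)
    (hb₂ : Big A L₂ u F₂ V₂) (hlt : s < u) {y : G} (hy : y ∈ A) (hy1 : y ≠ 1) :
    V ⊓ Subgroup.centralizer ({y} : Set G) ≤ L₂ ∨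
      V₂ ⊓ Subgroup.centralizer ({y} : Set G) ≤ L := by
  haveI := Fact.mk hb.prime; haveI := Fact.mk hb₂.prime
  set X := Subgroup.centralizer ({y} : Set G)
  have hX : X ≠ ⊤ := Trans.centralizer_singleton_ne_top hG hy1
  have hAX : A ≤ X := fun a ha => Subgroup.mem_centralizer_singleton_iff.2
    (congrArg (fun w : A => (w : G)) (hAc.is_comm.comm ⟨a, ha⟩ ⟨y, hy⟩))
  set O := piCoreOf (Trans.pc A) X with hO
  have hOX : O ≤ X := Trans.piCoreOf_le _ _
  have hAO : A ≤ Subgroup.normalizer (O : Set G) :=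
    hAX.trans (Subgroup.le_normalizer.trans (Trans.normalizes_piCoreOf _ _))
  haveI := Trans.solvable_proper hG hX
  haveI hOsol : Group.IsSolvable O := Trans.solvable_proper hG fun e => hX (top_le_iff.1 (e ▸ hOX))
  have hcopO : (Nat.card A).Coprime (Nat.card O) := Trans.coprime_self (Trans.piNat_piCoreOf _ _)
  have hKe : ∀ {c : G}, c ∈ O → c ∈ Subgroup.centralizer (A : Set G) →
      c ∈ piCoreOf (Trans.pc A) (Subgroup.centralizer (A : Set G)) := fun {c} h1 h2 =>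
    Trans.le_K hG hT (Y := O ⊓ Subgroup.centralizer (A : Set G)) inf_le_right
      ((Trans.piNat_piCoreOf (Trans.pc A) X).of_dvd (Subgroup.card_dvd_of_le inf_le_left)) ⟨h1, h2⟩
  set W := V ⊓ X with hW
  set W₂ := V₂ ⊓ X with hW₂
  have hAW : A ≤ Subgroup.normalizer (W : Set G) :=
    le_normalizer_inf_of_le hb.V_normal (hAX.trans Subgroup.le_normalizer)
  have hAW₂ : A ≤ Subgroup.normalizer (W₂ : Set G) :=
    le_normalizer_inf_of_le hb₂.V_normal (hAX.trans Subgroup.le_normalizer)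
  have hWO : W ≤ O := Trans.le_core hG hT hX hAX ⟨inf_le_right,
    PiNat.of_isPGroup (hb.V_pGroup.to_le inf_le_left) ⟨hb.prime, hb.notDvd⟩, hAW⟩
  have hW₂O : W₂ ≤ O := Trans.le_core hG hT hX hAX ⟨inf_le_right,
    PiNat.of_isPGroup (hb₂.V_pGroup.to_le inf_le_left) ⟨hb₂.prime, hb₂.notDvd⟩, hAW₂⟩
  -- an invariant Hall `{s, u}`-subgroup of `O`
  obtain ⟨H, hHO, hHπ, hHi, hAH, hWH⟩ := exists_invariant_hall_ge hAO hcopO hOsol {s, u} hWO hAW
    (PiNat.of_isPGroup (hb.V_pGroup.to_le inf_le_left) (Or.inl rfl))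
  obtain ⟨H', hH'O, hH'π, hH'i, hAH', hWH'⟩ := exists_invariant_hall_ge hAO hcopO hOsol {s, u} hW₂O
    hAW₂ (PiNat.of_isPGroup (hb₂.V_pGroup.to_le inf_le_left) (Or.inr rfl))
  obtain ⟨c, ⟨hcO, hcC⟩, hce⟩ := invariant_hall_conj hAO hcopO hOsol hH'O hH'π hH'i hAH' hHO hHπ hHi hAH
  have hcK := hKe hcO hcC
  have hcL : c ∈ L := core_le hG hT hAc hA₃A hA₃e hA₃3 hb hcK
  have hcL₂ : c ∈ L₂ := core_le hG hT hAc hA₃A hA₃e hA₃3 hb₂ hcK
  set W' := W₂.map (MulAut.conj c).toMonoidHom with hW'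
  have hW'H : W' ≤ H := by
    rw [← hce, conj_smul_eq_map]
    exact Subgroup.map_mono hWH'
  have hAW' : A ≤ Subgroup.normalizer (W' : Set G) := by
    rw [hW', ← Trans.map_conj_normalizer]
    intro a ha
    refine ⟨a, hAW₂ ha, ?_⟩
    show c * a * c⁻¹ = a
    rw [← Subgroup.mem_centralizer_iff.1 hcC a ha, mul_inv_cancel_right]
  have hback : W' ≤ L → W₂ ≤ L := fun h w hw => by
    have h1 := mul_mem (mul_mem (inv_mem hcL) (h (Subgroup.mem_map_of_mem _ hw))) hcL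
    simpa [mul_assoc] using h1
  haveI hHsol : Group.IsSolvable H := Trans.solvable_proper hG fun e => hX (top_le_iff.1 (e ▸ hHO.trans hOX))
  have hHt : H ≠ ⊤ := fun e => hX (top_le_iff.1 (e ▸ hHO.trans hOX))
  have hcopH : (Nat.card A).Coprime (Nat.card H) :=
    hcopO.coprime_dvd_right (Subgroup.card_dvd_of_le hHO)
  obtain ⟨S₁, hWS, hAS⟩ := exists_invariant_sylow_ge (p := s) hAH hcopH (Or.inr hHsol) hWH
    (hb.V_pGroup.to_le inf_le_left) hAW
  obtain ⟨U₁, hWU, hAU⟩ := exists_invariant_sylow_ge (p := u) hAH hcopH (Or.inr hHsol) hW'H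
    ((hb₂.V_pGroup.to_le inf_le_left).map _) hAW'
  set S := (S₁ : Subgroup H).map H.subtype
  set U := (U₁ : Subgroup H).map H.subtype
  have hSL : S ≤ L := all_invariant_le hG hT hAc hA₃A hA₃e hA₃3 hb (S₁.isPGroup'.map _) hAS
  have hUL₂ : U ≤ L₂ := all_invariant_le hG hT hAc hA₃A hA₃e hA₃3 hb₂ (U₁.isPGroup'.map _) hAU
  by_cases hrs : PRankLE s 2 H
  swap
  · refine Or.inr (hback (hW'H.trans (le_unique ?_ hb.coatom hSL hHt (Subgroup.map_subtype_le _))))
    exact member_of_rank_three hG hb.coatom hb.rank (S₁.isPGroup'.map _)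
      fun h => hrs (rank_of_sylow S₁ (FitUniq.rank_of_map h))
  by_cases hru : PRankLE u 2 H
  swap
  · refine Or.inl (hWH.trans (le_unique ?_ hb₂.coatom hUL₂ hHt (Subgroup.map_subtype_le _)))
    exact member_of_rank_three hG hb₂.coatom hb₂.rank (U₁.isPGroup'.map _)
      fun h => hru (rank_of_sylow U₁ (FitUniq.rank_of_map h))
  by_cases hW1 : W' = ⊥
  · exact Or.inr (hback (hW1.le.trans bot_le))
  left
  obtain ⟨w', hw', hw'1⟩ := W'.bot_or_exists_ne_one.resolve_left hW1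
  obtain ⟨w, hw, hwe⟩ := hw'
  have hw1 : w ≠ 1 := fun e => hw'1 (by rw [← hwe, e, map_one])
  -- the Sylow `u`-subgroup of `H` is normal
  have hH2 : RankLE 2 H := by
    intro r hr C hC hCp
    haveI := Fact.mk hr
    by_cases h1 : C = ⊥
    · rw [h1, Subgroup.card_bot]; exact Nat.one_le_pow _ _ hr.pos
    have hCr : IsPGroup r C := fun x => ⟨1, by rw [pow_one]; exact Subtype.ext (hCp x x.2)⟩
    obtain ⟨k, hk⟩ := IsPGroup.iff_card.1 hCr
    have hk0 : k ≠ 0 := fun e => h1 (Subgroup.card_eq_one.1 (by rw [hk, e, pow_zero]))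
    rcases hHπ r hr (((dvd_pow_self r hk0).trans hk.symm.dvd).trans
      C.card_subgroup_dvd_card) with h | h <;> subst h
    · exact hrs C hC hCp
    · exact hru C hC hCp
  obtain ⟨N, hNc, hNπ, hNi⟩ :=
    (Cfsg.Agent.S1451.result (hG.1.of_dvd_nat H.card_subgroup_dvd_card) (Or.inl hH2)).2.2 s
  haveI := hNc
  have hNU : N = (U₁ : Subgroup H) := by
    have hNu : IsPGroup u N := IsPGroup.of_card (n := (Nat.card N).primeFactorsList.length)
      (Nat.eq_prime_pow_of_unique_prime_dvd Nat.card_pos.ne' fun {d} hd hdd => by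
        obtain ⟨-, hsd⟩ := hNπ d hd hdd
        rcases hHπ d hd (hdd.trans N.card_subgroup_dvd_card) with h | h
        · exact absurd h hsd.ne'
        · exact h)
    have hle : N ≤ (U₁ : Subgroup H) := hNu.le_sylow_of_normal U₁
    refine Subgroup.eq_of_le_of_card_ge hle (Nat.le_of_dvd Nat.card_pos ?_)
    obtain ⟨k, hk⟩ := IsPGroup.iff_card.1 U₁.isPGroup'
    rw [hk]
    refine (Nat.Coprime.dvd_of_dvd_mul_right ?_ (hk ▸ N.card_mul_index.symm ▸
      (U₁ : Subgroup H).card_subgroup_dvd_card))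
    exact Nat.Coprime.pow_left k ((hb₂.prime.coprime_iff_not_dvd).2 fun hd =>
      hNi u hb₂.prime ⟨hb₂.prime, hlt⟩ hd)
  haveI hUn : (U₁ : Subgroup H).Normal := hNU ▸ inferInstance
  have hHU : H ≤ Subgroup.normalizer (U : Set G) := fun h hh =>
    map_le_normalizer (x := ⟨h, hh⟩) (Subgroup.normalizer_eq_top_iff.2 hUn ▸ Subgroup.mem_top _)
  set Y := H ⊔ A
  have hYX : Y ≤ X := sup_le (hHO.trans hOX) hAX
  have hHY : H ≤ Y := le_sup_left
  have hAY : A ≤ Y := le_sup_right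
  haveI hYsol : Group.IsSolvable Y := Trans.solvable_proper hG fun e => hX (top_le_iff.1 (e ▸ hYX))
  have hUY : U ≤ Y := (Subgroup.map_subtype_le _).trans hHY
  haveI hUYn : (U.subgroupOf Y).Normal :=
    Subgroup.normal_subgroupOf_of_le_normalizer (sup_le hHU hAU)
  have hUp : IsPGroup u U := U₁.isPGroup'.map _
  have hu2 : u ≠ 2 := fun e => absurd hlt (by have := hb.prime.two_le; omega)
  have hcent : ∀ x ∈ ⁅S, A⁆, x ∈ L₂ := by
    intro x hx
    have hxY : x ∈ Y := by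
      refine (Subgroup.commutator_le.2 fun a ha b hb' => ?_) hx
      have hSY : S ≤ Y := (Subgroup.map_subtype_le _).trans hHY
      rw [commutatorElement_def]
      exact Y.mul_mem (Y.mul_mem (Y.mul_mem (hSY ha) (hAY hb')) (Y.inv_mem (hSY ha)))
        (Y.inv_mem (hAY hb'))
    have hxS : x ∈ S := by
      refine (Subgroup.commutator_le.2 fun a ha b hb' => ?_) hx
      rw [show ⁅a, b⁆ = a * (b * a⁻¹ * b⁻¹) by simp [commutatorElement_def, mul_assoc]]
      exact S.mul_mem ha ((Subgroup.mem_normalizer_iff.1 (hAS hb') _).1 (S.inv_mem ha))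
    have hxcom : (⟨x, hxY⟩ : Y) ∈ commutator Y := mem_commutator_coe
      ((Subgroup.commutator_mono ((Subgroup.map_subtype_le _).trans hHY) hAY) hx)
    have hord : (orderOf (⟨x, hxY⟩ : Y)).Coprime u := by
      obtain ⟨j, hj⟩ := (S₁.isPGroup'.map H.subtype) ⟨x, hxS⟩
      rw [Subgroup.orderOf_mk]
      exact (((Nat.coprime_primes hb.prime hb₂.prime).2 hlt.ne).pow_left j).coprime_dvd_left
        (orderOf_dvd_of_pow_eq_one (congrArg Subtype.val hj))
    have hrk : PRankLE u 2 (U.subgroupOf Y) := rank_subgroupOf hUY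
      (FitUniq.rank_of_le le_rfl (rank_of_inj (Subgroup.inclusion (Subgroup.map_subtype_le _))
        (Subgroup.inclusion_injective _) hru))
    have h1 := CfsgLib.OddLocal.comm_coprime_mem (R := U.subgroupOf Y) hu2
      (hG.1.of_dvd_nat Y.card_subgroup_dvd_card) hYsol
      (hUp.comap_of_injective Y.subtype Y.subtype_injective) hrk hxcom hord
    have h2 : x * (c * w * c⁻¹) = c * w * c⁻¹ * x := by
      have hwU : c * w * c⁻¹ ∈ U := by
        have := Subgroup.mem_map_of_mem (MulAut.conj c).toMonoidHom hw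
        exact hWU this
      exact (congrArg Subtype.val (Subgroup.mem_centralizer_iff.1 h1 ⟨c * w * c⁻¹, hUY hwU⟩
        (Subgroup.mem_subgroupOf.2 hwU))).symm
    have h3 : c⁻¹ * x * c ∈ L₂ := hb₂.V_centralizer w hw.1 hw1
      (Subgroup.mem_centralizer_singleton_iff.2 (by
        calc c⁻¹ * x * c * w = c⁻¹ * (x * (c * w * c⁻¹)) * c := by group
          _ = c⁻¹ * (c * w * c⁻¹ * x) * c := by rw [h2]
          _ = w * (c⁻¹ * x * c) := by group))
    simpa [mul_assoc] using mul_mem (mul_mem hcL₂ h3) (inv_mem hcL₂)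
  intro z hz
  have hSsol : Group.IsSolvable A ∨ Group.IsSolvable S :=
    Or.inl (isSolvable_of_isMulCommutative A)
  obtain ⟨x, hx, d, hd, rfl⟩ := commutator_sup_inf_centralizer (K := S) (A := A) hAS
    (hcopH.coprime_dvd_right (Subgroup.card_dvd_of_le (Subgroup.map_subtype_le _))) hSsol z (hWS hz)
  exact mul_mem (hcent x hx) (core_le hG hT hAc hA₃A hA₃e hA₃3 hb₂
    (hKe (hHO (Subgroup.map_subtype_le _ hd.1)) hd.2))

/-- All big maximal subgroups coincide. -/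
theorem big_eq {L F V L₂ F₂ V₂ : Subgroup G} {s u : ℕ} (hb : Big A L s F V)
    (hb₂ : Big A L₂ u F₂ V₂) : L = L₂ := by
  obtain ⟨M₀, -, hu⟩ := hb.V_member
  obtain ⟨M₂, -, hu₂⟩ := hb₂.V_member
  have hL : ∀ {M : Subgroup G}, IsCoatom M → V ≤ M → M = L := fun hM hV =>
    (hu _ ⟨hM, hV⟩).trans (hu L ⟨hb.coatom, hb.V_le⟩).symm
  have hL₂ : ∀ {M : Subgroup G}, IsCoatom M → V₂ ≤ M → M = L₂ := fun hM hV =>
    (hu₂ _ ⟨hM, hV⟩).trans (hu₂ L₂ ⟨hb₂.coatom, hb₂.V_le⟩).symm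
  by_cases hsu : s = u
  · subst hsu
    exact hL₂ hb.coatom (all_invariant_le hG hT hAc hA₃A hA₃e hA₃3 hb hb₂.V_pGroup hb₂.V_normal)
  haveI := hA₃e.1
  have hclaim : ∀ {y : G}, y ∈ A → y ≠ 1 → V ⊓ Subgroup.centralizer ({y} : Set G) ≤ L₂ ∨
      V₂ ⊓ Subgroup.centralizer ({y} : Set G) ≤ L := fun {y} hy hy1 => by
    rcases lt_or_gt_of_ne hsu with h | h
    · exact claim_of_lt hG hT hAc hA₃A hA₃e hA₃3 hb hb₂ h hy hy1
    · exact (claim_of_lt hG hT hAc hA₃A hA₃e hA₃3 hb₂ hb h hy hy1).symm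
  have hcop : ∀ {L F V : Subgroup G} {s : ℕ}, Big A L s F V →
      (Nat.card A₃).Coprime (Nat.card V) := fun {L F V s} h => by
    haveI := Fact.mk h.prime
    obtain ⟨k, hk⟩ := IsPGroup.iff_card.1 h.V_pGroup
    rw [hk]
    exact (((h.prime.coprime_iff_not_dvd).2 h.notDvd).symm.pow_right k).coprime_dvd_left
      (Subgroup.card_dvd_of_le hA₃A)
  by_cases hVL : V ≤ L₂
  · exact (hL hb₂.coatom hVL).symm
  obtain ⟨B, hB, cB, hBW⟩ : ∃ B, B ≤ A₃ ∧ (∃ a ∈ A₃, B ⊔ Subgroup.zpowers a = A₃) ∧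
      ¬ V ⊓ Subgroup.centralizer (B : Set G) ≤ L₂ := by
    by_contra! h
    exact hVL (le_of_cocyclic_centralizers (hA₃A.trans hb.V_normal) (hcop hb) h)
  refine hL₂ hb.coatom (le_of_cocyclic_centralizers (hA₃A.trans hb₂.V_normal) (hcop hb₂)
    fun B' hB' cB' => ?_)
  obtain ⟨y, hy, hy1⟩ := (B ⊓ B').bot_or_exists_ne_one.resolve_left
    (Sig.inf_ne_bot_of_cocyclic hA₃e hA₃3 hB hB' cB cB')
  have hle : ∀ {U B₀ : Subgroup G}, y ∈ B₀ → U ⊓ Subgroup.centralizer (B₀ : Set G) ≤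
      U ⊓ Subgroup.centralizer ({y} : Set G) := fun h =>
    inf_le_inf_left _ (Subgroup.centralizer_le (Set.singleton_subset_iff.2 h))
  rcases hclaim (hA₃A (hB hy.1)) hy1 with h | h
  · exact absurd ((hle hy.1).trans h) hBW
  · exact (hle hy.2).trans h

/-- Every invariant `r`-subgroup lies in a big maximal subgroup. -/
theorem exists_big_ge (P : Sylow p G) (hA : IsSCN (P : Subgroup G) A) (hA3 : ¬ PRankLE p 2 A)
    (hno : ∀ L : Subgroup G, IsCoatom L → PRankLE p 2 (fittingOf L))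
    {r : ℕ} [Fact r.Prime] (hrA : ¬ r ∣ Nat.card A) {U : Subgroup G} (hU : IsPGroup r U)
    (hAU : A ≤ Subgroup.normalizer (U : Set G)) (hU1 : U ≠ ⊥) :
    ∃ (L F V : Subgroup G) (s : ℕ), Big A L s F V ∧ U ≤ L := by
  have hAP := hA.1
  have hAp : IsPGroup p A := P.isPGroup'.to_le hAP
  have hA1 : A ≠ ⊥ := hT.1
  obtain ⟨n, hn⟩ := IsPGroup.iff_card.1 hAp
  have hn0 : n ≠ 0 := fun e => hA1 (Subgroup.card_eq_one.1 (by rw [hn, e, pow_zero]))
  have hpA : p ∣ Nat.card A := hn ▸ dvd_pow_self p hn0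
  have hpG : p ∣ Nat.card G := hpA.trans (Subgroup.card_subgroup_dvd_card _)
  have hP1 : (P : Subgroup G) ≠ ⊥ := fun e => hA1 (le_bot_iff.1 (hAP.trans e.le))
  set N := Subgroup.normalizer (CfsgLib.Inv.ZJ.zJ 0 (P : Subgroup G) : Set G) with hNdef
  have hPN : (P : Subgroup G) ≤ N :=
    Subgroup.le_normalizer.trans (CfsgLib.Inv.ZJ.normalizer_le_zJ _)
  have hNt : N ≠ ⊤ := Trans.normalizer_ne_top hG
    (CfsgLib.Inv.ZJ.zJ_ne_bot (p := p) (Or.inl rfl) P.isPGroup' hP1)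
    fun e => Trans.ne_top_of_solvable hG (haveI := P.isPGroup'.isNilpotent; inferInstance)
      (top_le_iff.1 (e ▸ CfsgLib.Inv.ZJ.zJ_le _))
  haveI := Trans.solvable_proper hG hNt
  have hodd : Odd (Nat.card N) := hG.1.of_dvd_nat N.card_subgroup_dvd_card
  set T : Sylow p N := P.subtype hPN with hTdef
  have hTmap : (T : Subgroup N).map N.subtype = (P : Subgroup G) := by
    rw [hTdef, Sylow.coe_subtype, Subgroup.map_subgroupOf_eq_of_le hPN]
  set P₂ := ((T : Subgroup N) ⊓ pPrimePCore p N).map N.subtype with hP₂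
  have hP₂P : P₂ ≤ (P : Subgroup G) := (Subgroup.map_mono inf_le_left).trans hTmap.le
  have hAP₂ : A ≤ P₂ := fun a ha => by
    have haN : a ∈ N := hPN (hAP ha)
    refine ⟨⟨a, haN⟩, ⟨?_, ?_⟩, rfl⟩
    · show (⟨a, haN⟩ : N) ∈ (T : Subgroup N)
      rw [hTdef, Sylow.coe_subtype]
      exact Subgroup.mem_subgroupOf.2 (hAP ha)
    · exact TransHyp.subgroupOf_le hodd T (hTmap.symm ▸ hAP) hAc (hTmap.symm ▸ hA.2.1)
        (Subgroup.mem_subgroupOf.2 ha)
  have hPP₂ : (P : Subgroup G) ≤ Subgroup.normalizer (P₂ : Set G) := by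
    haveI := pPrimeCore_normal N p
    haveI := pCore_normal (N ⧸ pPrimeCore p N) p
    haveI : (pPrimePCore p N).Normal := by unfold Cfsg.pPrimePCore; infer_instance
    intro x hx
    rw [← hTmap] at hx
    obtain ⟨t, ht, rfl⟩ := hx
    exact map_le_normalizer ((le_normalizer_inf_of_le Subgroup.le_normalizer
      (le_top.trans (Subgroup.normalizer_eq_top (H := pPrimePCore p N)).ge)) ht)
  -- `P ≤ N(P₂)'`
  have hPder : (P : Subgroup G) ≤
      ⁅Subgroup.normalizer (P₂ : Set G), Subgroup.normalizer (P₂ : Set G)⁆ := by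
    intro x hx
    have hfac : N ≤ core p N ⊔ (N ⊓ Subgroup.normalizer (P₂ : Set G)) := by
      intro z hz
      have h1 : pPrimeCore p N ⊔ Subgroup.normalizer
          (((T : Subgroup N) ⊓ pPrimePCore p N : Subgroup N) : Set N) ≤
          (core p N ⊔ (N ⊓ Subgroup.normalizer (P₂ : Set G))).subgroupOf N :=
        sup_le (fun w hw => Subgroup.mem_sup_left (Subgroup.mem_map_of_mem _ hw))
          fun w hw => Subgroup.mem_sup_right ⟨w.2, map_le_normalizer hw⟩
      exact h1 ((sup_normalizer_inf T).ge (Subgroup.mem_top ⟨z, hz⟩))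
    refine Subgroup.commutator_mono inf_le_right inf_le_right
      (derived_of_factor (Uniq.core_le N) (le_normalizer_core N) (coprime_core N) inf_le_left hfac
        ⟨hPN hx, hPP₂ hx⟩ ?_ (le_commutator_normalizer_zJ hG hpG P hx))
    obtain ⟨j, hj⟩ := P.isPGroup' ⟨x, hx⟩
    exact ⟨j, congrArg Subtype.val hj⟩
  -- transitivity
  have hA₃Z : A₃ ≤ A ⊓ Subgroup.centralizer (A : Set G) := fun x hx => ⟨hA₃A hx,
    Subgroup.mem_centralizer_iff.2 fun a ha =>
      congrArg (fun w : A => (w : G)) (hAc.is_comm.comm ⟨a, ha⟩ ⟨x, hA₃A hx⟩)⟩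
  have hgood : ∀ {R : Subgroup G}, IsPGroup p R → A ≤ R → Trans.Good A r R := by
    intro R hR hAR
    haveI := hR.isNilpotent
    refine Trans.good_of_subnormal hG hT hrA (fun t ht hd => ?_) hAR (isSubnormal_of_isNilpotent _)
      ⟨fun Q₁ h₁ Q₂ h₂ => Trans.conj_of_rank_three hG hT hrA hA₃e hA₃3 hA₃Z h₁ h₂, subset_rfl⟩
    obtain ⟨m, hm⟩ := IsPGroup.iff_card.1 hR
    rw [hm] at hd
    rwa [(Nat.prime_dvd_prime_iff_eq ht hp.out).1 (ht.dvd_of_dvd_pow hd)]
  obtain ⟨Q, hQ, -⟩ := Trans.exists_max_ge (P := (P : Subgroup G)) (U := ⊥) (q := r)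
    (Trans.mem_inv_of_isPGroup le_top IsPGroup.of_bot
      (le_top.trans (Subgroup.normalizer_eq_top (H := (⊥ : Subgroup G))).ge))
  have hQA := (hgood P.isPGroup' hAP).2 hQ
  obtain ⟨Q', hQ', hUQ⟩ := Trans.exists_max_ge (Trans.mem_inv_of_isPGroup (H := ⊤) le_top hU hAU)
  obtain ⟨k, hk, hke⟩ := Trans.conj_of_rank_three hG hT hrA hA₃e hA₃3 hA₃Z hQA hQ'
  have hQ1 : Q ≠ ⊥ := fun e => hU1 (by rw [e, Subgroup.map_bot] at hke; exact le_bot_iff.1 (hke ▸ hUQ))
  have hQt : Q ≠ ⊤ := Trans.ne_top_of_solvable hG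
    (haveI := (Trans.inv_isPGroup hQ.1).isNilpotent; inferInstance)
  have hQ₂ : Q ∈ maxInvSubgroups ⊤ P₂ {r} :=
    ⟨⟨le_top, hQ.1.2.1, hP₂P.trans hQ.1.2.2⟩,
      fun R hR hle => hQA.2 R ⟨le_top, hR.2.1, hAP₂.trans hR.2.2⟩ hle⟩
  -- `P ≤ N(Q)'`
  set N₂ := Subgroup.normalizer (P₂ : Set G)
  set K₂ := piCoreOf (Trans.pc A) (Subgroup.centralizer (P₂ : Set G)) with hK₂
  have hK₂N : K₂ ≤ N₂ := (Trans.piCoreOf_le _ _).trans (Subgroup.centralizer_le_normalizer _)
  have hfac₂ : N₂ ≤ K₂ ⊔ (N₂ ⊓ Subgroup.normalizer (Q : Set G)) := by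
    intro g hg
    obtain ⟨c, hc, hce⟩ := (hgood (P.isPGroup'.to_le hP₂P) hAP₂).1 Q hQ₂ _ (Trans.conj_max g hg hQ₂)
    have h1 : c⁻¹ * g ∈ N₂ ⊓ Subgroup.normalizer (Q : Set G) := by
      refine ⟨N₂.mul_mem (N₂.inv_mem (hK₂N hc)) hg, Subgroup.mem_normalizer_iff_map_conj_eq.2 ?_⟩
      change Q.map (MulAut.conj (c⁻¹ * g)).toMonoidHom = Q
      rw [← Trans.conj_map_mul, hce, Trans.conj_map_mul, inv_mul_cancel, Trans.map_conj_one]
    rw [show g = c * (c⁻¹ * g) by group]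
    exact Subgroup.mul_mem_sup hc h1
  have hPQ : (P : Subgroup G) ≤
      ⁅Subgroup.normalizer (Q : Set G), Subgroup.normalizer (Q : Set G)⁆ := by
    intro x hx
    refine Subgroup.commutator_mono inf_le_right inf_le_right
      (derived_of_factor (p := p) hK₂N ((normalizer_centralizer P₂).trans (Trans.normalizes_piCoreOf _ _))
        ?_ inf_le_left hfac₂ ⟨hPP₂ hx, hQ.1.2.2 hx⟩ ?_ (hPder hx))
    · refine ((hp.out.coprime_iff_not_dvd).2 fun hd => ?_).symm
      exact (Trans.piNat_piCoreOf _ _ p hp.out hd).2 hpA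
    · obtain ⟨j, hj⟩ := P.isPGroup' ⟨x, hx⟩
      exact ⟨j, congrArg Subtype.val hj⟩
  obtain ⟨L, hL, hQL⟩ := exists_coatom (Trans.normalizer_ne_top hG hQ1 hQt)
  have hAL : A ≤ L := (hAP.trans hQ.1.2.2).trans hQL
  haveI := Trans.solvable_proper hG hL.1
  obtain ⟨s, hs, hbig⟩ : ∃ s : ℕ, s.Prime ∧ ¬ PRankLE s 2 (fittingOf L) := by
    by_contra! hall
    refine hA3 (FitUniq.rank_of_le (fun a ha => ?_) (hno L hL))
    have hnil := (Cfsg.Agent.S1451.result (hG.1.of_dvd_nat L.card_subgroup_dvd_card) (Or.inr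
      fun t ht => rank_of_inj
        ((fittingSubgroup L).equivMapOfInjective L.subtype L.subtype_injective).toMonoidHom
        ((fittingSubgroup L).equivMapOfInjective L.subtype L.subtype_injective).injective
        (hall t ht))).1
    have haL := Subgroup.commutator_mono hQL hQL (hPQ (hAP ha))
    exact ⟨⟨a, hAL ha⟩, le_fittingSubgroup hnil (mem_commutator_coe haL), rfl⟩
  haveI := Fact.mk hs
  have hsA : ¬ s ∣ Nat.card A := fun h => by
    rw [hn] at h
    exact hbig ((Nat.prime_dvd_prime_iff_eq hs hp.out).1 (hs.dvd_of_dvd_pow h) ▸ hno L hL)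
  obtain ⟨F, V, hb⟩ := exists_big hG hL hAL hsA hbig
  have hkL := core_le hG hT hAc hA₃A hA₃e hA₃3 hb hk
  refine ⟨L, F, V, s, hb, hUQ.trans ?_⟩
  rw [hke]
  rintro _ ⟨z, hz, rfl⟩
  exact mul_mem (mul_mem hkL (hQL (Subgroup.le_normalizer hz))) (inv_mem hkL)

omit hT hAc hA₃A hA₃e hA₃3 in
/-- BG 9: members of `SCN₃` lie in a unique maximal subgroup. -/
theorem inUniqueMaximal_scn (P : Sylow p G) (hA : IsSCN (P : Subgroup G) A)
    (hA3 : ¬ PRankLE p 2 A) : InUniqueMaximal A := by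
  have hAp : IsPGroup p A := P.isPGroup'.to_le hA.1
  have hAc : IsMulCommutative A := ⟨⟨fun a b => Subtype.ext
    (Subgroup.mem_centralizer_iff.1 (hA.2.2.ge b.2).2 a a.2)⟩⟩
  obtain ⟨A₃, hA₃A, hA₃e, hA₃3⟩ := exists_cube hA3
  have hAC : A ≤ Subgroup.centralizer (A : Set G) := fun x hx => (hA.2.2.ge hx).2
  by_cases hex : ∃ M : Subgroup G, IsCoatom M ∧ ¬ PRankLE p 2 (fittingOf M)
  · obtain ⟨M, hM, hF⟩ := hex
    refine FitUniq.of_fitting_rank_three hG hM hF hAp (fun hc => ?_)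
      fun h => hA3 (FitUniq.rank_of_le hAC h)
    haveI := hc
    exact Sig.not_isCyclic hA₃e ((Nat.pow_le_pow_right hp.out.pos (by norm_num)).trans hA₃3)
      (isCyclic_of_injective (Subgroup.inclusion hA₃A) (Subgroup.inclusion_injective hA₃A))
  push Not at hex
  have hA1 : A ≠ ⊥ := fun e => by
    have h0 : A₃ = ⊥ := le_bot_iff.1 (hA₃A.trans e.le)
    rw [h0, Subgroup.card_bot] at hA₃3
    exact absurd hA₃3 (not_le.2 (Nat.one_lt_pow (by norm_num) hp.out.one_lt))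
  obtain ⟨n, hn⟩ := IsPGroup.iff_card.1 hAp
  have hn0 : n ≠ 0 := fun e => hA1 (Subgroup.card_eq_one.1 (by rw [hn, e, pow_zero]))
  have hpG : p ∣ Nat.card G := (hn ▸ dvd_pow_self p hn0).trans (Subgroup.card_subgroup_dvd_card A)
  have hT : TransitivityHypothesis A := Cfsg.Agent.S1396.result hG p hpG A hAp hAc
    (Or.inr ⟨P, hA, fun h => hA3 (rank_mono h)⟩)
  haveI := hAc
  have hred : ∀ (M : Subgroup G), IsCoatom M → A ≤ M →
      (∀ (r : ℕ) (U : Subgroup G), r.Prime → ¬ r ∣ Nat.card A → IsPGroup r U →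
        A ≤ Subgroup.normalizer (U : Set G) → U ≠ ⊥ → U ≤ M) → InUniqueMaximal A := by
    intro M hM hAM h
    refine inUniqueMaximal_of_inv hG hM hAp hA1 hAM fun Y hY hAY => ?_
    refine le_of_forall_invariant_pGroup hAY (hn ▸ hY.symm.pow_left n)
      (Or.inl (isSolvable_of_isMulCommutative A)) fun r U hr hU hUY hAU => ?_
    by_cases hU1 : U = ⊥
    · rw [hU1]; exact bot_le
    refine h r U hr (fun hd => ?_) hU hAU hU1
    haveI := Fact.mk hr
    obtain ⟨k, hk⟩ := IsPGroup.iff_card.1 hU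
    have hk0 : k ≠ 0 := fun e => hU1 (Subgroup.card_eq_one.1 (by rw [hk, e, pow_zero]))
    rw [hn] at hd
    have h1 : r ∣ Nat.card Y :=
      ((dvd_pow_self r hk0).trans hk.symm.dvd).trans (Subgroup.card_dvd_of_le hUY)
    rw [(Nat.prime_dvd_prime_iff_eq hr hp.out).1 (hr.dvd_of_dvd_pow hd)] at h1
    exact hp.out.coprime_iff_not_dvd.1 hY.symm h1
  by_cases hnone : ∀ (r : ℕ) (U : Subgroup G), r.Prime → ¬ r ∣ Nat.card A → IsPGroup r U →
      A ≤ Subgroup.normalizer (U : Set G) → U = ⊥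
  · obtain ⟨M, hM, hAM⟩ := exists_coatom hT.2.1
    exact hred M hM hAM fun r U hr hrA hU hAU hU1 => absurd (hnone r U hr hrA hU hAU) hU1
  push Not at hnone
  obtain ⟨r, U, hr, hrA, hU, hAU, hU1⟩ := hnone
  haveI := Fact.mk hr
  obtain ⟨L, F, V, s, hb, -⟩ :=
    exists_big_ge hG hT hAc hA₃A hA₃e hA₃3 P hA hA3 hex hrA hU hAU hU1
  refine hred L hb.coatom hb.le fun r' U' hr' hrA' hU' hAU' hU1' => ?_
  haveI := Fact.mk hr'
  obtain ⟨L', F', V', s', hb', hle⟩ :=
    exists_big_ge hG hT hAc hA₃A hA₃e hA₃3 P hA hA3 hex hrA' hU' hAU' hU1'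
  exact (big_eq hG hT hAc hA₃A hA₃e hA₃3 hb' hb) ▸ hle

end Main

end CfsgLib.OddLocal.UniqSCN
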