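import Cfsg.Agent.OddLocal.TransHyp
import Cfsg.Agent.OddLocal.SCN3
import Cfsg.Agent.S1396
import Cfsg.Agent.S1450
import Cfsg.Agent.S1458
import Cfsg.Agent.Inv.ZJFusion

/-!
Bender–Glauberman, Chapter II: a noncyclic elementary abelian `p`-subgroup `B` of a maximal
subgroup `M` with all `B`-invariant `p'`-subgroups in `M` lies in no other maximal subgroup.
-/

set_option autoImplicit false
set_option linter.style.haveILetI false
set_option linter.unusedSectionVars false

open Cfsg CfsgLib.Solv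

namespace CfsgLib.OddLocal.Uniq

variable {p : ℕ} [hp : Fact p.Prime]

section Solvable

variable {X : Type*} [Group X] [Finite X] [Group.IsSolvable X]

theorem eq_of_map_mk_eq {T : Subgroup X} (hT : IsPGroup p T) {a b : X} (ha : a ∈ T) (hb : b ∈ T)
    [(pPrimeCore p X).Normal]
    (h : QuotientGroup.mk' (pPrimeCore p X) a = QuotientGroup.mk' (pPrimeCore p X) b) : a = b :=
  inv_mul_eq_one.1 (TransHyp.mk_eq_one_of_commutator hT (mul_mem (inv_mem ha) hb) (QuotientGroup.eq.1 h))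

theorem map_inf_pPrimePCore (S : Sylow p X) [(pPrimeCore p X).Normal] :
    ((S : Subgroup X) ⊓ pPrimePCore p X).map (QuotientGroup.mk' (pPrimeCore p X)) =
      pCore p (X ⧸ pPrimeCore p X) := by
  refine le_antisymm (Subgroup.map_le_iff_le_comap.2 inf_le_right) fun r hr => ?_
  obtain ⟨s, hs, rfl⟩ :=
    pCore_le_sylow (S.mapSurjective (QuotientGroup.mk'_surjective (pPrimeCore p X))) hr
  exact Subgroup.mem_map_of_mem _ ⟨hs, hr⟩

/-- `S ∩ O_{p',p}` is the largest `p`-subgroup of `O_{p',p}` above itself. -/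
theorem inf_pPrimePCore_eq (S : Sylow p X) {T : Subgroup X} (hT : IsPGroup p T)
    (hTle : T ≤ pPrimePCore p X) (h : (S : Subgroup X) ⊓ pPrimePCore p X ≤ T) :
    T = (S : Subgroup X) ⊓ pPrimePCore p X := by
  haveI := pPrimeCore_normal X p
  set f := QuotientGroup.mk' (pPrimeCore p X)
  refine le_antisymm (fun t ht => ?_) h
  have h1 : f t ∈ pCore p (X ⧸ pPrimeCore p X) := hTle ht
  rw [← map_inf_pPrimePCore S] at h1
  obtain ⟨u, hu, hue⟩ := h1
  rw [← eq_of_map_mk_eq hT (h hu) ht hue]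
  exact hu

/-- `p'`-subgroups invariant under `S ∩ O_{p',p}` lie in `O_{p'}`. -/
theorem invariant_le_core (S : Sylow p X) {Y : Subgroup X} (hY : (Nat.card Y).Coprime p)
    (hn : (S : Subgroup X) ⊓ pPrimePCore p X ≤ Subgroup.normalizer (Y : Set X)) :
    Y ≤ pPrimeCore p X := by
  haveI := pPrimeCore_normal X p
  refine TransHyp.le_pPrimeCore_of_test (S.isPGroup'.to_le inf_le_left) inf_le_right hY hn
    (Or.inl fun S' hle s hs => ?_)
  set f := QuotientGroup.mk' (pPrimeCore p X)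
  have h1 : f s ∈ pCore p (X ⧸ pPrimeCore p X) := by
    refine centralizer_pCore_le pPrimeCore_quotient_self (Subgroup.mem_centralizer_iff.2 fun r hr => ?_)
    rw [SetLike.mem_coe, ← map_inf_pPrimePCore S] at hr
    obtain ⟨u, hu, rfl⟩ := hr
    rw [← map_mul, ← map_mul, Subgroup.mem_centralizer_iff.1 hs.2 u hu]
  rw [← inf_pPrimePCore_eq S (T := (S' : Subgroup X) ⊓ pPrimePCore p X)
    (S'.isPGroup'.to_le inf_le_left) inf_le_right (le_inf hle inf_le_right)]
  exact ⟨hs.1, h1⟩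

theorem sup_normalizer_inf (S : Sylow p X) :
    pPrimeCore p X ⊔
      Subgroup.normalizer (((S : Subgroup X) ⊓ pPrimePCore p X : Subgroup X) : Set X) = ⊤ := by
  haveI := pPrimeCore_normal X p
  haveI := pCore_normal (X ⧸ pPrimeCore p X) p
  exact CfsgLib.Inv.ZJ.sup_normalizer_eq_top (p := p) (S.isPGroup'.to_le inf_le_left)
    not_dvd_card_pPrimeCore (by rw [map_inf_pPrimePCore S]; infer_instance)

theorem sup_normalizer_zJ (hodd : Odd (Nat.card X)) (S : Sylow p X) :
    pPrimeCore p X ⊔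
      Subgroup.normalizer ((CfsgLib.Inv.ZJ.zJ p (S : Subgroup X) : Subgroup X) : Set X) = ⊤ := by
  haveI := pPrimeCore_normal X p
  have hn := Cfsg.Agent.S1458.result hodd p S
  rw [CfsgLib.Inv.ZJ.centerThompsonOf_eq] at hn
  refine CfsgLib.Inv.ZJ.sup_normalizer_eq_top (p := p)
    (S.isPGroup'.to_le (CfsgLib.Inv.ZJ.zJ_le _)) not_dvd_card_pPrimeCore ?_
  have h1 := Subgroup.Normal.map hn (QuotientGroup.mk' (pPrimeCore p X))
    (QuotientGroup.mk'_surjective _)
  rwa [Subgroup.map_sup, QuotientGroup.map_mk'_self, sup_bot_eq] at h1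

theorem inf_pPrimePCore_of_index (S : Sylow p X) (h : (pPrimePCore p X).index.Coprime p) :
    (S : Subgroup X) ⊓ pPrimePCore p X = S := by
  refine inf_eq_left.2 fun s hs => ?_
  haveI : (pPrimePCore p X).Normal := by
    haveI := pPrimeCore_normal X p
    haveI := pCore_normal (X ⧸ pPrimeCore p X) p
    unfold Cfsg.pPrimePCore
    infer_instance
  refine (QuotientGroup.eq_one_iff s).1 (orderOf_eq_one_iff.1 ?_)
  obtain ⟨j, hj⟩ := S.isPGroup' ⟨s, hs⟩
  refine Nat.eq_one_of_dvd_coprimes (h.symm.pow_left j)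
    ((orderOf_map_dvd (QuotientGroup.mk' (pPrimePCore p X)) s).trans
      (orderOf_dvd_of_pow_eq_one (congrArg Subtype.val hj))) ?_
  rw [Subgroup.index_eq_card]
  exact orderOf_dvd_natCard _

end Solvable

section Ambient

variable {G : Type*} [Group G] [Finite G]

/-- `O_{p'}(X)` as a subgroup of `G`. -/
noncomputable abbrev core (p : ℕ) (X : Subgroup G) : Subgroup G := (pPrimeCore p X).map X.subtype

theorem core_le (X : Subgroup G) : core p X ≤ X := Subgroup.map_subtype_le _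

theorem coprime_core (X : Subgroup G) : (Nat.card (core p X)).Coprime p :=
  TransHyp.card_map_coprime (pPrimeCore_coprime X p)

theorem le_normalizer_core (X : Subgroup G) :
    X ≤ Subgroup.normalizer (core p X : Set G) := by
  intro x hx
  refine Subgroup.mem_normalizer_fintype fun y hy => ?_
  obtain ⟨u, hu, rfl⟩ := hy
  exact ⟨⟨x, hx⟩ * u * ⟨x, hx⟩⁻¹, (pPrimeCore_normal X p).conj_mem u hu _, rfl⟩

theorem map_le_normalizer {X : Subgroup G} {W : Subgroup X} {x : X}
    (hx : x ∈ Subgroup.normalizer (W : Set X)) :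
    (x : G) ∈ Subgroup.normalizer ((W.map X.subtype : Subgroup G) : Set G) := by
  refine Subgroup.mem_normalizer_fintype fun y hy => ?_
  obtain ⟨u, hu, rfl⟩ := hy
  exact ⟨x * u * x⁻¹, (Subgroup.mem_normalizer_iff.1 hx u).1 hu, rfl⟩

/-- A factorisation `X = O_{p'}(X) N_X(W)` gives `X ≤ M`. -/
theorem le_of_factor {X M : Subgroup G} {W : Subgroup X}
    (h : pPrimeCore p X ⊔ Subgroup.normalizer (W : Set X) = ⊤) (hcore : core p X ≤ M)
    (hW : Subgroup.normalizer ((W.map X.subtype : Subgroup G) : Set G) ≤ M) : X ≤ M := by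
  intro x hx
  have h1 : pPrimeCore p X ⊔ Subgroup.normalizer (W : Set X) ≤ M.subgroupOf X :=
    sup_le (fun y hy => hcore (Subgroup.mem_map_of_mem _ hy)) fun y hy => hW (map_le_normalizer hy)
  exact h1 (h ▸ Subgroup.mem_top (⟨x, hx⟩ : X))

/-- A `p`-subgroup of `X` that is maximal among them, as a Sylow subgroup of `X`. -/
theorem exists_sylow_of_max {X S : Subgroup G} (hS : IsPGroup p S) (hSX : S ≤ X)
    (hmax : ∀ T : Subgroup G, IsPGroup p T → S ≤ T → T ≤ X → T = S) :
    ∃ Q : Sylow p X, (Q : Subgroup X).map X.subtype = S := by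
  obtain ⟨Q, hQ⟩ := (hS.comap_of_injective X.subtype X.subtype_injective :
    IsPGroup p (S.subgroupOf X)).exists_le_sylow
  refine ⟨Q, hmax _ (Q.isPGroup'.map _) ?_ (Subgroup.map_subtype_le _)⟩
  exact (Subgroup.map_subgroupOf_eq_of_le hSX).ge.trans (Subgroup.map_mono hQ)

/-- A `p`-subgroup strictly below another grows in its normalizer. -/
theorem eq_of_normalizer_max {S T : Subgroup G} (hT : IsPGroup p T) (hST : S ≤ T)
    (h : ∀ U : Subgroup G, IsPGroup p U → S ≤ U → U ≤ T → U ≤ Subgroup.normalizer (S : Set G) → U = S) :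
    T = S := by
  by_contra hne
  have hlt := Trans.lt_inf_normalizer (q := p) hT (lt_of_le_of_ne hST (Ne.symm hne))
  exact hlt.ne' (h _ (hT.to_le inf_le_left) hlt.le inf_le_left inf_le_right)

theorem rank_mono {k : ℕ} {H : Type*} [Group H] (hr : PRankLE p k H) : PRankLE p (k + 1) H :=
  fun A hA hAp => (hr A hA hAp).trans (Nat.pow_le_pow_right hp.out.pos k.le_succ)

theorem rank_of_sylow {k : ℕ} (P : Sylow p G) (hr : PRankLE p k (P : Subgroup G)) : PRankLE p k G := by
  intro A hA hAp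
  have hAP : IsPGroup p A := fun x => ⟨1, by rw [pow_one]; exact Subtype.ext (hAp x x.2)⟩
  obtain ⟨Q, hQ⟩ := hAP.exists_le_sylow
  obtain ⟨g, hg⟩ := MulAction.exists_smul_eq G Q P
  have hle : A.map (MulAut.conj g).toMonoidHom ≤ (P : Subgroup G) := by
    rintro _ ⟨a, ha, rfl⟩
    rw [← hg, Sylow.coe_subgroup_smul]
    exact mem_conj_smul_iff.2 (by simpa [mul_assoc] using hQ ha)
  have := hr ((A.map (MulAut.conj g).toMonoidHom).subgroupOf P) ?_ ?_
  · rwa [card_subgroupOf hle, Subgroup.card_map_of_injective (MulAut.conj g).injective] at this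
  · refine ⟨⟨fun a b => ?_⟩⟩
    obtain ⟨a', ha', hae⟩ := Subgroup.mem_subgroupOf.1 a.2
    obtain ⟨b', hb', hbe⟩ := Subgroup.mem_subgroupOf.1 b.2
    refine Subtype.ext (Subtype.ext ?_)
    show ((a : (P : Subgroup G)) : G) * ((b : (P : Subgroup G)) : G) = _ * _
    rw [← hae, ← hbe, ← map_mul, ← map_mul]
    exact congrArg _ (congrArg (fun w : A => (w : G)) (hA.is_comm.comm ⟨a', ha'⟩ ⟨b', hb'⟩))
  · rintro a ha
    obtain ⟨a', ha', hae⟩ := Subgroup.mem_subgroupOf.1 ha
    refine Subtype.ext ?_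
    rw [Subgroup.coe_pow, ← hae, ← map_pow, hAp a' ha', map_one]; rfl

theorem normalizer_centralizer (A : Subgroup G) :
    Subgroup.normalizer (A : Set G) ≤
      Subgroup.normalizer ((Subgroup.centralizer (A : Set G) : Subgroup G) : Set G) := by
  intro g hg
  refine Subgroup.mem_normalizer_fintype fun c hc => Subgroup.mem_centralizer_iff.2 fun x hx => ?_
  have h1 : g⁻¹ * x * g ∈ A := by
    simpa using (Subgroup.mem_normalizer_iff.1 (inv_mem hg) x).1 hx
  have h2 := Subgroup.mem_centralizer_iff.1 hc _ h1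
  calc x * (g * c * g⁻¹) = g * ((g⁻¹ * x * g) * c) * g⁻¹ := by group
    _ = g * (c * (g⁻¹ * x * g)) * g⁻¹ := by rw [h2]
    _ = _ := by group

variable (hG : IsMinSimpleOddOrder G) {M : Subgroup G} (hM : IsCoatom M)
include hG hM

theorem normalizer_eq {W : Subgroup G} (h1 : W ≠ ⊥) (h2 : W ≠ ⊤)
    (h : M ≤ Subgroup.normalizer (W : Set G)) : Subgroup.normalizer (W : Set G) = M := by
  rcases eq_or_lt_of_le h with e | hlt
  · exact e.symm
  · exact absurd (hM.2 _ hlt) (Trans.normalizer_ne_top hG h1 h2)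

/-- All invariant `p'`-subgroups of a self-centralising normal subgroup of rank three lie in `M`. -/
theorem scn_inv_le (hp2 : p ≠ 2) (hpG : p ∣ Nat.card G) {B : Subgroup G}
    (hB : ∀ Y : Subgroup G, (Nat.card Y).Coprime p → B ≤ Subgroup.normalizer (Y : Set G) → Y ≤ M)
    (P : Sylow p G) (hBP : B ≤ (P : Subgroup G)) {A : Subgroup G}
    (hA : IsSCN (P : Subgroup G) A) (hAc : IsMulCommutative A) (hA3 : ¬ PRankLE p 2 A)
    {Y : Subgroup G} (hY : (Nat.card Y).Coprime p) (hAY : A ≤ Subgroup.normalizer (Y : Set G)) :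
    Y ≤ M := by
  obtain ⟨hAP, hPA, -⟩ := id hA
  have hAp : IsPGroup p A := P.isPGroup'.to_le hAP
  have hr1 : ¬ PRankLE p 1 A := fun h => hA3 (rank_mono h)
  have hT : TransitivityHypothesis A :=
    Cfsg.Agent.S1396.result hG p hpG A hAp hAc (Or.inr ⟨P, hA, hr1⟩)
  obtain ⟨B₃, hB₃, hB₃e, hB₃c⟩ : ∃ B₃ : Subgroup G, B₃ ≤ A ⊓ Subgroup.centralizer (A : Set G) ∧
      IsElementaryAbelian p B₃ ∧ p ^ 3 ≤ Nat.card B₃ := by
    simp only [PRankLE, not_forall, not_le] at hA3
    obtain ⟨E, hE, hEp, hEc⟩ := hA3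
    refine ⟨E.map A.subtype, fun x hx => ⟨Subgroup.map_subtype_le _ hx, Subgroup.mem_centralizer_iff.2
      fun a ha => congrArg (fun w : A => (w : G))
        (hAc.is_comm.comm ⟨a, ha⟩ ⟨x, Subgroup.map_subtype_le _ hx⟩)⟩, ⟨⟨⟨?_⟩⟩, ?_⟩, ?_⟩
    · rintro ⟨_, a, ha, rfl⟩ ⟨_, b, hb, rfl⟩
      exact Subtype.ext (congrArg (fun z : E => ((z : A) : G)) (hE.is_comm.comm ⟨a, ha⟩ ⟨b, hb⟩))
    · rintro _ ⟨a, ha, rfl⟩
      rw [← map_pow, hEp a ha, map_one]
    · rw [Subgroup.card_map_of_injective A.subtype_injective]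
      obtain ⟨n, hn⟩ := IsPGroup.iff_card.1 (hAp.to_subgroup E)
      rw [hn] at hEc ⊢
      exact Nat.pow_le_pow_right hp.out.pos ((Nat.pow_lt_pow_iff_right hp.out.one_lt).1 hEc)
  obtain ⟨n, hn⟩ := IsPGroup.iff_card.1 hAp
  have hn0 : n ≠ 0 := fun e => hT.1 (Subgroup.card_eq_one.1 (by rw [hn, e, pow_zero]))
  haveI := hAc
  have hcopA : (Nat.card A).Coprime (Nat.card Y) := hn ▸ hY.symm.pow_left n
  refine le_of_forall_invariant_pGroup hAY hcopA (Or.inl (isSolvable_of_isMulCommutative A))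
    fun q U hq hU hUY hAU => ?_
  by_cases hU1 : U = ⊥
  · rw [hU1]; exact bot_le
  haveI := Fact.mk hq
  have hqp : q ≠ p := by
    rintro rfl
    obtain ⟨k, hk⟩ := IsPGroup.iff_card.1 hU
    have hk0 : k ≠ 0 := fun e => hU1 (Subgroup.card_eq_one.1 (by rw [hk, e, pow_zero]))
    have h1 : q ∣ Nat.card Y := ((dvd_pow_self q hk0).trans hk.symm.dvd).trans (Subgroup.card_dvd_of_le hUY)
    exact hq.coprime_iff_not_dvd.1 hY.symm h1
  have hqA : ¬ q ∣ Nat.card A := fun h => by
    rw [hn] at h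
    exact hqp ((Nat.prime_dvd_prime_iff_eq hq hp.out).1 (hq.dvd_of_dvd_pow h))
  have hcop : ∀ {Z : Subgroup G}, PiNat (Trans.pc A) (Nat.card Z) → (Nat.card Z).Coprime p :=
    fun {Z} hZ => ((hp.out.coprime_iff_not_dvd).2 fun hd =>
      (hZ p hp.out hd).2 (hn ▸ dvd_pow_self p hn0)).symm
  have hgood : Trans.Good A q (P : Subgroup G) := by
    refine Trans.good_of_subnormal hG hT hqA (fun r hr hd => ?_) hAP ?_
      ⟨fun Q₁ h₁ Q₂ h₂ => Trans.conj_of_rank_three hG hT hqA hB₃e hB₃c hB₃ h₁ h₂, subset_rfl⟩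
    · obtain ⟨m, hm⟩ := IsPGroup.iff_card.1 P.isPGroup'
      rw [hm] at hd
      rw [(Nat.prime_dvd_prime_iff_eq hr hp.out).1 (hr.dvd_of_dvd_pow hd), hn]
      exact dvd_pow_self p hn0
    · haveI : (A.subgroupOf (P : Subgroup G)).Normal := Subgroup.normal_subgroupOf_of_le_normalizer hPA
      exact Subgroup.Normal.isSubnormal inferInstance
  obtain ⟨Q, hQ, hUQ⟩ := Trans.exists_max_ge (Trans.mem_inv_of_isPGroup (H := ⊤) le_top hU hAU)
  obtain ⟨Q₀, hQ₀, -⟩ := Trans.exists_max_ge (P := (P : Subgroup G)) (U := ⊥) (q := q)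
    (Trans.mem_inv_of_isPGroup le_top IsPGroup.of_bot
      (le_top.trans (Subgroup.normalizer_eq_top (H := (⊥ : Subgroup G))).ge))
  obtain ⟨k, hk, hke⟩ := Trans.conj_of_rank_three hG hT hqA hB₃e hB₃c hB₃ (hgood.2 hQ₀) hQ
  set K₀ := piCoreOf (Trans.pc A) (Subgroup.centralizer (A : Set G))
  have hK : K₀ ≤ M := hB _ (hcop (Trans.piNat_piCoreOf _ _))
    ((hBP.trans hPA).trans ((normalizer_centralizer A).trans (Trans.normalizes_piCoreOf _ _)))
  have hQ₀M : Q₀ ≤ M := hB _ (hcop (Trans.inv_piNat hqA hQ₀.1)) (hBP.trans hQ₀.1.2.2)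
  refine hUQ.trans ?_
  rw [hke]
  rintro _ ⟨y, hy, rfl⟩
  exact mul_mem (mul_mem (hK hk) (hQ₀M hy)) (inv_mem (hK hk))

/-- The uniqueness lemma. -/
theorem le_of_inv {B : Subgroup G} (hBp : IsPGroup p B) (hB1 : B ≠ ⊥) (hBM : B ≤ M)
    (hB : ∀ Y : Subgroup G, (Nat.card Y).Coprime p → B ≤ Subgroup.normalizer (Y : Set G) → Y ≤ M)
    {X : Subgroup G} (hX : X ≠ ⊤) (hBX : B ≤ X) : X ≤ M := by
  suffices key : ∀ S : Subgroup G, IsPGroup p S → B ≤ S → S ≤ M → ∀ X : Subgroup G, X ≠ ⊤ → S ≤ X → X ≤ M by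
    exact key B hBp le_rfl hBM X hX hBX
  clear hX hBX X
  have hpG : p ∣ Nat.card G := by
    obtain ⟨n, hn⟩ := IsPGroup.iff_card.1 hBp
    have hn0 : n ≠ 0 := fun e => hB1 (Subgroup.card_eq_one.1 (by rw [hn, e, pow_zero]))
    exact ((dvd_pow_self p hn0).trans hn.symm.dvd).trans (Subgroup.card_subgroup_dvd_card _)
  have hp2 := TransHyp.ne_two hG hpG
  have hodd : ∀ H : Subgroup G, Odd (Nat.card H) := fun H => hG.1.of_dvd_nat H.card_subgroup_dvd_card
  intro S
  induction S using WellFoundedGT.induction with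
  | _ S ih =>
    intro hS hBS hSM X hX hSX
    haveI := Trans.solvable_proper hG hX
    have hOM : ∀ {Z : Subgroup G}, B ≤ Z → core p Z ≤ M := fun {Z} hBZ =>
      hB _ (coprime_core Z) (hBZ.trans (le_normalizer_core Z))
    by_cases hbig : ∃ T : Subgroup G, S < T ∧ IsPGroup p T ∧ T ≤ X ⊓ M
    · obtain ⟨T, hlt, hT, hTle⟩ := hbig
      exact ih T hlt hT (hBS.trans hlt.le) (hTle.trans inf_le_right) X hX (hTle.trans inf_le_left)
    push Not at hbig
    have hS1 : S ≠ ⊥ := fun e => hB1 (le_bot_iff.1 (e ▸ hBS))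
    have hS2 : S ≠ ⊤ := Trans.ne_top_of_solvable hG (haveI := hS.isNilpotent; inferInstance)
    have hBX : B ≤ X := hBS.trans hSX
    by_cases hmaxM : ∃ T : Subgroup G, S < T ∧ IsPGroup p T ∧ T ≤ M
    · -- `S` is not Sylow in `M`
      obtain ⟨T, hlt, hT, hTM⟩ := hmaxM
      have hlt' := Trans.lt_inf_normalizer (q := p) hT hlt
      set T' := T ⊓ Subgroup.normalizer (S : Set G)
      have hT' : IsPGroup p T' := hT.to_le inf_le_left
      have hNS : Subgroup.normalizer (S : Set G) ≤ M := ih T' hlt' hT' (hBS.trans hlt'.le)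
        (inf_le_left.trans hTM) _ (Trans.normalizer_ne_top hG hS1 hS2) inf_le_right
      obtain ⟨Q, hQ⟩ := exists_sylow_of_max hS hSX fun U hU hSU hUX =>
        eq_of_normalizer_max hU hSU fun V hV hSV hVU hVN => by
          by_contra hne
          exact hbig V (lt_of_le_of_ne hSV (Ne.symm hne)) hV (le_inf (hVU.trans hUX) (hVN.trans hNS))
      refine le_of_factor (sup_normalizer_zJ (hodd X) Q) (hOM hBX) ?_
      rw [CfsgLib.Inv.ZJ.map_zJ X.subtype_injective, hQ]
      refine ih T' hlt' hT' (hBS.trans hlt'.le) (inf_le_left.trans hTM) _ ?_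
        (inf_le_right.trans (CfsgLib.Inv.ZJ.normalizer_le_zJ S))
      exact Trans.normalizer_ne_top hG (CfsgLib.Inv.ZJ.zJ_ne_bot (Or.inr rfl) hS hS1)
        fun e => hS2 (top_le_iff.1 (e ▸ CfsgLib.Inv.ZJ.zJ_le S))
    -- `S` is a Sylow subgroup of `M`
    push Not at hmaxM
    haveI := Trans.solvable_proper hG hM.1
    obtain ⟨PM, hPM⟩ := exists_sylow_of_max hS hSM fun T hT hle hTM => by
      by_contra hne
      exact hmaxM T (lt_of_le_of_ne hle (Ne.symm hne)) hT hTM
    have hPMO : ∀ {Y : Subgroup G}, Y ≤ M → (Nat.card Y).Coprime p →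
        S ≤ Subgroup.normalizer (Y : Set G) → Y ≤ core p M := by
      intro Y hYM hY hSY y hy
      refine ⟨⟨y, hYM hy⟩, invariant_le_core PM (Y := Y.subgroupOf M)
        (by rwa [card_subgroupOf hYM]) ?_ (Subgroup.mem_subgroupOf.2 hy), rfl⟩
      refine le_trans (inf_le_left.trans ?_) (TransHyp.subgroupOf_normalizer hSY hYM)
      intro z hz
      exact Subgroup.mem_subgroupOf.2 (hPM ▸ Subgroup.mem_map_of_mem _ hz)
    set O := core p M
    have hZfac : M ≤ O ⊔ Subgroup.normalizer ((CfsgLib.Inv.ZJ.zJ p S : Subgroup G) : Set G) := by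
      intro m hm
      have h1 : pPrimeCore p M ⊔ Subgroup.normalizer
          ((CfsgLib.Inv.ZJ.zJ p (PM : Subgroup M) : Subgroup M) : Set M) ≤
          (O ⊔ Subgroup.normalizer ((CfsgLib.Inv.ZJ.zJ p S : Subgroup G) : Set G)).subgroupOf M := by
        refine sup_le (fun y hy => Subgroup.mem_sup_left (Subgroup.mem_map_of_mem _ hy)) fun y hy => ?_
        have := map_le_normalizer hy
        rw [CfsgLib.Inv.ZJ.map_zJ M.subtype_injective, hPM] at this
        exact Subgroup.mem_sup_right this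
      exact h1 ((sup_normalizer_zJ (hodd M) PM).ge (Subgroup.mem_top ⟨m, hm⟩))
    have hNP : Subgroup.normalizer (S : Set G) ≤ M := by
      by_cases hO : O = ⊥
      · rw [hO, bot_sup_eq] at hZfac
        refine (CfsgLib.Inv.ZJ.normalizer_le_zJ (e := p) S).trans (normalizer_eq hG hM ?_ ?_ hZfac).le
        · exact CfsgLib.Inv.ZJ.zJ_ne_bot (Or.inr rfl) hS hS1
        · exact fun e => hS2 (top_le_iff.1 (e ▸ CfsgLib.Inv.ZJ.zJ_le S))
      intro g hg
      have hgO : O.map (MulAut.conj g).toMonoidHom ≤ O := by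
        have hn : S ≤ Subgroup.normalizer ((O.map (MulAut.conj g).toMonoidHom : Subgroup G) : Set G) := by
          rw [← Trans.map_conj_normalizer]
          conv_lhs => rw [← Subgroup.mem_normalizer_iff_map_conj_eq.1 hg]
          exact Subgroup.map_mono (hSM.trans (le_normalizer_core M))
        have hc : (Nat.card (O.map (MulAut.conj g).toMonoidHom : Subgroup G)).Coprime p := by
          rw [Subgroup.card_map_of_injective (MulAut.conj g).injective]; exact coprime_core M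
        exact hPMO (hB _ hc (hBS.trans hn)) hc hn
      rw [← normalizer_eq hG hM hO (fun e => hM.1 (top_le_iff.1 (e ▸ core_le M))) (le_normalizer_core M)]
      exact Subgroup.mem_normalizer_iff_map_conj_eq.2 (Subgroup.eq_of_le_of_card_ge hgO
        (Subgroup.card_map_of_injective (MulAut.conj g).injective).ge)
    -- hence `S` is a Sylow subgroup of `G`
    have hmaxG : ∀ T : Subgroup G, IsPGroup p T → S ≤ T → T = S := fun T hT hle =>
      eq_of_normalizer_max hT hle fun U hU hSU _ hUN => by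
        by_contra hne
        exact hmaxM U (lt_of_le_of_ne hSU (Ne.symm hne)) hU (hUN.trans hNP)
    obtain ⟨P, hP⟩ := exists_sylow_eq_of_normalizer hS fun T hT hle _ => hmaxG T hT hle
    obtain ⟨Q, hQ⟩ := exists_sylow_of_max hS hSX fun T hT hle _ => hmaxG T hT hle
    by_cases hO : O = ⊥
    · -- `O_{p'}(M) = 1`
      rw [hO, bot_sup_eq] at hZfac
      refine le_of_factor (sup_normalizer_zJ (hodd X) Q) (hOM hBX) ?_
      rw [CfsgLib.Inv.ZJ.map_zJ X.subtype_injective, hQ]
      exact (normalizer_eq hG hM (CfsgLib.Inv.ZJ.zJ_ne_bot (Or.inr rfl) hS hS1)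
        (fun e => hS2 (top_le_iff.1 (e ▸ CfsgLib.Inv.ZJ.zJ_le S))) hZfac).le
    refine le_of_factor (sup_normalizer_inf Q) (hOM hBX) ?_
    by_cases hr : PRankLE p 2 (P : Subgroup G)
    · have hpX : p ∣ Nat.card X := by
        obtain ⟨n, hn⟩ := IsPGroup.iff_card.1 hS
        have hn0 : n ≠ 0 := fun e => hS1 (Subgroup.card_eq_one.1 (by rw [hn, e, pow_zero]))
        exact ((dvd_pow_self p hn0).trans hn.symm.dvd).trans (Subgroup.card_dvd_of_le hSX)
      rw [inf_pPrimePCore_of_index Q (Cfsg.Agent.S1450.result (hodd X) p hpX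
        (CfsgLib.OddLocal.restrict_rank (rank_of_sylow P hr))).2.2.2.2.2, hQ]
      exact hNP
    obtain ⟨A₀, hA₀n, hA₀c, hA₀s, hA₀3⟩ := SCN3.exists_scn3 hp2 P.isPGroup' hr
    haveI := hA₀n
    set A := A₀.map (P : Subgroup G).subtype with hAdef
    have hAP : A ≤ P := Subgroup.map_subtype_le _
    have hSCN : IsSCN (P : Subgroup G) A := by
      refine ⟨hAP, ?_, le_antisymm ?_ ?_⟩
      · intro x hx
        exact map_le_normalizer (x := ⟨x, hx⟩) (Subgroup.normalizer_eq_top_iff.2 hA₀n ▸ Subgroup.mem_top _)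
      · rintro x ⟨hxP, hxc⟩
        refine ⟨⟨x, hxP⟩, ?_, rfl⟩
        rw [← hA₀s]
        exact Subgroup.mem_centralizer_iff.2 fun a ha => Subtype.ext
          (Subgroup.mem_centralizer_iff.1 hxc a (Subgroup.mem_map_of_mem _ ha))
      · refine le_inf hAP ?_
        rintro _ ⟨a, ha, rfl⟩
        refine Subgroup.mem_centralizer_iff.2 ?_
        rintro _ ⟨b, hb, rfl⟩
        exact congrArg (fun w : A₀ => ((w : (P : Subgroup G)) : G)) (hA₀c.is_comm.comm ⟨b, hb⟩ ⟨a, ha⟩)
    have hAc : IsMulCommutative A := ⟨⟨fun a b => Subtype.ext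
      (Subgroup.mem_centralizer_iff.1 (hSCN.2.2.ge b.2).2 a a.2)⟩⟩
    have hA3 : ¬ PRankLE p 2 A := fun h => hA₀3 (by
      intro E hE hEp
      have := h ((E.map A₀.subtype).map (P : Subgroup G).subtype |>.subgroupOf A) ?_ ?_
      · rwa [card_subgroupOf (Subgroup.map_mono (Subgroup.map_subtype_le _)),
          card_map_subtype, card_map_subtype] at this
      · refine ⟨⟨fun a b => ?_⟩⟩
        obtain ⟨a', ⟨a'', ha'', rfl⟩, hae⟩ := Subgroup.mem_subgroupOf.1 a.2
        obtain ⟨b', ⟨b'', hb'', rfl⟩, hbe⟩ := Subgroup.mem_subgroupOf.1 b.2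
        refine Subtype.ext (Subtype.ext ?_)
        show ((a : A) : G) * ((b : A) : G) = _ * _
        rw [← hae, ← hbe]
        exact congrArg (fun w : E => (((w : A₀) : (P : Subgroup G)) : G))
          (hE.is_comm.comm ⟨a'', ha''⟩ ⟨b'', hb''⟩)
      · rintro a ha
        obtain ⟨a', ⟨a'', ha'', rfl⟩, hae⟩ := Subgroup.mem_subgroupOf.1 ha
        refine Subtype.ext ?_
        rw [Subgroup.coe_pow, ← hae, ← map_pow, ← map_pow, hEp a'' ha'', map_one, map_one]; rfl)
    have hPS : (P : Subgroup G) = S := hP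
    have hAS : A ≤ S := hPS ▸ hAP
    have hAinv : ∀ {Y : Subgroup G}, (Nat.card Y).Coprime p → A ≤ Subgroup.normalizer (Y : Set G) →
        Y ≤ O := fun {Y} hY hAY =>
      TransHyp.inv_le_case_b hG hp2 P hSCN hAc (fun h => hA3 (rank_mono h)) hM.1 (hAS.trans hSM)
        (scn_inv_le hG hM hp2 hpG hB P (hPS ▸ hBS) hSCN hAc hA3 hY hAY) hY hAY
    -- `A` lies in `Q ∩ O_{p',p}(X)`
    set W := ((Q : Subgroup X) ⊓ pPrimePCore p X).map X.subtype with hW
    have hAW : A ≤ W := by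
      intro a ha
      refine ⟨⟨a, hSX (hAS ha)⟩, ⟨?_, ?_⟩, rfl⟩
      · obtain ⟨z, hz, hze⟩ := (hQ ▸ hAS ha : a ∈ (Q : Subgroup X).map X.subtype)
        rwa [show (⟨a, hSX (hAS ha)⟩ : X) = z from Subtype.ext hze.symm]
      · exact TransHyp.subgroupOf_le (hodd X) Q (hQ ▸ hAS) hAc (hQ ▸ hPS ▸ hSCN.2.1)
          (Subgroup.mem_subgroupOf.2 ha)
    have hWS : W ≤ S := (Subgroup.map_mono inf_le_left).trans hQ.le
    intro g hg
    have hgO : O.map (MulAut.conj g).toMonoidHom ≤ O := by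
      refine hAinv (by rw [Subgroup.card_map_of_injective (MulAut.conj g).injective]; exact coprime_core M) ?_
      rw [← Trans.map_conj_normalizer]
      refine hAW.trans ?_
      conv_lhs => rw [← Subgroup.mem_normalizer_iff_map_conj_eq.1 hg]
      exact Subgroup.map_mono ((hWS.trans hSM).trans (le_normalizer_core M))
    rw [← normalizer_eq hG hM hO (fun e => hM.1 (top_le_iff.1 (e ▸ core_le M))) (le_normalizer_core M)]
    exact Subgroup.mem_normalizer_iff_map_conj_eq.2 (Subgroup.eq_of_le_of_card_ge hgO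
      (Subgroup.card_map_of_injective (MulAut.conj g).injective).ge)

/-- The uniqueness lemma in terms of `InUniqueMaximal`. -/
theorem inUniqueMaximal_of_inv {B : Subgroup G} (hBp : IsPGroup p B) (hB1 : B ≠ ⊥) (hBM : B ≤ M)
    (hB : ∀ Y : Subgroup G, (Nat.card Y).Coprime p → B ≤ Subgroup.normalizer (Y : Set G) → Y ≤ M) :
    InUniqueMaximal B := by
  refine ⟨M, ⟨hM, hBM⟩, fun L ⟨hL, hBL⟩ => ?_⟩
  rcases eq_or_lt_of_le (le_of_inv hG hM hBp hB1 hBM hB hL.1 hBL) with e | hlt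
  · exact e
  · exact absurd (hL.2 _ hlt) hM.1

/-- Centralisers in `M` give the invariance hypothesis. -/
theorem inUniqueMaximal_of_centralizers {B : Subgroup G} (hBp : IsPGroup p B)
    (hBc : IsMulCommutative B) (hBnc : ¬ IsCyclic B) (hBM : B ≤ M)
    (h : ∀ b ∈ B, b ≠ 1 → Subgroup.centralizer ({b} : Set G) ≤ M) : InUniqueMaximal B := by
  haveI := hBc
  refine inUniqueMaximal_of_inv hG hM hBp
    (fun e => hBnc (by rw [e]; infer_instance)) hBM fun Y hY hBY => ?_
  obtain ⟨n, hn⟩ := IsPGroup.iff_card.1 hBp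
  exact le_of_noncyclic_centralizers hBnc hBY (hn ▸ hY.symm.pow_left n)
    fun b hb hb1 => inf_le_right.trans (h b hb hb1)

end Ambient

end CfsgLib.OddLocal.Uniq
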