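import Cfsg.Agent.S3769
import Cfsg.Agent.Solv.Generation
import Cfsg.Agent.Solv.PGroups
import Cfsg.Agent.Solv.FittingBasic
import Cfsg.Prelude.Def_Transfer
import Mathlib

/-!
Coprime action with a `Z`-group of fixed points (toward `p`-length one of `[K, R]`).
-/

set_option autoImplicit false
set_option linter.style.haveILetI false
set_option linter.unusedSectionVars false

open scoped commutatorElement Pointwise

namespace CfsgLib.OddLocal.ZComm

open CfsgLib.Solv

variable {G : Type*} [Group G] [Finite G]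

/-- The theorem of Hall and Higman in odd order, on a section `V / D`. -/
theorem sec [Group.IsSolvable G] (hodd : Odd (Nat.card G)) {p : ℕ} [Fact p.Prime]
    {V D Q R : Subgroup G} (hVp : IsPGroup p V) (hDV : D ≤ V)
    (hDn : V ≤ Subgroup.normalizer (D : Set G)) (hcomm : ∀ v ∈ V, ∀ w ∈ V, ⁅v, w⁆ ∈ D)
    (hpow : ∀ v ∈ V, v ^ p ∈ D)
    (hQV : Q ≤ Subgroup.normalizer (V : Set G)) (hRV : R ≤ Subgroup.normalizer (V : Set G))
    (hQD : Q ≤ Subgroup.normalizer (D : Set G)) (hRD : R ≤ Subgroup.normalizer (D : Set G))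
    (hRQ : R ≤ Subgroup.normalizer (Q : Set G)) (hQp : (Nat.card Q).Coprime p)
    (hR : (Nat.card R).Prime) (hRp : (Nat.card R).Coprime p)
    (hcop : (Nat.card R).Coprime (Nat.card Q))
    (hfix : V ⊓ Subgroup.centralizer (R : Set G) ≤ D) :
    ∀ a ∈ ⁅R, Q⁆, ∀ v ∈ V, ⁅a, v⁆ ∈ D := by
  classical
  set N := Subgroup.normalizer (D : Set G) with hN
  set D' := D.subgroupOf N with hD'
  haveI : D'.Normal := Subgroup.normal_subgroupOf_of_le_normalizer le_rfl
  set f := QuotientGroup.mk' D' with hf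
  let img : Subgroup G → Subgroup (N ⧸ D') := fun H => (H.subgroupOf N).map f
  have himg : ∀ (H : Subgroup G) (x : G) (hx : x ∈ N), x ∈ H → f ⟨x, hx⟩ ∈ img H :=
    fun H x hx h => ⟨⟨x, hx⟩, h, rfl⟩
  have hker : ∀ x : N, f x = 1 ↔ (x : G) ∈ D := fun x => (QuotientGroup.eq_one_iff x).trans Iff.rfl
  have hcard : ∀ H : Subgroup G, H ≤ N → (Nat.card H).Coprime p → Nat.card (img H) = Nat.card H := by
    intro H hH hcH
    have hd : H ⊓ D = ⊥ := by
      obtain ⟨m, hm⟩ := IsPGroup.iff_card.1 (hVp.to_le hDV)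
      exact inf_eq_bot_of_coprime_card (by rw [hm]; exact hcH.pow_right m)
    rw [← card_subgroupOf hH]
    refine (Nat.card_congr ((Equiv.Set.imageOfInjOn f (H.subgroupOf N : Set N) ?_))).symm
    intro a ha b hb e
    have h1 : ((a⁻¹ * b : N) : G) ∈ H ⊓ D := ⟨H.mul_mem (H.inv_mem ha) hb, (hker _).1 (by
      rw [map_mul, map_inv, e, inv_mul_cancel])⟩
    rw [hd, Subgroup.mem_bot] at h1
    exact inv_mul_eq_one.1 (Subtype.ext h1)
  have hnorm : ∀ A B : Subgroup G, A ≤ N → A ≤ Subgroup.normalizer (B : Set G) →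
      img A ≤ Subgroup.normalizer (img B : Set (N ⧸ D')) := by
    intro A B hAN hAB
    rw [le_normalizer_iff_forall_conj_mem]
    rintro _ ⟨a, ha, rfl⟩ _ ⟨b, hb, rfl⟩
    refine ⟨a * b * a⁻¹, ?_, by simp⟩
    exact le_normalizer_iff_forall_conj_mem.1 hAB (a : G) ha (b : G) hb
  have hVel : Cfsg.IsElementaryAbelian p (img V) := by
    refine ⟨⟨⟨?_⟩⟩, ?_⟩
    · rintro ⟨_, a, ha, rfl⟩ ⟨_, b, hb, rfl⟩
      refine Subtype.ext ?_
      show f a * f b = f b * f a
      rw [← commutatorElement_eq_one_iff_mul_comm, ← map_commutatorElement, hker]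
      exact hcomm (a : G) ha (b : G) hb
    · rintro _ ⟨a, ha, rfl⟩
      rw [← map_pow, hker]
      exact hpow (a : G) ha
  have hVimgV := hnorm
  set Y := img Q ⊔ img R with hY
  haveI : Group.IsSolvable (N ⧸ D') := inferInstance
  have hcY : Nat.card Y = Nat.card R * Nat.card Q := by
    rw [hY, sup_comm, card_sup_of_le_normalizer (hnorm R Q hRD hRQ)
      (by rw [hcard R hRD hRp, hcard Q hQD hQp]; exact hcop), hcard R hRD hRp, hcard Q hQD hQp]
  have hpY : ¬ p ∣ Nat.card Y := by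
    rw [hcY]
    intro h
    rcases (Fact.out : p.Prime).dvd_mul.1 h with h1 | h1
    · exact (Fact.out : p.Prime).ne_one (Nat.eq_one_of_dvd_coprimes hRp h1 dvd_rfl)
    · exact (Fact.out : p.Prime).ne_one (Nat.eq_one_of_dvd_coprimes hQp h1 dvd_rfl)
  have hKR : img Q ⊓ img R = ⊥ := inf_eq_bot_of_coprime_card
    (by rw [hcard R hRD hRp, hcard Q hQD hQp]; exact hcop.symm)
  have hrel : (img Q).relIndex Y = Nat.card R := by
    have h1 := relIndex_mul_card (le_sup_left : img Q ≤ Y)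
    rw [← hY] at h1
    rw [hcY, hcard Q hQD hQp] at h1
    rw [mul_comm (Nat.card R)] at h1
    exact Nat.eq_of_mul_eq_mul_left Nat.card_pos h1
  have hoddY : Odd (Nat.card Y) :=
    hodd.of_dvd_nat ((Subgroup.card_subgroup_dvd_card Y).trans
      ((Subgroup.card_quotient_dvd_card D').trans (Subgroup.card_subgroup_dvd_card N)))
  have hCV : img V ⊓ Subgroup.centralizer (img R : Set (N ⧸ D')) = ⊥ := by
    rw [eq_bot_iff]
    rintro _ ⟨⟨v, hv, rfl⟩, hc⟩
    rw [Subgroup.mem_bot, hker]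
    obtain ⟨d, hd, hvd⟩ := exists_centralizing_in_coset (A := R) (K := V) (D := D) hRV
      (by
        obtain ⟨m, hm⟩ := IsPGroup.iff_card.1 hVp
        exact inf_eq_bot_of_coprime_card (by rw [hm]; exact hRp.pow_right m))
      hDV hRD (by
        obtain ⟨m, hm⟩ := IsPGroup.iff_card.1 (hVp.to_le hDV)
        rw [hm]; exact hRp.pow_right m)
      (Or.inl inferInstance) (x := (v : G)) hv (fun a ha => by
        have h1 : f (v⁻¹ * ⟨a, hRD ha⟩ * v * ⟨a, hRD ha⟩⁻¹) = 1 := by
          have h2 := Subgroup.mem_centralizer_iff.1 hc _ (himg R a (hRD ha) ha)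
          rw [map_mul, map_mul, map_mul, map_inv, map_inv, mul_assoc ((f v)⁻¹), h2]
          group
        exact (hker _).1 h1)
    have h3 : (v : G) * d ∈ D := hfix ⟨V.mul_mem hv (hDV hd), hvd⟩
    have := D.mul_mem h3 (D.inv_mem hd)
    simpa using this
  have key := Cfsg.Agent.S3769.result Y inferInstance hoddY (img V) (Fact.out : p.Prime) hVel hpY
    (sup_le (hnorm Q V hQD hQV) (hnorm R V hRD hRV)) (img Q) (img R) le_sup_left
    (sup_le Subgroup.le_normalizer (hnorm R Q hRD hRQ))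
    (by rw [hrel, hcard Q hQD hQp]; exact hcop.symm) le_sup_right (by rw [hcard R hRD hRp]; exact hR)
    hKR rfl hCV
  intro a ha v hv
  have haN : a ∈ N := (Subgroup.commutator_le.2 fun r hr q hq => by
    rw [commutatorElement_def]
    exact N.mul_mem (N.mul_mem (N.mul_mem (hRD hr) (hQD hq)) (N.inv_mem (hRD hr))) (N.inv_mem (hQD hq))) ha
  have hfa : f ⟨a, haN⟩ ∈ ⁅img R, img Q⁆ := by
    rw [← Subgroup.map_commutator]
    refine ⟨⟨a, haN⟩, ?_, rfl⟩
    have h1 : (⁅R.subgroupOf N, Q.subgroupOf N⁆).map N.subtype = ⁅R, Q⁆ := by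
      rw [Subgroup.map_commutator, Subgroup.map_subgroupOf_eq_of_le hRD,
        Subgroup.map_subgroupOf_eq_of_le hQD]
    rw [← h1] at ha
    obtain ⟨b, hb, hba⟩ := ha
    have : b = ⟨a, haN⟩ := Subtype.ext hba
    rw [← this]; exact hb
  have h2 := Subgroup.mem_centralizer_iff.1 (key hfa) _ (himg V v (hDn hv) hv)
  have h3 : f ⁅(⟨a, haN⟩ : N), ⟨v, hDn hv⟩⁆ = 1 := by
    rw [map_commutatorElement, commutatorElement_eq_one_iff_mul_comm]
    exact h2.symm
  exact (hker _).1 h3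

/-- A fixed point free elementary abelian module has fixed points of `R` as soon as `[A, R] = A`. -/
theorem fixed_ne_bot [Group.IsSolvable G] (hodd : Odd (Nat.card G)) {p : ℕ} [Fact p.Prime]
    {V A R : Subgroup G} (hV : Cfsg.IsElementaryAbelian p V) (hV1 : V ≠ ⊥)
    (hAV : A ≤ Subgroup.normalizer (V : Set G)) (hRV : R ≤ Subgroup.normalizer (V : Set G))
    (hRA : R ≤ Subgroup.normalizer (A : Set G)) (hAp : (Nat.card A).Coprime p)
    (hR : (Nat.card R).Prime) (hRp : (Nat.card R).Coprime p)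
    (hcop : (Nat.card R).Coprime (Nat.card A)) (hAR : ⁅A, R⁆ = A)
    (hCA : V ⊓ Subgroup.centralizer (A : Set G) = ⊥) :
    V ⊓ Subgroup.centralizer (R : Set G) ≠ ⊥ := by
  intro h
  have hVp : IsPGroup p V := fun v => ⟨1, by
    rw [pow_one]; exact Subtype.ext (hV.2 v v.2)⟩
  have hbn : ∀ H : Subgroup G, H ≤ Subgroup.normalizer ((⊥ : Subgroup G) : Set G) := fun H => by
    rw [le_normalizer_iff_forall_conj_mem]
    intro a _ b hb
    rw [Subgroup.mem_bot.1 hb]; simp
  have key := sec hodd (D := ⊥) hVp bot_le (hbn V) (fun v hv w hw => by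
      rw [Subgroup.mem_bot, commutatorElement_eq_one_iff_mul_comm]
      exact congrArg (fun t : V => (t : G)) (hV.1.is_comm.comm ⟨v, hv⟩ ⟨w, hw⟩))
    (fun v hv => by rw [Subgroup.mem_bot]; exact hV.2 v hv)
    hAV hRV (hbn A) (hbn R) hRA hAp hR hRp hcop h.le
  apply hV1
  rw [eq_bot_iff, ← hCA]
  refine le_inf le_rfl fun v hv => Subgroup.mem_centralizer_iff.2 fun a ha => ?_
  have ha' : a ∈ ⁅R, A⁆ := by
    rw [Subgroup.commutator_comm, hAR]; exact ha
  exact commutatorElement_eq_one_iff_mul_comm.1 (Subgroup.mem_bot.1 (key a ha' v hv))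

end CfsgLib.OddLocal.ZComm
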