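import Cfsg.Agent.OddLocal.ZHyper
import Cfsg.Agent.Solv.InvolutionTransitive
import Mathlib

/-!
A group `L = [L, R]` faithful on an elementary abelian `p`-group, without normal `p`-subgroup and with
a `Z`-group of fixed points of `R₀`, has order prime to `p`.
-/

set_option autoImplicit false
set_option linter.style.haveILetI false
set_option linter.unusedSectionVars false
set_option maxHeartbeats 800000

open scoped commutatorElement Pointwise

namespace CfsgLib.OddLocal.ZComm

open CfsgLib.Solv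

variable {G : Type*} [Group G] [Finite G]

/-- In a `p`-subgroup of a `Z`-group there is only one subgroup of order `p`. -/
theorem root_mem_of_zGroup {p : ℕ} [Fact p.Prime] {Z : Subgroup G} (hZ : IsZGroup Z)
    {E C : Subgroup G} (hEp : IsPGroup p E) (hEZ : E ≤ Z) (hCE : C ≤ E) (hC1 : C ≠ ⊥)
    (hCe : ∀ c ∈ C, c ^ p = 1) {t : G} (ht : t ∈ E) (htp : t ^ p = 1) : t ∈ C := by
  classical
  haveI := hZ
  haveI : IsZGroup E := IsZGroup.of_injective (f := Subgroup.inclusion hEZ) (Subgroup.inclusion_injective hEZ)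
  haveI hEcyc : IsCyclic E := by
    haveI : IsCyclic (⊤ : Subgroup E) :=
      IsPGroup.isCyclic_of_isZGroup (hEp.of_equiv (Subgroup.topEquiv (G := E)).symm)
    exact isCyclic_of_surjective (Subgroup.topEquiv (G := E)).toMonoidHom
      (Subgroup.topEquiv (G := E)).surjective
  haveI := Fintype.ofFinite E
  obtain ⟨c, hc, hc1⟩ := C.bot_or_exists_ne_one.resolve_left hC1
  set c' : E := ⟨c, hCE hc⟩
  have hord : orderOf c' = p := orderOf_eq_prime (Subtype.ext (hCe c hc)) fun e => hc1 (congrArg Subtype.val e)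
  have hsub : (Finset.univ.filter fun a : E => a ∈ Subgroup.zpowers c') ⊆
      Finset.univ.filter fun a : E => a ^ p = 1 := by
    intro a ha
    simp only [Finset.mem_filter, Finset.mem_univ, true_and] at ha ⊢
    obtain ⟨k, rfl⟩ := Subgroup.mem_zpowers_iff.1 ha
    rw [← zpow_natCast, ← zpow_mul, mul_comm, zpow_mul, zpow_natCast, ← hord, pow_orderOf_eq_one,
      one_zpow]
  have hle := IsCyclic.card_pow_eq_one_le (α := E) (Fact.out : p.Prime).pos
  have heq := Finset.eq_of_subset_of_card_le hsub (le_trans hle (le_of_eq (by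
    rw [← hord, ← Nat.card_zpowers, Nat.card_eq_fintype_card, Fintype.card_subtype])))
  have ht' : (⟨t, ht⟩ : E) ∈ Finset.univ.filter fun a : E => a ^ p = 1 := by
    simp only [Finset.mem_filter, Finset.mem_univ, true_and]; exact Subtype.ext htp
  rw [← heq] at ht'
  simp only [Finset.mem_filter, Finset.mem_univ, true_and] at ht'
  obtain ⟨k, hk⟩ := Subgroup.mem_zpowers_iff.1 ht'
  have hk' : c ^ k = t := congrArg Subtype.val hk
  rw [← hk']; exact C.zpow_mem hc k

theorem complement_case [Group.IsSolvable G] (hodd : Odd (Nat.card G)) {p : ℕ} [Fact p.Prime]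
    {V L R R₀ : Subgroup G} (hV : Cfsg.IsElementaryAbelian p V)
    (hLV : L ≤ Subgroup.normalizer (V : Set G)) (hRV : R ≤ Subgroup.normalizer (V : Set G))
    (hRL : R ≤ Subgroup.normalizer (L : Set G)) (hLC : L ⊓ Subgroup.centralizer (V : Set G) = ⊥)
    (hcL : (Nat.card R).Coprime (Nat.card L)) (hcV : (Nat.card R).Coprime (Nat.card V))
    (hR0R : R₀ ≤ R) (hR0 : (Nat.card R₀).Prime) (hLR : ⁅L, R⁆ = L)
    (hZ : IsZGroup ↥((V ⊔ L) ⊓ Subgroup.centralizer (R₀ : Set G)))
    (hOp : ∀ T ≤ L, L ≤ Subgroup.normalizer (T : Set G) → IsPGroup p T → T = ⊥) :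
    ¬ p ∣ Nat.card L := by
  classical
  intro hpL
  have hpp : p.Prime := Fact.out
  have hVp : IsPGroup p V := fun v => ⟨1, by rw [pow_one]; exact Subtype.ext (hV.2 v v.2)⟩
  have hR0V := hR0R.trans hRV
  have hR0L := hR0R.trans hRL
  have hcR0L : (Nat.card R₀).Coprime (Nat.card L) := hcL.coprime_dvd_left (Subgroup.card_dvd_of_le hR0R)
  have hR0p : (Nat.card R₀).Coprime p := hcR0L.coprime_dvd_right hpL
  obtain ⟨nV, hnV⟩ := IsPGroup.iff_card.1 hVp
  have hOpL : Cfsg.pCore p L = ⊥ := by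
    have h := hOp ((Cfsg.pCore p L).map L.subtype) (Subgroup.map_subtype_le _)
      (Subgroup.le_normalizer.trans (UniqSCN.normalizes_char _ pCore_characteristic))
      ((pCore_isPGroup L p).map _)
    rwa [Subgroup.map_eq_bot_iff_of_injective _ L.subtype_injective] at h
  set Q := (Cfsg.pPrimeCore p L).map L.subtype with hQ
  have hQL : Q ≤ L := Subgroup.map_subtype_le _
  have hQp : (Nat.card Q).Coprime p := by rw [hQ, card_map_subtype]; exact pPrimeCore_coprime L p
  have hLQ : L ≤ Subgroup.normalizer (Q : Set G) :=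
    Subgroup.le_normalizer.trans (UniqSCN.normalizes_char _ pPrimeCore_characteristic)
  have hR0Q : R₀ ≤ Subgroup.normalizer (Q : Set G) :=
    hR0L.trans (UniqSCN.normalizes_char _ pPrimeCore_characteristic)
  have hCQ : L ⊓ Subgroup.centralizer (Q : Set G) ≤ Q := by
    rintro a ⟨haL, hac⟩
    refine ⟨⟨a, haL⟩, CfsgLib.Solv.InvConj.centralizer_pPrimeCore_le hOpL
      (Subgroup.mem_centralizer_iff.2 fun b hb => Subtype.ext
        (Subgroup.mem_centralizer_iff.1 hac b ⟨b, hb, rfl⟩)), rfl⟩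
  have hcR0Q : (Nat.card R₀).Coprime (Nat.card Q) :=
    hcR0L.coprime_dvd_right (Subgroup.card_dvd_of_le hQL)
  -- `p`-subgroups centralising `Q` are trivial
  have hpQ : ∀ T ≤ L, IsPGroup p T → T ≤ Subgroup.centralizer (Q : Set G) → T = ⊥ := by
    intro T hT hTp hTc
    have h1 : T ≤ Q := fun a ha => hCQ ⟨hT ha, hTc ha⟩
    obtain ⟨k, hk⟩ := IsPGroup.iff_card.1 hTp
    exact Subgroup.card_eq_one.1 (Nat.eq_one_of_dvd_coprimes
      (show (Nat.card T).Coprime (Nat.card Q) by rw [hk]; exact hQp.symm.pow_left k)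
      dvd_rfl (Subgroup.card_dvd_of_le h1))
  by_cases hCV : V ⊓ Subgroup.centralizer (R₀ : Set G) = ⊥
  · -- `R₀` centralises `Q`, hence `L`
    have hbn : ∀ H : Subgroup G, H ≤ Subgroup.normalizer ((⊥ : Subgroup G) : Set G) := fun H => by
      rw [le_normalizer_iff_forall_conj_mem]
      intro a _ b hb
      rw [Subgroup.mem_bot.1 hb]; simp
    have hsec := sec hodd (D := ⊥) (Q := Q) (R := R₀) hVp bot_le (hbn V)
      (fun v hv w hw => by
        rw [Subgroup.mem_bot, commutatorElement_eq_one_iff_mul_comm]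
        exact commute_of_isElementary hV hv hw)
      (fun v hv => by rw [Subgroup.mem_bot]; exact hV.2 v hv)
      (hQL.trans hLV) hR0V (hbn Q) (hbn R₀) hR0Q hQp hR0 hR0p hcR0Q hCV.le
    have hRQc : R₀ ≤ Subgroup.centralizer (Q : Set G) := by
      rw [← Subgroup.commutator_eq_bot_iff_le_centralizer, eq_bot_iff, ← hLC]
      intro a ha
      refine ⟨hQL ((Subgroup.commutator_comm R₀ Q).symm ▸ commutator_le_of_le_normalizer hR0Q <| ha),
        Subgroup.mem_centralizer_iff.2 fun v hv => ?_⟩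
      exact (commutatorElement_eq_one_iff_mul_comm.1 (Subgroup.mem_bot.1 (hsec a ha v hv))).symm
    have h1 : ⁅⁅R₀, Q⁆, L⁆ = ⊥ := by
      rw [Subgroup.commutator_eq_bot_iff_le_centralizer.2 hRQc]; exact Subgroup.commutator_bot_left _
    have h2 : ⁅⁅Q, L⁆, R₀⁆ = ⊥ := by
      rw [eq_bot_iff]
      refine (Subgroup.commutator_mono (commutator_le_of_le_normalizer hLQ) le_rfl).trans (le_of_eq ?_)
      rw [Subgroup.commutator_comm]; exact Subgroup.commutator_eq_bot_iff_le_centralizer.2 hRQc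
    have h3 := Subgroup.commutator_commutator_eq_bot_of_rotate h1 h2
    rw [Subgroup.commutator_eq_bot_iff_le_centralizer] at h3
    have h4 : ⁅L, R₀⁆ ≤ Q := fun a ha => hCQ ⟨commutator_le_of_le_normalizer hR0L ha, h3 ha⟩
    have h5 : ⁅L, R₀⁆ = ⊥ := by
      rw [← commutator_commutator_right hR0L hcR0L (Or.inl inferInstance), eq_bot_iff]
      refine (Subgroup.commutator_mono h4 le_rfl).trans (le_of_eq ?_)
      rw [Subgroup.commutator_comm]; exact Subgroup.commutator_eq_bot_iff_le_centralizer.2 hRQc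
    have hLc : L ≤ (V ⊔ L) ⊓ Subgroup.centralizer (R₀ : Set G) :=
      le_inf le_sup_right (Subgroup.commutator_eq_bot_iff_le_centralizer.1 h5)
    haveI := hZ
    haveI hLZ : IsZGroup L :=
      IsZGroup.of_injective (f := Subgroup.inclusion hLc) (Subgroup.inclusion_injective hLc)
    -- `L` is abelian
    haveI : IsCyclic (commutator L) := IsZGroup.isCyclic_commutator _
    set C := (commutator L).map L.subtype with hC
    haveI : IsCyclic C := isCyclic_of_surjective
      ((commutator L).equivMapOfInjective _ L.subtype_injective).toMonoidHom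
      ((commutator L).equivMapOfInjective _ L.subtype_injective).surjective
    have hch : (commutator L).Characteristic := inferInstance
    have hLC' : L ≤ Subgroup.centralizer (C : Set G) := by
      conv_lhs => rw [← hLR]
      exact commutator_le_centralizer_of_cyclic
        (Subgroup.le_normalizer.trans (UniqSCN.normalizes_char _ hch))
        (hRL.trans (UniqSCN.normalizes_char _ hch))
    have hnil : Group.IsNilpotent L := by
      refine Subgroup.isNilpotent_of_ker_le_center (Abelianization.of (G := L)) ?_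
      rw [Abelianization.ker_of]
      intro a ha
      rw [Subgroup.mem_center_iff]
      intro b
      exact Subtype.ext (Subgroup.mem_centralizer_iff.1 (hLC' b.2) a ⟨a, ha, rfl⟩).symm
    haveI := hnil
    haveI : IsCyclic L := inferInstance
    letI := IsCyclic.commGroup (α := L)
    obtain ⟨P⟩ : Nonempty (Sylow p L) := inferInstance
    have hPn : (P : Subgroup L).Normal := ⟨fun a ha b => by rw [mul_comm b a, mul_inv_cancel_right]; exact ha⟩
    have hP1 : (P : Subgroup L) = ⊥ := le_bot_iff.1 (hOpL ▸ CfsgLib.Solv.le_pCore P.2)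
    have := P.dvd_card_of_dvd_card hpL
    rw [hP1, Subgroup.card_bot] at this
    exact hpp.ne_one (Nat.eq_one_of_dvd_one this)
  -- now `R₀` has exactly `p` fixed points in `V`
  set C0 := V ⊓ Subgroup.centralizer (R₀ : Set G) with hC0
  haveI := hZ
  have hC0Z : C0 ≤ (V ⊔ L) ⊓ Subgroup.centralizer (R₀ : Set G) := inf_le_inf_right _ le_sup_left
  obtain ⟨c₀, hc₀, hc₀1⟩ := C0.bot_or_exists_ne_one.resolve_left hCV
  have hcard : Nat.card C0 ≤ p := by
    have hc : Subgroup.zpowers c₀ = C0 := le_antisymm (Subgroup.zpowers_le.2 hc₀) fun t ht =>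
      root_mem_of_zGroup hZ (hVp.to_le inf_le_left : IsPGroup p C0) hC0Z (Subgroup.zpowers_le.2 hc₀)
        (fun e => hc₀1 (Subgroup.zpowers_eq_bot.1 e))
        (fun c hc => hV.2 c (Subgroup.zpowers_le.2 hc₀.1 hc)) ht (hV.2 t ht.1)
    rw [← hc, Nat.card_zpowers, orderOf_eq_prime (hV.2 _ hc₀.1) hc₀1]
  have hfpf : ∀ T ≤ L, IsPGroup p T → T ⊓ Subgroup.centralizer (R₀ : Set G) = ⊥ := by
    intro T hT hTp
    by_contra hne
    haveI : Nontrivial ↥(T ⊓ Subgroup.centralizer (R₀ : Set G)) := (Subgroup.nontrivial_iff_ne_bot _).2 hne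
    obtain ⟨k, hk, hk'⟩ := ((hTp.to_le inf_le_left :
      IsPGroup p ↥(T ⊓ Subgroup.centralizer (R₀ : Set G))).nontrivial_iff_card).1 inferInstance
    obtain ⟨t, ht⟩ := exists_prime_orderOf_dvd_card' (G := ↥(T ⊓ Subgroup.centralizer (R₀ : Set G))) p
      (by rw [hk']; exact dvd_pow_self p hk.ne')
    have htp : (t : G) ^ p = 1 := by rw [← Subgroup.coe_pow, ← ht, pow_orderOf_eq_one]; rfl
    have ht1 : (t : G) ≠ 1 := fun e => hpp.ne_one (by
      rw [← ht]; exact orderOf_eq_one_iff.2 (Subtype.ext e))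
    have htn : Subgroup.zpowers (t : G) ≤ Subgroup.normalizer (C0 : Set G) := by
      refine le_normalizer_inf_centralizer ((Subgroup.zpowers_le.2 (hLV (hT t.2.1)))) ?_
      rw [Subgroup.zpowers_le]
      refine Subgroup.mem_normalizer_iff.2 fun a => ?_
      constructor
      · intro ha
        rwa [← Subgroup.mem_centralizer_iff.1 t.2.2 a ha, mul_inv_cancel_right]
      · intro ha
        have h7 := Subgroup.mem_centralizer_iff.1 t.2.2 _ ha
        have : a = (t : G)⁻¹ * ((t : G) * a * (t : G)⁻¹ * t) := by group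
        rw [this, h7]
        simpa [mul_assoc] using ha
    have hE : IsPGroup p (Subgroup.zpowers (t : G) ⊔ C0 : Subgroup G) := by
      refine IsPGroup.to_sup_of_normal_right' ?_ (hVp.to_le inf_le_left) htn
      exact (hTp.to_le (Subgroup.zpowers_le.2 t.2.1) : _)
    have hEZ : Subgroup.zpowers (t : G) ⊔ C0 ≤ (V ⊔ L) ⊓ Subgroup.centralizer (R₀ : Set G) :=
      sup_le (Subgroup.zpowers_le.2 ⟨Subgroup.mem_sup_right (hT t.2.1), t.2.2⟩) hC0Z
    have htC := root_mem_of_zGroup hZ hE hEZ le_sup_right hCV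
      (fun c hc => hV.2 c hc.1) (Subgroup.mem_sup_left (Subgroup.mem_zpowers (t : G))) htp
    refine ht1 (Subgroup.mem_bot.1 (hLC.le ⟨hT t.2.1, Subgroup.mem_centralizer_iff.2 fun v hv => ?_⟩))
    exact commute_of_isElementary hV hv htC.1
  -- a minimal invariant `p`-subgroup
  obtain ⟨P, hP⟩ := exists_invariant_sylow (p := p) hR0L hcR0L (Or.inl inferInstance)
  have hP1 : (P : Subgroup L).map L.subtype ≠ ⊥ := by
    rw [Ne, Subgroup.map_eq_bot_iff_of_injective _ L.subtype_injective]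
    intro h
    have := P.dvd_card_of_dvd_card hpL
    rw [h, Subgroup.card_bot] at this
    exact hpp.ne_one (Nat.eq_one_of_dvd_one this)
  obtain ⟨U, hUP, hUmin⟩ := Finite.exists_le_minimal
    (p := fun X : Subgroup G => X ≤ (P : Subgroup L).map L.subtype ∧ X ≠ ⊥ ∧
      R₀ ≤ Subgroup.normalizer (X : Set G)) (a := (P : Subgroup L).map L.subtype) ⟨le_rfl, hP1, hP⟩
  obtain ⟨-, hU1, hR0U⟩ := hUmin.1
  have hUL : U ≤ L := hUP.trans (Subgroup.map_subtype_le _)
  have hUpg : IsPGroup p U := (P.2.map L.subtype).to_le hUP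
  have hirrU : ∀ X ≤ U, R₀ ≤ Subgroup.normalizer (X : Set G) → X = ⊥ ∨ X = U := by
    intro X hX hR
    rcases eq_or_ne X ⊥ with h | h
    · exact Or.inl h
    · exact Or.inr (le_antisymm hX (hUmin.2 ⟨hX.trans hUP, h, hR⟩ hX))
  have hfixU : U ⊓ Subgroup.centralizer (R₀ : Set G) = ⊥ := hfpf U hUL hUpg
  haveI : Nontrivial U := (Subgroup.nontrivial_iff_ne_bot U).2 hU1
  have hUc : (Subgroup.center U).map U.subtype = U := by
    refine (hirrU _ (Subgroup.map_subtype_le _)
      (hR0U.trans (UniqSCN.normalizes_char _ inferInstance))).resolve_left ?_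
    rw [Subgroup.map_eq_bot_iff_of_injective _ U.subtype_injective]
    haveI := hUpg.center_nontrivial
    exact (Subgroup.nontrivial_iff_ne_bot _).1 inferInstance
  have hUcomm : ∀ a ∈ U, ∀ b ∈ U, a * b = b * a := by
    intro a ha b hb
    rw [← hUc] at ha
    obtain ⟨z, hz, rfl⟩ := ha
    exact (congrArg Subtype.val (Subgroup.mem_center_iff.1 hz ⟨b, hb⟩)).symm
  let Ω : Subgroup G :=
    { carrier := {u | u ∈ U ∧ u ^ p = 1}
      one_mem' := ⟨U.one_mem, one_pow _⟩
      mul_mem' := fun {a b} ha hb => ⟨U.mul_mem ha.1 hb.1, by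
        rw [(show Commute a b from hUcomm a ha.1 b hb.1).mul_pow, ha.2, hb.2, one_mul]⟩
      inv_mem' := fun {a} ha => ⟨U.inv_mem ha.1, by rw [inv_pow, ha.2, inv_one]⟩ }
  have hUexp : ∀ u ∈ U, u ^ p = 1 := by
    have hΩ : Ω = U := by
      refine (hirrU Ω (fun a ha => ha.1) ?_).resolve_left ?_
      · rw [le_normalizer_iff_forall_conj_mem]
        exact fun a ha u hu => ⟨le_normalizer_iff_forall_conj_mem.1 hR0U a ha u hu.1, by
          rw [conj_pow, hu.2, mul_one, mul_inv_cancel]⟩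
      · intro h
        obtain ⟨k, hk, hk'⟩ := hUpg.nontrivial_iff_card.1 inferInstance
        obtain ⟨u, hu⟩ := exists_prime_orderOf_dvd_card' (G := U) p (by rw [hk']; exact dvd_pow_self p hk.ne')
        have hm : (u : G) ∈ Ω := ⟨u.2, by rw [← Subgroup.coe_pow, ← hu, pow_orderOf_eq_one]; rfl⟩
        rw [h, Subgroup.mem_bot] at hm
        exact hpp.ne_one (by rw [← hu]; exact orderOf_eq_one_iff.2 (Subtype.ext hm))
    exact fun u hu => (hΩ.ge hu).2
  obtain ⟨kU, hkU⟩ := IsPGroup.iff_card.1 hUpg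
  have hcR0U : (Nat.card R₀).Coprime (Nat.card U) := by rw [hkU]; exact hR0p.pow_right kU
  have hUR : ⁅U, R₀⁆ = U := commutator_eq_self hR0U hcR0U (Or.inl inferInstance) hfixU
  have hUQ : ¬ Q ≤ Subgroup.centralizer (U : Set G) := fun h =>
    hU1 (hpQ U hUL hUpg (Subgroup.le_centralizer_iff.1 h))
  -- a minimal invariant subgroup of `Q` not centralised by `U`
  have hUQn : U ≤ Subgroup.normalizer (Q : Set G) := hUL.trans hLQ
  obtain ⟨s, S₀, hs, hS₀s, hS₀Q, hS₀n, hS₀c⟩ :
      ∃ (s : ℕ) (S₀ : Subgroup G), s.Prime ∧ IsPGroup s S₀ ∧ S₀ ≤ Q ∧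
        U ⊔ R₀ ≤ Subgroup.normalizer (S₀ : Set G) ∧ ¬ S₀ ≤ Subgroup.centralizer (U : Set G) := by
    by_contra hcon
    push Not at hcon
    refine hUQ (le_of_forall_invariant_pGroup (A := U ⊔ R₀) (sup_le hUQn hR0Q) ?_
      (Or.inl inferInstance) fun s S hs hSs hSQ hSn => hcon s S hs hSs hSQ hSn)
    rw [sup_comm, card_sup_of_le_normalizer hR0U hcR0U]
    exact Nat.Coprime.mul_left hcR0Q (by rw [hkU]; exact hQp.symm.pow_left kU)
  haveI := Fact.mk hs
  obtain ⟨S, hSS₀, hSmin⟩ := Finite.exists_le_minimal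
    (p := fun X : Subgroup G => X ≤ S₀ ∧ U ≤ Subgroup.normalizer (X : Set G) ∧
      R₀ ≤ Subgroup.normalizer (X : Set G) ∧ ¬ X ≤ Subgroup.centralizer (U : Set G)) (a := S₀)
    ⟨le_rfl, le_sup_left.trans hS₀n, le_sup_right.trans hS₀n, hS₀c⟩
  obtain ⟨-, hUS, hR0S, hSc⟩ := hSmin.1
  have hprop : ∀ X ≤ S, U ≤ Subgroup.normalizer (X : Set G) → R₀ ≤ Subgroup.normalizer (X : Set G) →
      X ≠ S → X ≤ Subgroup.centralizer (U : Set G) := by
    intro X hX hU hR hne
    by_contra h
    exact hne (le_antisymm hX (hSmin.2 ⟨hX.trans hSS₀, hU, hR, h⟩ hX))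
  have hSQ : S ≤ Q := hSS₀.trans hS₀Q
  have hSL : S ≤ L := hSQ.trans hQL
  have hSs : IsPGroup s S := hS₀s.to_le hSS₀
  obtain ⟨kS, hkS⟩ := IsPGroup.iff_card.1 hSs
  have hS1 : S ≠ ⊥ := fun h => hSc (by rw [h]; exact bot_le)
  have hsdvd : s ∣ Nat.card S := by
    haveI := (Subgroup.nontrivial_iff_ne_bot S).2 hS1
    obtain ⟨k, hk, hk'⟩ := hSs.nontrivial_iff_card.1 inferInstance
    rw [hk']; exact dvd_pow_self s hk.ne'
  have hsp : p ≠ s := fun h => hpp.ne_one (Nat.eq_one_of_dvd_coprimes hQp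
    (h ▸ hsdvd.trans (Subgroup.card_dvd_of_le hSQ)) dvd_rfl)
  have hs2 : s ≠ 2 := fun h => Nat.not_even_iff_odd.2 hodd (even_iff_two_dvd.2
    (h ▸ hsdvd.trans (Subgroup.card_subgroup_dvd_card S)))
  have hSp : (Nat.card S).Coprime p := hQp.coprime_dvd_left (Subgroup.card_dvd_of_le hSQ)
  have hcUS : (Nat.card U).Coprime (Nat.card S) := by rw [hkU]; exact hSp.symm.pow_left kU
  have hUs : (Nat.card U).Coprime s := by
    rw [hkU]; exact ((Nat.coprime_primes hpp hs).2 hsp).pow_left kU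
  have hcR0S : (Nat.card R₀).Coprime (Nat.card S) :=
    hcR0L.coprime_dvd_right (Subgroup.card_dvd_of_le hSL)
  have hR0s : (Nat.card R₀).Coprime s := hcR0S.coprime_dvd_right hsdvd
  have hSU : ⁅S, U⁆ = S := by
    by_contra hne
    have h1 := hprop _ (commutator_le_of_le_normalizer hUS) (right_le_normalizer_commutator S U)
      (le_normalizer_commutator hR0S hR0U) hne
    rw [← Subgroup.commutator_eq_bot_iff_le_centralizer,
      commutator_commutator_right hUS hcUS (Or.inl inferInstance)] at h1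
    exact hSc (Subgroup.commutator_eq_bot_iff_le_centralizer.1 h1)
  -- the Frattini subgroup of `S`
  set Φ := (frattini S).map S.subtype with hΦ
  have hΦS : Φ ≤ S := Subgroup.map_subtype_le _
  have hΦn : Subgroup.normalizer (S : Set G) ≤ Subgroup.normalizer (Φ : Set G) :=
    UniqSCN.normalizes_char _ inferInstance
  have hΦne : Φ ≠ S := by
    intro h
    haveI := (Subgroup.nontrivial_iff_ne_bot S).2 hS1
    obtain ⟨M, hM, -⟩ := (eq_top_or_exists_le_coatom (⊥ : Subgroup S)).resolve_left bot_ne_top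
    refine hM.1 (top_le_iff.1 (fun a _ => frattini_le_coatom hM ?_))
    have ha : (a : G) ∈ Φ := h.symm ▸ a.2
    exact (Subgroup.mem_map_iff_mem S.subtype_injective).1 ha
  have hΦU : Φ ≤ Subgroup.centralizer (U : Set G) :=
    hprop Φ hΦS (hUS.trans hΦn) (hR0S.trans hΦn) hΦne
  have hΦZ : S ≤ Subgroup.centralizer (Φ : Set G) := by
    have h1 : ⁅⁅U, Φ⁆, S⁆ = ⊥ := by
      rw [Subgroup.commutator_comm U Φ, Subgroup.commutator_eq_bot_iff_le_centralizer.2 hΦU]
      exact Subgroup.commutator_bot_left _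
    have h2 : ⁅⁅Φ, S⁆, U⁆ = ⊥ := by
      rw [eq_bot_iff]
      exact (Subgroup.commutator_mono (commutator_le_of_le_normalizer
        (Subgroup.le_normalizer.trans hΦn)) le_rfl).trans
        (Subgroup.commutator_eq_bot_iff_le_centralizer.2 hΦU).le
    have h3 := Subgroup.commutator_commutator_eq_bot_of_rotate h1 h2
    rwa [hSU, Subgroup.commutator_eq_bot_iff_le_centralizer] at h3
  have hcommΦ : ∀ a ∈ S, ∀ b ∈ S, ⁅a, b⁆ ∈ Φ := fun a ha b hb =>
    ⟨⁅⟨a, ha⟩, ⟨b, hb⟩⁆, commutator_le_frattini hSs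
      (Subgroup.commutator_mem_commutator (Subgroup.mem_top _) (Subgroup.mem_top _)), rfl⟩
  have hpowΦ : ∀ a ∈ S, a ^ s ∈ Φ := fun a ha => ⟨⟨a, ha⟩ ^ s, pow_mem_frattini hSs _, rfl⟩
  have hcent : ∀ a ∈ Φ, ∀ b ∈ S, Commute a b := fun a ha b hb =>
    Subgroup.mem_centralizer_iff.1 (hΦZ hb) a ha
  -- exponent `s`
  have hSexp : ∀ a ∈ S, a ^ s = 1 := by
    let Om : Subgroup G :=
      { carrier := {a | a ∈ S ∧ a ^ s = 1}
        one_mem' := ⟨S.one_mem, one_pow _⟩
        mul_mem' := fun {a b} ha hb => ⟨S.mul_mem ha.1 hb.1, by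
          rw [mul_pow_prime hs2 (hcent _ (hcommΦ b hb.1 a ha.1) a ha.1)
            (hcent _ (hcommΦ b hb.1 a ha.1) b hb.1) ?_, ha.2, hb.2, one_mul]
          rw [← pow_commutator_right (hcent _ (hcommΦ b hb.1 a ha.1) a ha.1), ha.2,
            commutatorElement_one_right]⟩
        inv_mem' := fun {a} ha => ⟨S.inv_mem ha.1, by rw [inv_pow, ha.2, inv_one]⟩ }
    have hOmn : ∀ X : Subgroup G, X ≤ Subgroup.normalizer (S : Set G) →
        X ≤ Subgroup.normalizer (Om : Set G) := fun X hX => by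
      rw [le_normalizer_iff_forall_conj_mem]
      exact fun g hg a ha => ⟨le_normalizer_iff_forall_conj_mem.1 hX g hg a ha.1, by
        rw [conj_pow, ha.2, mul_one, mul_inv_cancel]⟩
    have hOm : Om = S := by
      by_contra hne
      have h1 := hprop Om (fun a ha => ha.1) (hOmn U hUS) (hOmn R₀ hR0S) hne
      refine hSc (Subgroup.le_centralizer_iff.1 fun u hu => ?_)
      have hau : (Subgroup.normalizerMonoidHom S ⟨u, hUS hu⟩ : MulAut S) = 1 := by
        refine aut_eq_one_of_fix_omega hs2 hSs ?_ ?_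
        · refine hUs.coprime_dvd_left ((orderOf_map_dvd _ _).trans ?_)
          rw [Subgroup.orderOf_mk]; exact Subgroup.orderOf_dvd_natCard U hu
        · intro z hz
          refine Subtype.ext ?_
          show u * (z : G) * u⁻¹ = z
          rw [Subgroup.mem_centralizer_iff.1 (h1 ⟨z.2, congrArg Subtype.val hz⟩) u hu,
            mul_inv_cancel_right]
      refine Subgroup.mem_centralizer_iff.2 fun z hz => ?_
      have h2 : u * z * u⁻¹ = z := congrArg Subtype.val (DFunLike.congr_fun hau (⟨z, hz⟩ : S))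
      exact (mul_inv_eq_iff_eq_mul.1 h2).symm
    exact fun a ha => (hOm.ge ha).2
  have hR0Up : R₀ ≤ Subgroup.normalizer (U : Set G) := hR0U
  -- `S` is abelian
  set A := ⁅S, S⁆ with hA
  have hAS : A ≤ S := commutator_le_of_le_normalizer Subgroup.le_normalizer
  have hAΦ : A ≤ Φ := Subgroup.commutator_le.2 hcommΦ
  have hAfix : A ⊓ Subgroup.centralizer (R₀ : Set G) = ⊥ := by
    by_contra hne
    obtain ⟨z, hz, hz1⟩ := (A ⊓ Subgroup.centralizer (R₀ : Set G)).bot_or_exists_ne_one.resolve_left hne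
    have hle : S ⊓ Subgroup.centralizer (R₀ : Set G) ≤ Φ := by
      intro t ht
      have hE : IsPGroup s ↥(S ⊓ Subgroup.centralizer (R₀ : Set G)) := hSs.to_le inf_le_left
      exact hAΦ (root_mem_of_zGroup hZ hE (inf_le_inf_right _ (hSL.trans le_sup_right))
        (inf_le_inf_right _ hAS) hne (fun c hc => hSexp c (hAS hc.1)) ht (hSexp t ht.1)).1
    have hsec := sec hodd (V := S) (D := Φ) (Q := U) (R := R₀) hSs hΦS
      (Subgroup.le_normalizer.trans hΦn) hcommΦ hpowΦ hUS hR0S (hUS.trans hΦn) (hR0S.trans hΦn)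
      hR0U hUs hR0 hR0s hcR0U hle
    refine hSc (Subgroup.le_centralizer_iff.1 ?_)
    refine le_centralizer_of_trivial_on_frattini_quotient ?_ fun a ha k hk => ?_
    · exact hcUS.coprime_dvd_right (Subgroup.card_subgroup_dvd_card _)
    · exact hsec a (by rw [Subgroup.commutator_comm, hUR]; exact ha) k hk
  have hA1 : A = ⊥ := by
    have hcA := trick hodd hV hUpg hcard hR0 hR0p
      (hcR0S.coprime_dvd_right (Subgroup.card_dvd_of_le hAS))
      (hSp.coprime_dvd_left (Subgroup.card_dvd_of_le hAS)) (hAS.trans (hSL.trans hLV))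
      (hUL.trans hLV) hR0V (hSL.trans hLV)
      (le_normalizer_commutator hR0S hR0S) hR0U
      (le_normalizer_commutator Subgroup.le_normalizer Subgroup.le_normalizer) hAS
      (Subgroup.le_centralizer_iff.1 (hAΦ.trans hΦU)) hAfix hSU
    rw [eq_bot_iff, ← hLC]
    exact le_inf (hAS.trans hSL) hcA
  have hSel : Cfsg.IsElementaryAbelian s S :=
    ⟨⟨⟨fun a b => Subtype.ext (commutatorElement_eq_one_iff_mul_comm.1 (Subgroup.mem_bot.1
      (hA1 ▸ Subgroup.commutator_mem_commutator a.2 b.2)))⟩⟩, fun a ha => hSexp a ha⟩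
  have hirrS : ∀ X ≤ S, U ≤ Subgroup.normalizer (X : Set G) → R₀ ≤ Subgroup.normalizer (X : Set G) →
      X = ⊥ ∨ X = S := by
    intro X hX hU hR
    by_cases hne : X = S
    · exact Or.inr hne
    refine Or.inl ?_
    rw [eq_bot_iff, ← abelian_fixed_inf_commutator hSel.1 hUS hcUS, hSU]
    exact le_inf (le_inf hX (hprop X hX hU hR hne)) hX
  have hfin := hyper_core hsp hodd hV hSel hUexp hU1 hcard hR0 (hSL.trans hLV) (hUL.trans hLV)
    hR0V hUS hR0S hR0U hfixU hirrU hirrS hSU
  exact hS1 (eq_bot_iff.2 (hLC ▸ le_inf hSL hfin))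

end CfsgLib.OddLocal.ZComm
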