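import Cfsg.Agent.OddLocal.ZComm
import Cfsg.Agent.OddLocal.UniqueSCN
import Cfsg.Agent.Solv.ClassTwo
import Cfsg.Agent.Solv.InvolutionTransitive
import Mathlib

/-!
The complement case of the theorem on `p`-length one of `[K, R]` with a `Z`-group of fixed points.
-/

set_option autoImplicit false
set_option linter.style.haveILetI false
set_option linter.unusedSectionVars false
set_option maxHeartbeats 800000

open scoped commutatorElement Pointwise

namespace CfsgLib.OddLocal.ZComm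

open CfsgLib.Solv

variable {G : Type*} [Group G] [Finite G]

theorem le_normalizer_commutator {X A B : Subgroup G} (hA : X ≤ Subgroup.normalizer (A : Set G))
    (hB : X ≤ Subgroup.normalizer (B : Set G)) :
    X ≤ Subgroup.normalizer ((⁅A, B⁆ : Subgroup G) : Set G) := by
  intro g hg
  refine mem_normalizer_of_conj_smul_eq ?_
  rw [conj_smul_eq_map, Subgroup.map_commutator, ← conj_smul_eq_map, ← conj_smul_eq_map,
    conj_smul_eq_self_of_mem_normalizer (hA hg), conj_smul_eq_self_of_mem_normalizer (hB hg)]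

theorem le_normalizer_inf_centralizer {X W A : Subgroup G}
    (hW : X ≤ Subgroup.normalizer (W : Set G)) (hA : X ≤ Subgroup.normalizer (A : Set G)) :
    X ≤ Subgroup.normalizer ((W ⊓ Subgroup.centralizer (A : Set G) : Subgroup G) : Set G) := by
  rw [le_normalizer_iff_forall_conj_mem]
  intro g hg w hw
  refine ⟨le_normalizer_iff_forall_conj_mem.1 hW g hg w hw.1,
    Subgroup.mem_centralizer_iff.2 fun a ha => ?_⟩
  have h1 := Subgroup.mem_centralizer_iff.1 hw.2 _
    (le_normalizer_iff_forall_conj_mem.1 hA g⁻¹ (X.inv_mem hg) a ha)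
  rw [inv_inv] at h1
  calc a * (g * w * g⁻¹) = g * ((g⁻¹ * a * g) * w) * g⁻¹ := by group
    _ = g * (w * (g⁻¹ * a * g)) * g⁻¹ := by rw [h1]
    _ = g * w * g⁻¹ * a := by group

theorem le_normalizer_inf {X A B : Subgroup G} (hA : X ≤ Subgroup.normalizer (A : Set G))
    (hB : X ≤ Subgroup.normalizer (B : Set G)) :
    X ≤ Subgroup.normalizer ((A ⊓ B : Subgroup G) : Set G) := by
  rw [le_normalizer_iff_forall_conj_mem]
  exact fun g hg w hw => ⟨le_normalizer_iff_forall_conj_mem.1 hA g hg w hw.1,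
    le_normalizer_iff_forall_conj_mem.1 hB g hg w hw.2⟩

/-- Commutators of two operators act trivially on a cyclic group. -/
theorem commutator_le_centralizer_of_cyclic {A B C : Subgroup G} [IsCyclic C]
    (hA : A ≤ Subgroup.normalizer (C : Set G)) (hB : B ≤ Subgroup.normalizer (C : Set G)) :
    ⁅A, B⁆ ≤ Subgroup.centralizer (C : Set G) := by
  obtain ⟨c₀, hc₀⟩ := IsCyclic.exists_generator (α := C)
  have hpow : ∀ a ∈ Subgroup.normalizer (C : Set G), ∃ i : ℤ, ∀ z ∈ C, a * z * a⁻¹ = z ^ i := by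
    intro a ha
    obtain ⟨i, hi⟩ := Subgroup.mem_zpowers_iff.1
      (hc₀ ⟨a * c₀ * a⁻¹, (Subgroup.mem_normalizer_iff.1 ha _).1 c₀.2⟩)
    refine ⟨i, fun z hz => ?_⟩
    obtain ⟨k, hk⟩ := Subgroup.mem_zpowers_iff.1 (hc₀ ⟨z, hz⟩)
    have hk' : (c₀ : G) ^ k = z := congrArg Subtype.val hk
    have hi' : (c₀ : G) ^ i = a * c₀ * a⁻¹ := congrArg Subtype.val hi
    rw [← hk', ← conj_zpow, ← hi', ← zpow_mul, ← zpow_mul, mul_comm]
  rw [Subgroup.commutator_le]
  intro a ha b hb
  refine Subgroup.mem_centralizer_iff.2 fun z hz => ?_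
  have key : ∀ y ∈ C, ⁅a, b⁆ * y * ⁅a, b⁆⁻¹ = y := by
    intro y hy
    have hba : b * a ∈ Subgroup.normalizer (C : Set G) := mul_mem (hB hb) (hA ha)
    have hmem : (b * a)⁻¹ * y * (b * a) ∈ C :=
      (Subgroup.mem_normalizer_iff''.1 hba y).1 hy
    obtain ⟨i, hi⟩ := hpow a (hA ha)
    obtain ⟨j, hj⟩ := hpow b (hB hb)
    have h2 : ∀ w ∈ C, (b * a) * w * (b * a)⁻¹ = (a * b) * w * (a * b)⁻¹ := by
      intro w hw
      calc (b * a) * w * (b * a)⁻¹ = b * (a * w * a⁻¹) * b⁻¹ := by group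
        _ = w ^ (i * j) := by rw [hi w hw, hj _ (C.zpow_mem hw i), ← zpow_mul]
        _ = a * (b * w * b⁻¹) * a⁻¹ := by rw [hj w hw, hi _ (C.zpow_mem hw j), ← zpow_mul, mul_comm j i]
        _ = (a * b) * w * (a * b)⁻¹ := by group
    have h3 := h2 _ hmem
    calc ⁅a, b⁆ * y * ⁅a, b⁆⁻¹
        = (a * b) * ((b * a)⁻¹ * y * (b * a)) * (a * b)⁻¹ := by rw [commutatorElement_def]; group
      _ = (b * a) * ((b * a)⁻¹ * y * (b * a)) * (b * a)⁻¹ := h3.symm
      _ = y := by group
  exact (mul_inv_eq_iff_eq_mul.1 (key z hz)).symm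

/-- A `p`-element normalising a group of order at most `p` and exponent `p` centralises it. -/
theorem pElement_centralizes {p : ℕ} [hp : Fact p.Prime] {C : Subgroup G} (hC : Nat.card C ≤ p)
    (hCe : ∀ c ∈ C, c ^ p = 1) {u : G} (hu : u ^ p = 1)
    (hn : u ∈ Subgroup.normalizer (C : Set G)) : u ∈ Subgroup.centralizer (C : Set G) := by
  refine Subgroup.mem_centralizer_iff.2 fun c hc => ?_
  rcases eq_or_ne c 1 with rfl | hc1
  · simp
  have hord : orderOf c = p := orderOf_eq_prime (hCe c hc) hc1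
  have hCz : Subgroup.zpowers c = C :=
    Subgroup.eq_of_le_of_card_ge (Subgroup.zpowers_le.2 hc) (by rw [Nat.card_zpowers, hord]; exact hC)
  obtain ⟨k, hk⟩ : ∃ k : ℕ, c ^ k = u * c * u⁻¹ := by
    have h1 : u * c * u⁻¹ ∈ Subgroup.zpowers c := by
      rw [hCz]; exact (Subgroup.mem_normalizer_iff.1 hn c).1 hc
    exact (Submonoid.mem_powers_iff _ _).1 (mem_powers_iff_mem_zpowers.2 h1)
  have hit : ∀ m : ℕ, u ^ m * c * (u ^ m)⁻¹ = c ^ (k ^ m) := by
    intro m
    induction m with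
    | zero => simp
    | succ m ih =>
      calc u ^ (m + 1) * c * (u ^ (m + 1))⁻¹ = u * (u ^ m * c * (u ^ m)⁻¹) * u⁻¹ := by
            rw [pow_succ' u m]; group
        _ = u * c ^ (k ^ m) * u⁻¹ := by rw [ih]
        _ = c ^ (k ^ (m + 1)) := by rw [← conj_pow, ← hk, ← pow_mul, ← pow_succ']
  have h2 := hit p
  rw [hu, one_mul, inv_one, mul_one] at h2
  have h3 : (k ^ p : ℕ) ≡ 1 [MOD p] := by
    rw [← hord, ← pow_eq_pow_iff_modEq, pow_one]; rw [hord]; exact h2.symm
  have h4 : k ≡ 1 [MOD p] := by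
    rw [← ZMod.natCast_eq_natCast_iff] at h3 ⊢
    rwa [Nat.cast_pow, ZMod.pow_card] at h3
  rw [← hord, ← pow_eq_pow_iff_modEq, pow_one, hk] at h4
  exact (mul_inv_eq_iff_eq_mul.1 h4).symm

theorem commutator_eq_self {A R : Subgroup G} (hRA : R ≤ Subgroup.normalizer (A : Set G))
    (hcop : (Nat.card R).Coprime (Nat.card A)) (hs : Group.IsSolvable R ∨ Group.IsSolvable A)
    (hfix : A ⊓ Subgroup.centralizer (R : Set G) = ⊥) : ⁅A, R⁆ = A := by
  refine le_antisymm (commutator_le_of_le_normalizer hRA) fun a ha => ?_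
  obtain ⟨x, hx, c, hc, rfl⟩ := commutator_sup_inf_centralizer hRA hcop hs a ha
  rw [hfix, Subgroup.mem_bot] at hc
  rw [hc, mul_one]; exact hx

theorem commute_of_isElementary {p : ℕ} {V : Subgroup G} (hV : Cfsg.IsElementaryAbelian p V)
    {a b : G} (ha : a ∈ V) (hb : b ∈ V) : a * b = b * a :=
  congrArg (fun t : V => (t : G)) (hV.1.is_comm.comm ⟨a, ha⟩ ⟨b, hb⟩)

/-- An abelian group normalised by `R₀` without fixed points, centralised by `U`, contained in a
group `S = [S, U]`, acts trivially on a module with at most `p` fixed points of `R₀`. -/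
theorem trick [Group.IsSolvable G] (hodd : Odd (Nat.card G)) {p : ℕ} [Fact p.Prime]
    {V A U R₀ S : Subgroup G} (hV : Cfsg.IsElementaryAbelian p V) (hU : IsPGroup p U)
    (hcard : Nat.card (V ⊓ Subgroup.centralizer (R₀ : Set G) : Subgroup G) ≤ p)
    (hR : (Nat.card R₀).Prime) (hRp : (Nat.card R₀).Coprime p)
    (hRA : (Nat.card R₀).Coprime (Nat.card A)) (hAp : (Nat.card A).Coprime p)
    (hAV : A ≤ Subgroup.normalizer (V : Set G)) (hUV : U ≤ Subgroup.normalizer (V : Set G))
    (hR0V : R₀ ≤ Subgroup.normalizer (V : Set G)) (hSV : S ≤ Subgroup.normalizer (V : Set G))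
    (hR0A : R₀ ≤ Subgroup.normalizer (A : Set G)) (hR0U : R₀ ≤ Subgroup.normalizer (U : Set G))
    (hSA : S ≤ Subgroup.normalizer (A : Set G)) (hAS : A ≤ S)
    (hUA : U ≤ Subgroup.centralizer (A : Set G)) (hfix : A ⊓ Subgroup.centralizer (R₀ : Set G) = ⊥)
    (hSU : ⁅S, U⁆ = S) : A ≤ Subgroup.centralizer (V : Set G) := by
  classical
  have hpp : p.Prime := Fact.out
  have hVp : IsPGroup p V := fun v => ⟨1, by rw [pow_one]; exact Subtype.ext (hV.2 v v.2)⟩
  obtain ⟨n, hn⟩ := IsPGroup.iff_card.1 hVp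
  have hAVcop : (Nat.card A).Coprime (Nat.card V) := by rw [hn]; exact hAp.pow_right n
  have hsR : Group.IsSolvable R₀ := inferInstance
  have hAR : ⁅A, R₀⁆ = A := commutator_eq_self hR0A hRA (Or.inl hsR) hfix
  set W := ⁅V, A⁆ with hW
  have hWV : W ≤ V := commutator_le_of_le_normalizer hAV
  have hWA : ⁅W, A⁆ = W := commutator_commutator_right hAV hAVcop (Or.inl inferInstance)
  have hWC : W ⊓ Subgroup.centralizer (A : Set G) = ⊥ := by
    rw [eq_bot_iff, ← abelian_fixed_inf_commutator hV.1 hAV hAVcop]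
    exact fun w hw => ⟨⟨hWV hw.1, hw.2⟩, hw.1⟩
  have hUAn : U ≤ Subgroup.normalizer (A : Set G) := by
    rw [le_normalizer_iff_forall_conj_mem]
    intro u hu a ha
    rwa [(Subgroup.mem_centralizer_iff.1 (hUA hu) a ha).symm, mul_inv_cancel_right]
  have hAn : A ≤ Subgroup.normalizer (A : Set G) := Subgroup.le_normalizer
  have hSW : S ≤ Subgroup.normalizer (W : Set G) := le_normalizer_commutator hSV hSA
  have hUW : U ≤ Subgroup.normalizer (W : Set G) := le_normalizer_commutator hUV hUAn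
  have hRW : R₀ ≤ Subgroup.normalizer (W : Set G) := le_normalizer_commutator hR0V hR0A
  have hAW : A ≤ Subgroup.normalizer (W : Set G) := hAS.trans hSW
  rcases eq_or_ne W ⊥ with hW0 | hW0
  · intro a ha
    refine Subgroup.mem_centralizer_iff.2 fun v hv => ?_
    exact commutatorElement_eq_one_iff_mul_comm.1 (Subgroup.mem_bot.1
      (hW0 ▸ Subgroup.commutator_mem_commutator hv ha))
  exfalso
  set W1 := W ⊓ Subgroup.centralizer (U : Set G) with hW1
  have hW1W : W1 ≤ W := inf_le_left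
  have hW1ne : W1 ≠ ⊥ := by
    intro h
    have hWp : IsPGroup p W := hVp.to_le hWV
    -- a `p`-group acting on a nontrivial `p`-group fixes a nontrivial point
    let act : MulAction U W :=
      { smul := fun u w => ⟨u * w * (u : G)⁻¹, le_normalizer_iff_forall_conj_mem.1 hUW u u.2 w w.2⟩
        one_smul := fun w => Subtype.ext (by show (1 : G) * w * 1⁻¹ = w; simp)
        mul_smul := fun u u' w => Subtype.ext (by
          show ((u : G) * u') * w * ((u : G) * u')⁻¹ = u * (u' * w * (u' : G)⁻¹) * (u : G)⁻¹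
          group) }
    letI := act
    haveI : Nontrivial W := (Subgroup.nontrivial_iff_ne_bot W).2 hW0
    obtain ⟨m, hm, hm'⟩ := (hWp.nontrivial_iff_card).1 inferInstance
    obtain ⟨b, hb, hb'⟩ := hU.exists_fixed_point_of_prime_dvd_card_of_fixed_point W
      (by rw [hm']; exact dvd_pow_self p hm.ne') (a := 1) (fun u => Subtype.ext (by
        show (u : G) * (1 : G) * (u : G)⁻¹ = 1; simp))
    have : (b : G) ∈ W1 := ⟨b.2, Subgroup.mem_centralizer_iff.2 fun u hu => by
      have h1 : (u : G) * b * (u : G)⁻¹ = b := congrArg Subtype.val (hb ⟨u, hu⟩)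
      exact mul_inv_eq_iff_eq_mul.1 h1⟩
    rw [h, Subgroup.mem_bot] at this
    exact hb' (Subtype.ext this.symm)
  have hRW1 : R₀ ≤ Subgroup.normalizer (W1 : Set G) := le_normalizer_inf_centralizer hRW hR0U
  have hAW1 : A ≤ Subgroup.normalizer (W1 : Set G) := by
    rw [le_normalizer_iff_forall_conj_mem]
    intro a ha w hw
    refine ⟨le_normalizer_iff_forall_conj_mem.1 hAW a ha w hw.1, ?_⟩
    have h1 : a ∈ Subgroup.centralizer (U : Set G) := Subgroup.le_centralizer_iff.1 hUA ha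
    exact Subgroup.mul_mem _ (Subgroup.mul_mem _ h1 hw.2) (Subgroup.inv_mem _ h1)
  have helW1 : Cfsg.IsElementaryAbelian p W1 :=
    ⟨⟨⟨fun a b => Subtype.ext (commute_of_isElementary hV (hWV (hW1W a.2)) (hWV (hW1W b.2)))⟩⟩,
      fun x hx => hV.2 x (hWV (hW1W hx))⟩
  have hne := fixed_ne_bot hodd helW1 hW1ne hAW1 hRW1 hR0A hAp hR hRp hRA hAR
    (by rw [eq_bot_iff, ← hWC]; exact inf_le_inf_right _ hW1W)
  -- hence all fixed points of `R₀` in `W` lie in `W1`
  have heq : W1 ⊓ Subgroup.centralizer (R₀ : Set G) = V ⊓ Subgroup.centralizer (R₀ : Set G) := by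
    refine Subgroup.eq_of_le_of_card_ge (inf_le_inf_right _ (hW1W.trans hWV)) (hcard.trans ?_)
    have hpg : IsPGroup p (W1 ⊓ Subgroup.centralizer (R₀ : Set G) : Subgroup G) :=
      hVp.to_le (inf_le_left.trans (hW1W.trans hWV))
    obtain ⟨m, hm⟩ := IsPGroup.iff_card.1 hpg
    rw [hm]
    refine Nat.le_self_pow (fun h0 => hne (Subgroup.card_eq_one.1 (by rw [hm, h0, pow_zero]))) p
  have hWn : W ≤ Subgroup.normalizer (W1 : Set G) := by
    rw [le_normalizer_iff_forall_conj_mem]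
    intro w hw v hv
    rwa [commute_of_isElementary hV (hWV hw) (hWV (hW1W hv)), mul_inv_cancel_right]
  have hsec := sec hodd (V := W) (D := W1) (Q := A) (R := R₀) (hVp.to_le hWV) hW1W hWn
    (fun v hv w hw => by
      rw [commutatorElement_eq_one_iff_mul_comm.2 (commute_of_isElementary hV (hWV hv) (hWV hw))]
      exact W1.one_mem)
    (fun v hv => by rw [hV.2 v (hWV hv)]; exact W1.one_mem)
    hAW hRW hAW1 hRW1 hR0A hAp hR hRp hRA
    (fun w hw => by
      have : w ∈ V ⊓ Subgroup.centralizer (R₀ : Set G) := ⟨hWV hw.1, hw.2⟩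
      rw [← heq] at this
      exact this.1)
  have hWle : W ≤ W1 := by
    conv_lhs => rw [← hWA]
    rw [Subgroup.commutator_le]
    intro w hw a ha
    rw [← commutatorElement_inv]
    exact W1.inv_mem (hsec a (by rw [Subgroup.commutator_comm, hAR]; exact ha) w hw)
  have hUcW : U ≤ Subgroup.centralizer (W : Set G) :=
    Subgroup.le_centralizer_iff.1 (hWle.trans inf_le_right)
  have hWSW : ⁅W, S⁆ ≤ W := commutator_le_of_le_normalizer hSW
  have h1 : ⁅⁅U, W⁆, S⁆ = ⊥ := by
    rw [Subgroup.commutator_eq_bot_iff_le_centralizer.2 hUcW]; exact Subgroup.commutator_bot_left _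
  have h2 : ⁅⁅W, S⁆, U⁆ = ⊥ := by
    rw [eq_bot_iff]
    refine (Subgroup.commutator_mono hWSW le_rfl).trans (le_of_eq ?_)
    rw [Subgroup.commutator_comm]; exact Subgroup.commutator_eq_bot_iff_le_centralizer.2 hUcW
  have h3 := Subgroup.commutator_commutator_eq_bot_of_rotate h1 h2
  rw [hSU, Subgroup.commutator_eq_bot_iff_le_centralizer] at h3
  exact hW0 (eq_bot_iff.2 fun w hw => hWC.le ⟨hw, Subgroup.le_centralizer_iff.1 (hAS.trans h3) hw⟩)

end CfsgLib.OddLocal.ZComm
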