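import Cfsg.Agent.OddLocal.ZCore
import Mathlib

/-!
An elementary abelian group permuted by a Frobenius group `U R₀`, acting on a module with at most
`p` fixed points of `R₀`.
-/

set_option autoImplicit false
set_option linter.style.haveILetI false
set_option linter.unusedSectionVars false
set_option maxHeartbeats 800000

open scoped commutatorElement Pointwise

namespace CfsgLib.OddLocal.ZComm

open CfsgLib.Solv

variable {G : Type*} [Group G] [Finite G]

theorem conj_smul_normalizer_le {g : G} {X T : Subgroup G}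
    (hXT : X ≤ Subgroup.normalizer (T : Set G)) (hg : MulAut.conj g • X = X) :
    X ≤ Subgroup.normalizer ((MulAut.conj g • T : Subgroup G) : Set G) := by
  intro y hy
  refine mem_normalizer_of_conj_smul_eq ?_
  have hy' : g⁻¹ * y * g ∈ X := by rw [← hg, mem_conj_smul_iff] at hy; exact hy
  rw [smul_smul, ← map_mul, show y * g = g * (g⁻¹ * y * g) by group, map_mul, mul_smul,
    conj_smul_eq_self_of_mem_normalizer (hXT hy')]

/-- Vectors centralised by distinct hyperplanes are independent. -/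
theorem indep {S W : Subgroup G} (hW : IsMulCommutative W) (hS : IsMulCommutative S)
    (hSW : S ≤ Subgroup.normalizer (W : Set G))
    (hWS : W ⊓ Subgroup.centralizer (S : Set G) = ⊥) {ι : Type*} (T : ι → Subgroup G)
    (hTS : ∀ i, T i ≤ S) (hinj : ∀ i j, i ≠ j → ¬ T i ≤ T j)
    (htop : ∀ i, ∀ t ∈ S, t ∉ T i → T i ⊔ Subgroup.zpowers t = S) :
    ∀ (F : Finset ι) (v : ι → W), (∀ i ∈ F, (v i : G) ∈ Subgroup.centralizer (T i : Set G)) →
      (open scoped IsMulCommutative in ∏ i ∈ F, v i) = 1 → ∀ i ∈ F, v i = 1 := by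
  classical
  open scoped IsMulCommutative in
  intro F
  induction F using Finset.induction_on with
  | empty => intro v _ _ i hi; simp at hi
  | insert j F hj ih =>
    intro v hv hprod
    have hrest : ∀ i ∈ F, v i = 1 := by
      intro i hi
      obtain ⟨t, htj, hti⟩ := SetLike.not_le_iff_exists.1 (hinj j i (fun e => hj (e ▸ hi)))
      have htS : t ∈ S := hTS j htj
      let φ : W →* W :=
        { toFun := fun w => ⟨t * w * t⁻¹, le_normalizer_iff_forall_conj_mem.1 hSW t htS w w.2⟩ * w⁻¹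
          map_one' := by simp [Subtype.ext_iff]
          map_mul' := fun a b => by
            have e : (⟨t * (a * b : W) * t⁻¹, le_normalizer_iff_forall_conj_mem.1 hSW t htS _ (a * b).2⟩ : W)
              = ⟨t * a * t⁻¹, le_normalizer_iff_forall_conj_mem.1 hSW t htS a a.2⟩ *
                ⟨t * b * t⁻¹, le_normalizer_iff_forall_conj_mem.1 hSW t htS b b.2⟩ :=
              Subtype.ext (by simp [mul_assoc])
            rw [e, mul_inv, mul_mul_mul_comm] }
      have hφval : ∀ w : W, ((φ w : W) : G) = t * w * t⁻¹ * (w : G)⁻¹ := fun w => rfl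
      have hφv : ∀ k ∈ F, ((φ (v k) : W) : G) ∈ Subgroup.centralizer (T k : Set G) := by
        intro k hk
        rw [hφval]
        have h1 : (v k : G) ∈ Subgroup.centralizer (T k : Set G) := hv k (Finset.mem_insert_of_mem hk)
        have h2 : t ∈ Subgroup.centralizer (T k : Set G) := Subgroup.mem_centralizer_iff.2 fun a ha =>
          congrArg (fun w : S => (w : G)) (hS.is_comm.comm ⟨a, hTS k ha⟩ ⟨t, htS⟩)
        exact Subgroup.mul_mem _ (Subgroup.mul_mem _ (Subgroup.mul_mem _ h2 h1) (Subgroup.inv_mem _ h2))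
          (Subgroup.inv_mem _ h1)
      have hj1 : φ (v j) = 1 := by
        refine Subtype.ext ?_
        rw [hφval, ← (Subgroup.mem_centralizer_iff.1 (hv j (Finset.mem_insert_self j F)) t htj).symm]
        simp [mul_assoc]
      have hφprod : ∏ k ∈ F, φ (v k) = 1 := by
        have := congrArg φ hprod
        rwa [map_prod, map_one, Finset.prod_insert hj, hj1, one_mul] at this
      have hi1 := ih (fun k => φ (v k)) hφv hφprod i hi
      have h3 : t * (v i : G) = v i * t := by
        have := congrArg (fun w : W => (w : G)) hi1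
        simp only [hφval, OneMemClass.coe_one] at this
        exact mul_inv_eq_iff_eq_mul.1 (mul_inv_eq_one.1 this)
      refine Subtype.ext (Subgroup.mem_bot.1 (hWS.le ⟨(v i).2, ?_⟩))
      refine Subgroup.le_centralizer_iff.1 ?_ (Subgroup.mem_zpowers (v i : G))
      rw [← htop i t htS hti]
      refine sup_le ?_ (Subgroup.zpowers_le.2 ?_)
      · refine Subgroup.le_centralizer_iff.1 (Subgroup.zpowers_le.2 (hv i (Finset.mem_insert_of_mem hi)))
      · refine Subgroup.mem_centralizer_iff.2 fun a ha => ?_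
        obtain ⟨n, rfl⟩ := Subgroup.mem_zpowers_iff.1 ha
        exact (Commute.zpow_left (show Commute (v i : G) t from h3.symm) n).eq
    intro i hi
    rcases Finset.mem_insert.1 hi with rfl | hi
    · rw [Finset.prod_insert hj, Finset.prod_eq_one hrest, mul_one] at hprod; exact hprod
    · exact hrest i hi

theorem hyper_core {p s : ℕ} [Fact p.Prime] [Fact s.Prime] (hps : p ≠ s)
    (hodd : Odd (Nat.card G)) [Group.IsSolvable G]
    {V S U R₀ : Subgroup G} (hV : Cfsg.IsElementaryAbelian p V) (hS : Cfsg.IsElementaryAbelian s S)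
    (hUp : ∀ u ∈ U, u ^ p = 1) (hU1 : U ≠ ⊥)
    (hcard : Nat.card (V ⊓ Subgroup.centralizer (R₀ : Set G) : Subgroup G) ≤ p)
    (hR : (Nat.card R₀).Prime)
    (hSV : S ≤ Subgroup.normalizer (V : Set G)) (hUV : U ≤ Subgroup.normalizer (V : Set G))
    (hR0V : R₀ ≤ Subgroup.normalizer (V : Set G)) (hUS : U ≤ Subgroup.normalizer (S : Set G))
    (hR0S : R₀ ≤ Subgroup.normalizer (S : Set G)) (hR0U : R₀ ≤ Subgroup.normalizer (U : Set G))
    (hfixU : U ⊓ Subgroup.centralizer (R₀ : Set G) = ⊥)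
    (hirrU : ∀ X ≤ U, R₀ ≤ Subgroup.normalizer (X : Set G) → X = ⊥ ∨ X = U)
    (hirrS : ∀ X ≤ S, U ≤ Subgroup.normalizer (X : Set G) → R₀ ≤ Subgroup.normalizer (X : Set G) →
      X = ⊥ ∨ X = S)
    (hSU : ⁅S, U⁆ = S) : S ≤ Subgroup.centralizer (V : Set G) := by
  classical
  haveI hSc : IsMulCommutative S := hS.1
  have hpp : p.Prime := Fact.out
  have hsp : s.Prime := Fact.out
  have hSp : IsPGroup s S := fun v => ⟨1, by rw [pow_one]; exact Subtype.ext (hS.2 v v.2)⟩
  have hVp : IsPGroup p V := fun v => ⟨1, by rw [pow_one]; exact Subtype.ext (hV.2 v v.2)⟩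
  obtain ⟨nV, hnV⟩ := IsPGroup.iff_card.1 hVp
  obtain ⟨nS, hnS⟩ := IsPGroup.iff_card.1 hSp
  have hSVcop : (Nat.card S).Coprime (Nat.card V) := by
    rw [hnV, hnS]; exact ((Nat.coprime_primes hsp hpp).2 hps.symm).pow _ _
  set W := ⁅V, S⁆ with hW
  have hWV : W ≤ V := commutator_le_of_le_normalizer hSV
  haveI hWc : IsMulCommutative W :=
    ⟨⟨fun a b => Subtype.ext (commute_of_isElementary hV (hWV a.2) (hWV b.2))⟩⟩
  have hWS : W ⊓ Subgroup.centralizer (S : Set G) = ⊥ := by
    rw [eq_bot_iff, ← abelian_fixed_inf_commutator hV.1 hSV hSVcop]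
    exact fun w hw => ⟨⟨hWV hw.1, hw.2⟩, hw.1⟩
  have hSW : S ≤ Subgroup.normalizer (W : Set G) := le_normalizer_commutator hSV Subgroup.le_normalizer
  have hUW : U ≤ Subgroup.normalizer (W : Set G) := le_normalizer_commutator hUV hUS
  have hR0W : R₀ ≤ Subgroup.normalizer (W : Set G) := le_normalizer_commutator hR0V hR0S
  -- the generator of `R₀`
  set r := Nat.card R₀ with hr
  obtain ⟨x, hxR, hx1⟩ : ∃ x ∈ R₀, x ≠ 1 := R₀.bot_or_exists_ne_one.resolve_left fun e => by
    apply hR.ne_one; rw [hr, e, Subgroup.card_bot]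
  have hxr : orderOf x = r :=
    ((Nat.dvd_prime hR).1 (Subgroup.orderOf_dvd_natCard R₀ hxR)).resolve_left
      fun e => hx1 (orderOf_eq_one_iff.1 e)
  have hRgen : R₀ = Subgroup.zpowers x := (Subgroup.eq_of_le_of_card_ge (Subgroup.zpowers_le.2 hxR)
    (by rw [Nat.card_zpowers, hxr])).symm
  have hgen : ∀ i : ℕ, ¬ r ∣ i → Subgroup.zpowers (x ^ i) = R₀ := by
    intro i hi
    refine Subgroup.eq_of_le_of_card_ge (Subgroup.zpowers_le.2 (R₀.pow_mem hxR i)) ?_
    rw [Nat.card_zpowers, ← hr]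
    exact le_of_eq (((Nat.dvd_prime hR).1 (Subgroup.orderOf_dvd_natCard R₀ (R₀.pow_mem hxR i))).resolve_left
      fun e => hi (by rw [← hxr]; exact orderOf_dvd_of_pow_eq_one (orderOf_eq_one_iff.1 e))).symm
  have hUR : ∀ (i : ℕ), ∀ w ∈ U, ¬ r ∣ i → x ^ i * w = w * x ^ i → w = 1 := by
    intro i w hw hi he
    refine Subgroup.mem_bot.1 (hfixU.le ⟨hw, ?_⟩)
    rw [← hgen i hi, Subgroup.zpowers_eq_closure, Subgroup.centralizer_closure]
    exact Subgroup.mem_centralizer_singleton_iff.2 he.symm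
  -- hyperplanes with fixed vectors
  let Lam : Subgroup G → Prop := fun T => T ≤ S ∧ T ≠ S ∧
    (∀ t ∈ S, t ∉ T → T ⊔ Subgroup.zpowers t = S) ∧ W ⊓ Subgroup.centralizer (T : Set G) ≠ ⊥
  have hLamConj : ∀ g ∈ Subgroup.normalizer (S : Set G), g ∈ Subgroup.normalizer (W : Set G) →
      ∀ T, Lam T → Lam (MulAut.conj g • T) := by
    intro g hgS hgW T hT
    have hS' := conj_smul_eq_self_of_mem_normalizer hgS
    refine ⟨?_, ?_, ?_, ?_⟩
    · rw [← hS']; exact Subgroup.pointwise_smul_le_pointwise_smul_iff.2 hT.1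
    · intro e; apply hT.2.1
      rw [← hS'] at e
      exact MulAction.injective _ e
    · intro t htS ht
      have h1 := hT.2.2.1 (g⁻¹ * t * g) ((Subgroup.mem_normalizer_iff''.1 hgS t).1 htS)
        (fun h => ht (mem_conj_smul_iff.2 h))
      have h2 := congrArg (fun H : Subgroup G => MulAut.conj g • H) h1
      simp only [Subgroup.smul_sup, hS'] at h2
      rw [conj_smul_eq_map g (Subgroup.zpowers _), MonoidHom.map_zpowers] at h2
      rw [show (MulAut.conj g).toMonoidHom (g⁻¹ * t * g) = t by simp; group] at h2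
      exact h2
    · intro e
      obtain ⟨v, hv, hv1⟩ := (W ⊓ Subgroup.centralizer (T : Set G)).bot_or_exists_ne_one.resolve_left
        hT.2.2.2
      have hm : g * v * g⁻¹ ∈ W ⊓ Subgroup.centralizer ((MulAut.conj g • T : Subgroup G) : Set G) := by
        refine ⟨(Subgroup.mem_normalizer_iff.1 hgW v).1 hv.1, Subgroup.mem_centralizer_iff.2 ?_⟩
        intro a ha
        have h3 := Subgroup.mem_centralizer_iff.1 hv.2 _ (mem_conj_smul_iff.1 ha)
        calc a * (g * v * g⁻¹) = g * ((g⁻¹ * a * g) * v) * g⁻¹ := by group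
          _ = g * (v * (g⁻¹ * a * g)) * g⁻¹ := by rw [h3]
          _ = g * v * g⁻¹ * a := by group
      rw [e, Subgroup.mem_bot] at hm
      exact hv1 (conj_eq_one_iff.1 hm)
  have hLamR : ∀ (i : ℕ) T, Lam T → Lam (MulAut.conj (x ^ i) • T) := fun i T hT =>
    hLamConj _ (hR0S (R₀.pow_mem hxR i)) (hR0W (R₀.pow_mem hxR i)) T hT
  have hLamU : ∀ u ∈ U, ∀ T, Lam T → Lam (MulAut.conj u • T) := fun u hu T hT =>
    hLamConj u (hUS hu) (hUW hu) T hT
  have hLamNle : ∀ T T', Lam T → Lam T' → T ≠ T' → ¬ T ≤ T' := by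
    intro T T' hT hT' hne hle
    obtain ⟨t, ht', ht⟩ := SetLike.not_le_iff_exists.1 (fun h => hne (le_antisymm hle h))
    exact hT'.2.1 (le_antisymm hT'.1 (hT.2.2.1 t (hT'.1 ht') ht ▸ sup_le hle (Subgroup.zpowers_le.2 ht')))
  let Free : Subgroup G → Prop := fun T => x ∉ Subgroup.normalizer (T : Set G)
  have hfix_of : ∀ (i : ℕ) (T : Subgroup G), ¬ r ∣ i → MulAut.conj (x ^ i) • T = T →
      x ∈ Subgroup.normalizer (T : Set G) := by
    intro i T hi h
    have h1 := mem_normalizer_of_conj_smul_eq h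
    have h2 : R₀ ≤ Subgroup.normalizer (T : Set G) := hgen i hi ▸ Subgroup.zpowers_le.2 h1
    exact h2 hxR
  have horbit_inj : ∀ (T : Subgroup G), Free T → Function.Injective
      (fun i : Fin r => MulAut.conj (x ^ (i : ℕ)) • T) := by
    intro T hT
    have key : ∀ i j : Fin r, (i : ℕ) ≤ (j : ℕ) →
        MulAut.conj (x ^ (i : ℕ)) • T = MulAut.conj (x ^ (j : ℕ)) • T → i = j := by
      intro i j hij e
      by_contra hne
      refine hT (hfix_of ((j : ℕ) - i) T ?_ ?_)
      · intro hd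
        have hj := j.2
        have : (j : ℕ) - i = 0 := Nat.eq_zero_of_dvd_of_lt hd (by omega)
        exact hne (Fin.ext (by omega))
      · refine MulAction.injective (MulAut.conj (x ^ (i : ℕ))) ?_
        show MulAut.conj (x ^ (i : ℕ)) • (MulAut.conj (x ^ ((j : ℕ) - i)) • T) = _
        rw [smul_smul, ← map_mul, ← pow_add, Nat.add_sub_cancel' hij]
        exact e.symm
    intro i j e
    rcases le_total (i : ℕ) (j : ℕ) with h | h
    · exact key i j h e
    · exact (key j i h e.symm).symm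
  have hxW : x ∈ Subgroup.normalizer (W : Set G) := hR0W hxR
  open scoped IsMulCommutative in
  -- the norm
  let cx : ℕ → W →* W := fun i =>
    { toFun := fun w => ⟨x ^ i * w * (x ^ i)⁻¹,
        (Subgroup.mem_normalizer_iff.1 (Subgroup.pow_mem _ hxW i) w).1 w.2⟩
      map_one' := Subtype.ext (by simp)
      map_mul' := fun a b => Subtype.ext (by simp [mul_assoc]) }
  let φ : W →* W := ∏ i ∈ Finset.range r, cx i
  have hφ : ∀ w : W, φ w = ∏ i : Fin r, cx i w := fun w => by
    rw [Fin.prod_univ_eq_prod_range (fun i => cx i w) r]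
    exact MonoidHom.finsetProd_apply _ _ _
  have hφC : ∀ w : W, ((φ w : W) : G) ∈ V ⊓ Subgroup.centralizer (R₀ : Set G) := by
    intro w
    refine ⟨hWV (φ w).2, ?_⟩
    show ((φ w : W) : G) ∈ Subgroup.centralizer (R₀ : Set G)
    rw [hRgen, Subgroup.zpowers_eq_closure, Subgroup.centralizer_closure,
      Subgroup.mem_centralizer_singleton_iff]
    have h1 : cx 1 (φ w) = φ w := by
      have hc : ∀ i, cx 1 (cx i w) = cx (i + 1) w := fun i => Subtype.ext (by
        show x ^ 1 * (x ^ i * w * (x ^ i)⁻¹) * (x ^ 1)⁻¹ = x ^ (i + 1) * w * (x ^ (i + 1))⁻¹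
        rw [pow_succ' x i, pow_one]; group)
      have h0 : φ w = ∏ i ∈ Finset.range r, cx i w := MonoidHom.finsetProd_apply _ _ _
      rw [h0, map_prod, Finset.prod_congr rfl fun i _ => hc i]
      have hlast : cx r w = cx 0 w := Subtype.ext (by
        show x ^ r * w * (x ^ r)⁻¹ = x ^ 0 * w * (x ^ 0)⁻¹
        rw [← hxr, pow_orderOf_eq_one, pow_zero])
      have e1 := Finset.prod_range_succ' (fun i => cx i w) r
      rw [Finset.prod_range_succ (fun i => cx i w) r, hlast] at e1
      exact (mul_right_cancel e1).symm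
    have h2 := congrArg (fun t : W => (t : G)) h1
    have h3 : x ^ 1 * ((φ w : W) : G) * (x ^ 1)⁻¹ = ((φ w : W) : G) := h2
    rw [pow_one] at h3
    exact (mul_inv_eq_iff_eq_mul.1 h3).symm
  have hcxC : ∀ (i : ℕ) (T : Subgroup G) (v : W), (v : G) ∈ Subgroup.centralizer (T : Set G) →
      ((cx i v : W) : G) ∈ Subgroup.centralizer ((MulAut.conj (x ^ i) • T : Subgroup G) : Set G) := by
    intro i T v hv
    refine Subgroup.mem_centralizer_iff.2 fun a ha => ?_
    have h3 := Subgroup.mem_centralizer_iff.1 hv _ (mem_conj_smul_iff.1 ha)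
    show a * (x ^ i * v * (x ^ i)⁻¹) = x ^ i * v * (x ^ i)⁻¹ * a
    calc a * (x ^ i * v * (x ^ i)⁻¹)
        = x ^ i * (((x ^ i)⁻¹ * a * x ^ i) * v) * (x ^ i)⁻¹ := by group
      _ = x ^ i * (v * ((x ^ i)⁻¹ * a * x ^ i)) * (x ^ i)⁻¹ := by rw [h3]
      _ = x ^ i * v * (x ^ i)⁻¹ * a := by group
  have hcx0 : ∀ w : W, cx 0 w = w := fun w => Subtype.ext (by
    show x ^ 0 * w * (x ^ 0)⁻¹ = (w : G); simp)
  have hker : ∀ T, Lam T → Free T → ∀ v : W, (v : G) ∈ Subgroup.centralizer (T : Set G) →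
      φ v = 1 → v = 1 := by
    intro T hT hF v hv he
    rw [hφ] at he
    have h1 := indep hWc hSc hSW hWS (fun i : Fin r => MulAut.conj (x ^ (i : ℕ)) • T)
      (fun i => (hLamR i T hT).1)
      (fun i j hij => hLamNle _ _ (hLamR i T hT) (hLamR j T hT) fun e => hij (horbit_inj T hF e))
      (fun i => (hLamR i T hT).2.2.1) Finset.univ (fun i => cx i v) (fun i _ => hcxC i T v hv) he
      ⟨0, hR.pos⟩ (Finset.mem_univ _)
    exact (hcx0 v).symm.trans h1
  have hVT : ∀ T, Lam T → Free T →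
      Nat.card (W ⊓ Subgroup.centralizer (T : Set G) : Subgroup G) ≤ p := by
    intro T hT hF
    refine le_trans ?_ hcard
    refine Nat.card_le_card_of_injective
      (fun v => (⟨φ ⟨v.1, v.2.1⟩, hφC _⟩ : ↥(V ⊓ Subgroup.centralizer (R₀ : Set G)))) ?_
    intro a b e
    have e' : φ ⟨a.1, a.2.1⟩ = φ ⟨b.1, b.2.1⟩ :=
      Subtype.ext (congrArg (fun t : ↥(V ⊓ Subgroup.centralizer (R₀ : Set G)) => (t : G)) e)
    have h1 : φ (⟨a.1, a.2.1⟩⁻¹ * ⟨b.1, b.2.1⟩) = 1 := by rw [map_mul, map_inv, e', inv_mul_cancel]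
    have h2 := hker T hT hF _
      (Subgroup.mul_mem _ (Subgroup.inv_mem _ a.2.2) b.2.2) h1
    exact Subtype.ext (congrArg (fun t : W => (t : G)) (inv_mul_eq_one.1 h2))
  have hone : ∀ T T', Lam T → Free T → Lam T' → Free T' →
      ∃ i : Fin r, T' = MulAut.conj (x ^ (i : ℕ)) • T := by
    intro T T' hT hF hT' hF'
    by_contra hno
    push Not at hno
    obtain ⟨v, hv, hv1⟩ := (W ⊓ Subgroup.centralizer (T : Set G)).bot_or_exists_ne_one.resolve_left
      hT.2.2.2
    obtain ⟨w, hw, hw1⟩ := (W ⊓ Subgroup.centralizer (T' : Set G)).bot_or_exists_ne_one.resolve_left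
      hT'.2.2.2
    set v' : W := ⟨v, hv.1⟩
    set w' : W := ⟨w, hw.1⟩
    have hφv : φ v' ≠ 1 := fun e => hv1 (congrArg Subtype.val (hker T hT hF v' hv.2 e))
    obtain ⟨k, hk⟩ : ∃ k : ℤ, (φ v') ^ k = φ w' := by
      have hz : Subgroup.zpowers ((φ v' : W) : G) = V ⊓ Subgroup.centralizer (R₀ : Set G) := by
        refine Subgroup.eq_of_le_of_card_ge (Subgroup.zpowers_le.2 (hφC v')) (hcard.trans ?_)
        rw [Nat.card_zpowers, orderOf_eq_prime (hV.2 _ (hWV (φ v').2))
          (fun e => hφv (Subtype.ext e))]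
      obtain ⟨k, hk⟩ := Subgroup.mem_zpowers_iff.1 (hz.ge (hφC w'))
      exact ⟨k, Subtype.ext (by rw [Subgroup.coe_zpow]; exact hk)⟩
    let Tf : Fin r ⊕ Fin r → Subgroup G :=
      Sum.elim (fun i => MulAut.conj (x ^ (i : ℕ)) • T) (fun i => MulAut.conj (x ^ (i : ℕ)) • T')
    let vf : Fin r ⊕ Fin r → W := Sum.elim (fun i => cx i (v' ^ k)) (fun i => cx i w'⁻¹)
    have hLf : ∀ i, Lam (Tf i) := by
      rintro (i | i)
      exacts [hLamR i T hT, hLamR i T' hT']
    have hcross : ∀ i j : Fin r, MulAut.conj (x ^ (i : ℕ)) • T ≠ MulAut.conj (x ^ (j : ℕ)) • T' := by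
      intro i j e
      have hlt : ((i : ℕ) + (r - j)) % r < r := Nat.mod_lt _ hR.pos
      refine hno ⟨_, hlt⟩ ?_
      refine MulAction.injective (MulAut.conj (x ^ (j : ℕ))) ?_
      show MulAut.conj (x ^ (j : ℕ)) • T' = MulAut.conj (x ^ (j : ℕ)) • (_ • T)
      rw [← e, smul_smul, ← map_mul, ← pow_add]
      congr 2
      rw [pow_eq_pow_iff_modEq, hxr]
      have hj := j.2
      calc (i : ℕ) ≡ (i : ℕ) + r [MOD r] := (Nat.add_modEq_right).symm
        _ = (j : ℕ) + ((i : ℕ) + (r - j)) := by omega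
        _ ≡ (j : ℕ) + ((i : ℕ) + (r - j)) % r [MOD r] := (Nat.mod_modEq _ _).symm.add_left _
    have hne : ∀ i j, i ≠ j → ¬ Tf i ≤ Tf j := by
      intro i j hij
      refine hLamNle _ _ (hLf i) (hLf j) ?_
      rcases i with i | i <;> rcases j with j | j
      · exact fun e => hij (congrArg _ (horbit_inj T hF e))
      · exact hcross i j
      · exact fun e => hcross j i e.symm
      · exact fun e => hij (congrArg _ (horbit_inj T' hF' e))
    have hvf : ∀ i, (vf i : G) ∈ Subgroup.centralizer (Tf i : Set G) := by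
      rintro (i | i)
      · exact hcxC i T (v' ^ k) (by rw [Subgroup.coe_zpow]; exact Subgroup.zpow_mem _ hv.2 k)
      · exact hcxC i T' w'⁻¹ (by rw [Subgroup.coe_inv]; exact Subgroup.inv_mem _ hw.2)
    have hprod : ∏ i, vf i = 1 := by
      rw [Fintype.prod_sum_type]
      show (∏ i : Fin r, cx i (v' ^ k)) * ∏ i : Fin r, cx i w'⁻¹ = 1
      rw [← hφ, ← hφ, map_zpow, map_inv, hk, mul_inv_cancel]
    have h1 := indep hWc hSc hSW hWS Tf (fun i => (hLf i).1) hne (fun i => (hLf i).2.2.1)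
      Finset.univ vf (fun i _ => hvf i) hprod (Sum.inr ⟨0, hR.pos⟩) (Finset.mem_univ _)
    have h2 : w'⁻¹ = 1 := (hcx0 _).symm.trans h1
    exact hw1 (congrArg Subtype.val (inv_eq_one.1 h2))
  -- no hyperplane is fixed by `R₀`
  have hfree : ∀ T, Lam T → Free T := by
    intro T hT hxT
    have hRT : R₀ ≤ Subgroup.normalizer (T : Set G) := hRgen ▸ Subgroup.zpowers_le.2 hxT
    have hUT : U ⊓ Subgroup.normalizer (T : Set G) = ⊥ := by
      refine (hirrU _ inf_le_left
        (le_normalizer_inf hR0U (hRT.trans Subgroup.le_normalizer))).resolve_right ?_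
      intro e
      have hUnT : U ≤ Subgroup.normalizer (T : Set G) := e ▸ inf_le_right
      have hT0 : T = ⊥ := (hirrS T hT.1 hUnT hRT).resolve_right hT.2.1
      -- then `S` is cyclic
      obtain ⟨t, htS, ht⟩ := SetLike.not_le_iff_exists.1 (fun h => hT.2.1 (le_antisymm hT.1 h))
      have hSz := hT.2.2.1 t htS ht
      rw [hT0, bot_sup_eq] at hSz
      haveI : IsCyclic S := hSz ▸ Subgroup.isCyclic_zpowers t
      have hUcS : U ≤ Subgroup.centralizer (S : Set G) := by
        have h1 := commutator_le_centralizer_of_cyclic (A := U) (B := R₀) (C := S) hUS hR0S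
        rwa [commutator_eq_self hR0U ?_ (Or.inl inferInstance) hfixU] at h1
        rw [← hr, hR.coprime_iff_not_dvd]
        intro hd
        obtain ⟨u, hu⟩ := exists_prime_orderOf_dvd_card' (hp := ⟨hR⟩) r hd
        have h2 : r ∣ p := hu ▸ orderOf_dvd_of_pow_eq_one (Subtype.ext (hUp u u.2))
        have hrp : r = p := (Nat.prime_dvd_prime_iff_eq hR hpp).1 h2
        -- `R₀` and `U` would be `p`-groups
        have hUpg : IsPGroup p U := fun u => ⟨1, by rw [pow_one]; exact Subtype.ext (hUp u u.2)⟩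
        have hRpg : IsPGroup p R₀ := IsPGroup.of_card (n := 1) (by rw [pow_one, ← hr, hrp])
        letI : MulAction R₀ U :=
          { smul := fun a b => ⟨a * b * (a : G)⁻¹, le_normalizer_iff_forall_conj_mem.1 hR0U a a.2 b b.2⟩
            one_smul := fun b => Subtype.ext (by show (1 : G) * b * 1⁻¹ = b; simp)
            mul_smul := fun a a' b => Subtype.ext (by
              show ((a : G) * a') * b * ((a : G) * a')⁻¹ = a * (a' * b * (a' : G)⁻¹) * (a : G)⁻¹
              group) }
        obtain ⟨b, hb, hb'⟩ := hRpg.exists_fixed_point_of_prime_dvd_card_of_fixed_point U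
          (by rw [← hrp]; exact hd) (a := 1) (fun a => Subtype.ext (by
            show (a : G) * (1 : G) * (a : G)⁻¹ = 1; simp))
        refine hb' (Subtype.ext (Subgroup.mem_bot.1 (hfixU.le ⟨b.2, ?_⟩)).symm)
        exact Subgroup.mem_centralizer_iff.2 fun a ha =>
          mul_inv_eq_iff_eq_mul.1 (congrArg Subtype.val (hb ⟨a, ha⟩))
      rw [Subgroup.commutator_eq_bot_iff_le_centralizer.2 (Subgroup.le_centralizer_iff.1 hUcS)] at hSU
      exact hT.2.1 (le_antisymm hT.1 (hSU ▸ bot_le))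
    -- the translates by `U` are free
    have huT : ∀ u : U, u ≠ 1 → Free (MulAut.conj (u : G) • T) := by
      intro u hu hxu
      have h1 : MulAut.conj ((u : G)⁻¹ * x * u * x⁻¹) • T = T := by
        rw [map_mul, mul_smul, conj_smul_eq_self_of_mem_normalizer (Subgroup.inv_mem _ hxT), map_mul,
          map_mul, mul_smul, mul_smul, conj_smul_eq_self_of_mem_normalizer hxu, ← mul_smul, ← map_mul,
          inv_mul_cancel, map_one, one_smul]
      have h2 : (u : G)⁻¹ * x * u * x⁻¹ ∈ U := by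
        have := U.mul_mem (U.inv_mem u.2) (le_normalizer_iff_forall_conj_mem.1 hR0U x hxR u u.2)
        convert this using 1; group
      have h3 : (u : G)⁻¹ * x * u * x⁻¹ = 1 :=
        Subgroup.mem_bot.1 (hUT.le ⟨h2, mem_normalizer_of_conj_smul_eq h1⟩)
      refine hu (Subtype.ext (hUR 1 u u.2 (fun hd => hR.ne_one (Nat.eq_one_of_dvd_one hd)) ?_))
      rw [pow_one]
      have h4 := congrArg (fun z => (u : G) * z * x) h3
      simpa [mul_assoc] using h4
    obtain ⟨u₀, hu₀⟩ : ∃ u₀ : U, u₀ ≠ 1 := by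
      haveI := (Subgroup.nontrivial_iff_ne_bot U).2 hU1
      exact exists_ne 1
    set T1 := MulAut.conj (u₀ : G) • T with hT1
    have hchoice : ∀ u : {u : U // u ≠ 1},
        ∃ i : Fin r, MulAut.conj ((u.1 : G)) • T = MulAut.conj (x ^ (i : ℕ)) • T1 := fun u =>
      hone T1 _ (hLamU u₀ u₀.2 T hT) (huT u₀ hu₀) (hLamU u.1 u.1.2 T hT) (huT u.1 u.2)
    choose idx hidx using hchoice
    have hinj : Function.Injective idx := by
      intro a b e
      have h1 : MulAut.conj ((a.1 : G)) • T = MulAut.conj ((b.1 : G)) • T := by rw [hidx, hidx, e]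
      have h2 : MulAut.conj ((b.1 : G)⁻¹ * a.1) • T = T := by
        rw [map_mul, mul_smul, h1, ← mul_smul, ← map_mul, inv_mul_cancel, map_one, one_smul]
      have h3 := hUT.le ⟨U.mul_mem (U.inv_mem b.1.2) a.1.2, mem_normalizer_of_conj_smul_eq h2⟩
      rw [Subgroup.mem_bot, inv_mul_eq_one] at h3
      exact Subtype.ext (Subtype.ext h3.symm)
    have hsurj : Function.Surjective idx := by
      intro i
      have hmem : x ^ (i : ℕ) * u₀ * (x ^ (i : ℕ))⁻¹ ∈ U :=
        le_normalizer_iff_forall_conj_mem.1 hR0U _ (R₀.pow_mem hxR _) u₀ u₀.2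
      refine ⟨⟨⟨_, hmem⟩, fun e => hu₀ (Subtype.ext (conj_eq_one_iff.1 (congrArg Subtype.val e)))⟩, ?_⟩
      refine horbit_inj T1 (huT u₀ hu₀) ?_
      show MulAut.conj (x ^ _) • T1 = MulAut.conj (x ^ (i : ℕ)) • T1
      rw [← hidx]
      show MulAut.conj (x ^ (i : ℕ) * u₀ * (x ^ (i : ℕ))⁻¹) • T = _
      rw [map_mul, mul_smul,
        conj_smul_eq_self_of_mem_normalizer (Subgroup.inv_mem _ (Subgroup.pow_mem _ hxT _)),
        map_mul, mul_smul, hT1]
    have hcU : Nat.card U - 1 = r := by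
      have h1 := Nat.card_eq_of_bijective idx ⟨hinj, hsurj⟩
      rw [Nat.card_fin] at h1
      rw [← h1]
      haveI := Fintype.ofFinite U
      rw [Nat.card_eq_fintype_card, Nat.card_eq_fintype_card, Fintype.card_subtype_compl,
        Fintype.card_subtype_eq]
    have hUodd : Odd (Nat.card U) := hodd.of_dvd_nat (Subgroup.card_subgroup_dvd_card U)
    have hRodd : Odd r := hodd.of_dvd_nat (Subgroup.card_subgroup_dvd_card R₀)
    obtain ⟨a, ha⟩ := hUodd
    obtain ⟨b, hb⟩ := hRodd
    omega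
  -- `U` normalises every hyperplane
  have hUn : ∀ T, Lam T → U ≤ Subgroup.normalizer (T : Set G) := by
    intro T hT u hu
    refine mem_normalizer_of_conj_smul_eq ?_
    obtain ⟨i, hi⟩ := hone T _ hT (hfree T hT) (hLamU u hu T hT) (hfree _ (hLamU u hu T hT))
    by_cases hi0 : (i : ℕ) = 0
    · rw [hi, hi0]; simp
    exfalso
    set y := (x ^ (i : ℕ))⁻¹ with hy
    have hyU : ∀ w ∈ U, y * w * y⁻¹ ∈ U :=
      le_normalizer_iff_forall_conj_mem.1 hR0U y (R₀.inv_mem (R₀.pow_mem hxR _))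
    let δ : U → U := fun w => ⟨(w : G) * (y * (w : G)⁻¹ * y⁻¹),
      U.mul_mem w.2 (hyU _ (U.inv_mem w.2))⟩
    have hδ : Function.Injective δ := by
      intro a b e
      have h1 : (a : G) * (y * (a : G)⁻¹ * y⁻¹) = b * (y * (b : G)⁻¹ * y⁻¹) := congrArg Subtype.val e
      have h2 : (b : G)⁻¹ * a = y * ((b : G)⁻¹ * a) * y⁻¹ := by
        calc (b : G)⁻¹ * a = (b : G)⁻¹ * ((a : G) * (y * (a : G)⁻¹ * y⁻¹)) * (y * a * y⁻¹) := by group
          _ = y * ((b : G)⁻¹ * a) * y⁻¹ := by rw [h1]; group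
      have h3 : x ^ (i : ℕ) * ((b : G)⁻¹ * a) = ((b : G)⁻¹ * a) * x ^ (i : ℕ) := by
        have h4 := congrArg (fun z => x ^ (i : ℕ) * z) h2
        rw [hy] at h4
        simpa [mul_assoc] using h4
      exact Subtype.ext (inv_mul_eq_one.1 (hUR _ _ (U.mul_mem (U.inv_mem b.2) a.2)
        (fun hd => hi0 (Nat.eq_zero_of_dvd_of_lt hd i.2)) h3)).symm
    obtain ⟨w, hw⟩ := Finite.surjective_of_injective hδ ⟨y * u * y⁻¹, hyU u hu⟩
    have hw' : (w : G) * (y * (w : G)⁻¹ * y⁻¹) = y * u * y⁻¹ := congrArg Subtype.val hw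
    have hyu : (w : G) * y * (w : G)⁻¹ = y * u := by
      have h5 := congrArg (fun z => z * y) hw'
      simpa [mul_assoc] using h5
    have hfixT : MulAut.conj (y * u) • T = T := by
      rw [map_mul, mul_smul, hi, ← mul_smul, ← map_mul, hy, inv_mul_cancel, map_one, one_smul]
    rw [← hyu] at hfixT
    have hLw := hLamU _ (U.inv_mem w.2) T hT
    refine hfree _ hLw (hfix_of (i : ℕ) _ (fun hd => hi0 (Nat.eq_zero_of_dvd_of_lt hd i.2)) ?_)
    refine conj_smul_eq_self_of_mem_normalizer ?_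
    refine (Subgroup.inv_mem_iff _).1 (mem_normalizer_of_conj_smul_eq ?_)
    rw [← hy, ← mul_smul, ← map_mul, show y * (w : G)⁻¹ = (w : G)⁻¹ * ((w : G) * y * (w : G)⁻¹) by group,
      map_mul, mul_smul, hfixT]
  -- hence `U` centralises `W`
  have hSWcop : (Nat.card S).Coprime (Nat.card W) :=
    hSVcop.coprime_dvd_right (Subgroup.card_dvd_of_le hWV)
  have hWU : W ≤ Subgroup.centralizer (U : Set G) := by
    refine le_of_cocyclic_centralizers hSW hSWcop ?_
    rintro B hBS ⟨a, haS, hBa⟩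
    by_cases hB : B = S
    · rw [hB, hWS]; exact bot_le
    by_cases hC : W ⊓ Subgroup.centralizer (B : Set G) = ⊥
    · rw [hC]; exact bot_le
    have haB : a ∉ B := fun h => hB (by rw [← hBa, sup_eq_left.2 (Subgroup.zpowers_le.2 h)])
    have hLB : Lam B := by
      refine ⟨hBS, hB, fun t htS ht => le_antisymm (sup_le hBS (Subgroup.zpowers_le.2 htS)) ?_, hC⟩
      have hnB : Subgroup.zpowers a ≤ Subgroup.normalizer (B : Set G) := by
        rw [Subgroup.zpowers_le, Subgroup.mem_normalizer_iff]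
        intro b
        constructor
        · intro hb
          rwa [commute_of_isElementary hS haS (hBS hb), mul_inv_cancel_right]
        · intro hb
          have hc := commute_of_isElementary hS (S.inv_mem haS) (hBS hb)
          have : b = (a⁻¹ * (a * b * a⁻¹)) * a := by group
          rw [this, hc]
          simpa [mul_assoc] using hb
      rw [← hBa]
      refine sup_le le_sup_left (Subgroup.zpowers_le.2 ?_)
      have htB : t ∈ Subgroup.zpowers a ⊔ B := by rw [sup_comm, hBa]; exact htS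
      obtain ⟨b, hb, z, hz, rfl⟩ := CfsgLib.Solv.exists_mul_of_mem_sup hnB htB
      obtain ⟨n, rfl⟩ := Subgroup.mem_zpowers_iff.1 hz
      have hn : ¬ (s : ℤ) ∣ n := fun ⟨c, hc⟩ => ht (by
        rw [hc, zpow_mul, zpow_natCast, hS.2 a haS, one_zpow, mul_one]; exact hb)
      obtain ⟨c, d, hcd⟩ : IsCoprime n (s : ℤ) :=
        ((Nat.prime_iff_prime_int.1 hsp).coprime_iff_not_dvd.2 hn).symm
      have hmem : a ^ n ∈ B ⊔ Subgroup.zpowers (b * a ^ n) := by
        have h1 := Subgroup.mul_mem _ (Subgroup.mem_sup_left (B.inv_mem hb) :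
            b⁻¹ ∈ B ⊔ Subgroup.zpowers (b * a ^ n))
          (Subgroup.mem_sup_right (Subgroup.mem_zpowers (b * a ^ n)))
        rwa [inv_mul_cancel_left] at h1
      have ha' : a = (a ^ n) ^ c := by
        conv_lhs => rw [← zpow_one a, ← hcd, zpow_add, zpow_mul' a d, zpow_natCast, hS.2 a haS,
          one_zpow, mul_one, zpow_mul' a c]
      have h7 := Subgroup.zpow_mem _ hmem c
      rwa [← ha'] at h7
    intro v hv
    refine Subgroup.mem_centralizer_iff.2 fun u hu => ?_
    refine ((Subgroup.mem_centralizer_iff.1 (pElement_centralizes (hVT B hLB (hfree B hLB))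
      (fun c hc => hV.2 c (hWV hc.1)) (hUp u hu) ?_)) v hv).symm
    exact le_normalizer_inf_centralizer hUW (hUn B hLB) hu
  have h1 : ⁅⁅U, W⁆, S⁆ = ⊥ := by
    rw [Subgroup.commutator_eq_bot_iff_le_centralizer.2 (Subgroup.le_centralizer_iff.1 hWU)]
    exact Subgroup.commutator_bot_left _
  have h2 : ⁅⁅W, S⁆, U⁆ = ⊥ := by
    rw [eq_bot_iff]
    refine (Subgroup.commutator_mono (commutator_le_of_le_normalizer hSW) le_rfl).trans (le_of_eq ?_)
    exact Subgroup.commutator_eq_bot_iff_le_centralizer.2 hWU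
  have h3 := Subgroup.commutator_commutator_eq_bot_of_rotate h1 h2
  rw [hSU, Subgroup.commutator_eq_bot_iff_le_centralizer] at h3
  have hW0 : W = ⊥ := eq_bot_iff.2 fun w hw => hWS.le ⟨hw, Subgroup.le_centralizer_iff.1 h3 hw⟩
  intro a ha
  refine Subgroup.mem_centralizer_iff.2 fun v hv => ?_
  exact commutatorElement_eq_one_iff_mul_comm.1 (Subgroup.mem_bot.1
    (hW0 ▸ Subgroup.commutator_mem_commutator hv ha))

end CfsgLib.OddLocal.ZComm
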