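import Cfsg.Agent.OddLocal.ZComplement
import Cfsg.Agent.Solv.PLengthOne
import Mathlib

/-!
`[K, R]` has `p`-length one when the fixed points of a subgroup of prime order of `R` form a
`Z`-group.
-/

set_option autoImplicit false
set_option linter.style.haveILetI false
set_option linter.unusedSectionVars false
set_option maxHeartbeats 800000

open scoped commutatorElement Pointwise

namespace CfsgLib.OddLocal.ZComm

open CfsgLib.Solv

universe u

/-- `K` has a normal series `N ≤ B ≤ K` with factors a `p'`-group, a `p`-group and a `p'`-group. -/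
def Good {G : Type*} [Group G] (p : ℕ) (K : Subgroup G) : Prop :=
  ∃ N B : Subgroup G, N.Normal ∧ B.Normal ∧ N ≤ B ∧ B ≤ K ∧ (Nat.card N).Coprime p ∧
    (∃ m, N.relIndex B = p ^ m) ∧ ¬ p ∣ B.relIndex K

theorem normal_of_normalizer_eq_top {G : Type*} [Group G] {X : Subgroup G}
    (h : Subgroup.normalizer (X : Set G) = ⊤) : X.Normal :=
  Subgroup.normalizer_eq_top_iff.1 h

theorem relIndex_comap_bot {G : Type*} [Group G] (D : Subgroup G) [D.Normal] (Y : Subgroup (G ⧸ D)) :
    D.relIndex (Y.comap (QuotientGroup.mk' D)) = Nat.card Y := by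
  have h : (⊥ : Subgroup (G ⧸ D)).comap (QuotientGroup.mk' D) = D := by
    rw [MonoidHom.comap_bot, QuotientGroup.ker_mk']
  calc D.relIndex (Y.comap (QuotientGroup.mk' D))
      = ((⊥ : Subgroup (G ⧸ D)).comap (QuotientGroup.mk' D)).relIndex (Y.comap (QuotientGroup.mk' D)) :=
        congrArg (fun X : Subgroup G => X.relIndex (Y.comap (QuotientGroup.mk' D))) h.symm
    _ = Nat.card Y := by
        rw [Subgroup.relIndex_comap, Subgroup.map_comap_eq_self_of_surjective (QuotientGroup.mk'_surjective D),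
          Subgroup.relIndex_bot_left]

theorem relIndex_dvd_right {G : Type*} [Group G] (D : Subgroup G) [D.Normal] {X N : Subgroup G}
    (h : X ≤ N) : D.relIndex X ∣ D.relIndex N := by
  have e : ∀ A : Subgroup G, D.relIndex A = Nat.card (A.map (QuotientGroup.mk' D)) := fun A => by
    conv => lhs; arg 1; rw [← QuotientGroup.ker_mk' D]
    rw [Subgroup.relIndex_ker]
  rw [e, e]
  exact Subgroup.card_dvd_of_le (Subgroup.map_mono h)

theorem good (p : ℕ) [Fact p.Prime] : ∀ (n : ℕ) (G : Type u) [Group G] [Finite G]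
    [Group.IsSolvable G], Nat.card G = n → Odd (Nat.card G) → ∀ (K R R₀ : Subgroup G) [K.Normal],
      (Nat.card R).Coprime (Nat.card K) → R₀ ≤ R → (Nat.card R₀).Prime → ⁅K, R⁆ = K →
      IsZGroup ↥(K ⊓ Subgroup.centralizer (R₀ : Set G)) → Good p K := by
  classical
  intro n
  induction n using Nat.strong_induction_on with
  | _ n ih =>
  intro G _ _ _ hn hodd K R R₀ hKn hcop hR0R hR0 hKR hZ
  have hpp : p.Prime := Fact.out
  by_cases hK1 : K = ⊥
  · exact ⟨⊥, ⊥, inferInstance, inferInstance, le_rfl, bot_le, by simp, ⟨0, by simp⟩, by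
      rw [hK1]; simpa using hpp.ne_one⟩
  have hRK : R ≤ Subgroup.normalizer (K : Set G) := Subgroup.le_normalizer_of_normal
  have hsol : ∀ X : Subgroup G, Group.IsSolvable X := fun X => inferInstance
  -- induction through quotients
  have quot : ∀ D : Subgroup G, D.Normal → D ≤ K → D ≠ ⊥ →
      ∃ N B : Subgroup G, N.Normal ∧ B.Normal ∧ D ≤ N ∧ N ≤ B ∧ B ≤ K ∧
        (D.relIndex N).Coprime p ∧ (∃ m, N.relIndex B = p ^ m) ∧ ¬ p ∣ B.relIndex K := by
    intro D hDn hDK hD1
    haveI := hDn
    set f := QuotientGroup.mk' D with hf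
    have hfs : Function.Surjective f := QuotientGroup.mk'_surjective D
    haveI : (K.map f).Normal := hKn.map _ hfs
    have hcardR0 : Nat.card (R₀.map f) = Nat.card R₀ := by
      refine (Nat.card_congr ((Equiv.Set.imageOfInjOn f (R₀ : Set G) ?_))).symm
      intro a ha b hb e
      have h1 : a⁻¹ * b ∈ R₀ ⊓ D := ⟨R₀.mul_mem (R₀.inv_mem ha) hb,
        (QuotientGroup.eq).1 e⟩
      rw [inf_eq_bot_of_coprime_card ((hcop.coprime_dvd_left (Subgroup.card_dvd_of_le hR0R)).coprime_dvd_right
        (Subgroup.card_dvd_of_le hDK)), Subgroup.mem_bot] at h1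
      exact inv_mul_eq_one.1 h1
    have hsurjC : K.map f ⊓ Subgroup.centralizer ((R₀.map f : Subgroup (G ⧸ D)) : Set (G ⧸ D))
        ≤ (K ⊓ Subgroup.centralizer (R₀ : Set G)).map f := by
      rintro _ ⟨⟨k, hk, rfl⟩, hc⟩
      have hcR0K := hcop.coprime_dvd_left (Subgroup.card_dvd_of_le hR0R)
      obtain ⟨d, hd, hkd⟩ := exists_centralizing_in_coset (A := R₀) (K := K) (D := D)
        Subgroup.le_normalizer_of_normal (inf_eq_bot_of_coprime_card hcR0K) hDK
        Subgroup.le_normalizer_of_normal (hcR0K.coprime_dvd_right (Subgroup.card_dvd_of_le hDK))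
        (Or.inl inferInstance) hk (fun a ha => by
          have h2 := Subgroup.mem_centralizer_iff.1 hc (f a) ⟨a, ha, rfl⟩
          refine (QuotientGroup.eq_one_iff _).1 ?_
          show f (k⁻¹ * a * k * a⁻¹) = 1
          rw [map_mul, map_mul, map_mul, map_inv, map_inv, mul_assoc ((f k)⁻¹), h2]
          group)
      refine ⟨k * d, ⟨K.mul_mem hk (hDK hd), hkd⟩, ?_⟩
      rw [map_mul, show f d = 1 from (QuotientGroup.eq_one_iff d).2 hd, mul_one]
    have hZ' : IsZGroup ↥(K.map f ⊓ Subgroup.centralizer ((R₀.map f : Subgroup (G ⧸ D)) : Set (G ⧸ D))) := by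
      haveI := hZ
      haveI : IsZGroup ↥((K ⊓ Subgroup.centralizer (R₀ : Set G)).map f) :=
        IsZGroup.of_surjective (f := f.subgroupMap _) (MonoidHom.subgroupMap_surjective f _)
      exact IsZGroup.of_injective (f := Subgroup.inclusion hsurjC) (Subgroup.inclusion_injective hsurjC)
    obtain ⟨N', B', hN', hB', hle, hBK, hc, ⟨m, hm⟩, hB⟩ :=
      ih _ (hn ▸ card_quotient_lt hD1) (G ⧸ D) rfl
        (hodd.of_dvd_nat (Subgroup.card_quotient_dvd_card D)) (K.map f) (R.map f) (R₀.map f)
        ((hcop.coprime_dvd_left (Subgroup.card_map_dvd R f)).coprime_dvd_right (Subgroup.card_map_dvd K f))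
        (Subgroup.map_mono hR0R) (by rw [hcardR0]; exact hR0)
        (by rw [← Subgroup.map_commutator, hKR]) hZ'
    haveI := hN'
    haveI := hB'
    refine ⟨N'.comap f, B'.comap f, inferInstance, inferInstance, ?_, Subgroup.comap_mono hle, ?_, ?_,
      ⟨m, ?_⟩, ?_⟩
    · intro d hd
      rw [Subgroup.mem_comap, show f d = 1 from (QuotientGroup.eq_one_iff d).2 hd]
      exact N'.one_mem
    · refine (Subgroup.comap_mono hBK).trans (le_of_eq ?_)
      rw [Subgroup.comap_map_eq, QuotientGroup.ker_mk', sup_eq_left.2 hDK]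
    · rw [relIndex_comap_bot D N']
      exact hc
    · rw [Subgroup.relIndex_comap, Subgroup.map_comap_eq_self_of_surjective hfs, hm]
    · rwa [Subgroup.relIndex_comap]
  -- first, `O_{p'}(K)`
  set N0 := (Cfsg.pPrimeCore p K).map K.subtype with hN0
  have hN0K : N0 ≤ K := Subgroup.map_subtype_le _
  by_cases hN0ne : N0 = ⊥
  swap
  · haveI hc : (Cfsg.pPrimeCore p K).Characteristic := pPrimeCore_characteristic
    obtain ⟨N, B, hN, hB, h0, hle, hBK, hrel, hm, hK⟩ :=
      quot N0 (normal_map_subtype_of_characteristic _) hN0K hN0ne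
    refine ⟨N, B, hN, hB, hle, hBK, ?_, hm, hK⟩
    rw [← relIndex_mul_card h0]
    exact Nat.Coprime.mul_left (by rw [hN0, card_map_subtype]; exact pPrimeCore_coprime K p) hrel
  have hOK : Cfsg.pPrimeCore p K = ⊥ := by
    rwa [hN0, Subgroup.map_eq_bot_iff_of_injective _ K.subtype_injective] at hN0ne
  set V := (Cfsg.pCore p K).map K.subtype with hVdef
  haveI : (Cfsg.pCore p K).Characteristic := pCore_characteristic
  haveI hVn : V.Normal := normal_map_subtype_of_characteristic _
  have hVK : V ≤ K := Subgroup.map_subtype_le _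
  have hVp : IsPGroup p V := (pCore_isPGroup K p).map _
  have hCKV : K ⊓ Subgroup.centralizer (V : Set G) ≤ V := by
    rintro a ⟨haK, hac⟩
    refine ⟨⟨a, haK⟩, centralizer_pCore_le hOK (Subgroup.mem_centralizer_iff.2 fun b hb =>
      Subtype.ext (Subgroup.mem_centralizer_iff.1 hac b ⟨b, hb, rfl⟩)), rfl⟩
  by_cases hdone : ¬ p ∣ V.relIndex K
  · obtain ⟨m, hm⟩ := IsPGroup.iff_card.1 hVp
    exact ⟨⊥, V, inferInstance, hVn, bot_le, hVK, by simp,
      ⟨m, by rw [Subgroup.relIndex_bot_left, hm]⟩, hdone⟩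
  push Not at hdone
  exfalso
  have hmax : ∀ X : Subgroup G, X ≤ K → K ≤ Subgroup.normalizer (X : Set G) → IsPGroup p X → X ≤ V := by
    intro X hX hn hp
    haveI : (X.subgroupOf K).Normal := Subgroup.normal_subgroupOf_of_le_normalizer hn
    have h := CfsgLib.Solv.le_pCore (p := p) (N := X.subgroupOf K)
      (hp.of_equiv (Subgroup.subgroupOfEquivOfLe hX).symm)
    intro a ha
    exact ⟨⟨a, hX ha⟩, h ha, rfl⟩
  -- no proper quotient by a `p`-group can gain a `p'`-section
  have hnoquot : ∀ D : Subgroup G, D.Normal → D ≤ V → D ≠ ⊥ →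
      (∀ N : Subgroup G, N.Normal → D ≤ N → N ≤ K → (D.relIndex N).Coprime p → N ≤ V) → False := by
    intro D hDn hDV hD1 hN
    obtain ⟨N, B, hNn, hBn, h0, hle, hBK, hrel, ⟨m, hm⟩, hK⟩ := quot D hDn (hDV.trans hVK) hD1
    haveI := hBn
    obtain ⟨a, ha⟩ := IsPGroup.iff_card.1 (hVp.to_le (hN N hNn h0 (hle.trans hBK) hrel))
    have hBp : IsPGroup p B := IsPGroup.of_card (n := a + m) (by
      rw [← relIndex_mul_card hle, hm, ha, pow_add])
    exact hK (hdone.trans (Subgroup.relIndex_dvd_of_le_left K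
      (hmax B hBK Subgroup.le_normalizer_of_normal hBp)))
  have hpart : ∀ D N : Subgroup G, D.Normal → D ≤ N → (D.relIndex N).Coprime p → V ⊓ N ≤ D ⊔ ⊥ := by
    intro D N hD hDN hrel
    haveI := hD
    have h1 : D.relIndex (V ⊓ N) ∣ D.relIndex N := relIndex_dvd_right D inf_le_right
    obtain ⟨a, ha⟩ := IsPGroup.iff_card.1 (hVp.to_le (inf_le_left : V ⊓ N ≤ V))
    have h2 : D.relIndex (V ⊓ N) ∣ p ^ a := ha ▸ Subgroup.relIndex_dvd_card ..
    have h3 := Nat.eq_one_of_dvd_coprimes (hrel.pow_right a) h1 h2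
    rw [sup_bot_eq]
    exact Subgroup.relIndex_eq_one.1 h3
  -- `V` is elementary
  set Φ := (frattini V).map V.subtype with hΦ
  haveI : (frattini V).Characteristic := inferInstance
  haveI hΦn : Φ.Normal := normal_map_subtype_of_characteristic _
  have hΦ1 : Φ = ⊥ := by
    by_contra hne
    refine hnoquot Φ hΦn (Subgroup.map_subtype_le _) hne fun N hN h0 hNK hrel => ?_
    haveI := hN
    refine hmax N hNK Subgroup.le_normalizer_of_normal ?_
    -- elements of order prime to `p` centralise `V`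
    rw [IsPGroup.iff_orderOf]
    intro x
    by_contra hx
    push Not at hx
    obtain ⟨q, hq, hqd, hqp⟩ : ∃ q, q.Prime ∧ q ∣ orderOf x ∧ q ≠ p := by
      by_contra h
      push Not at h
      exact hx (orderOf x).primeFactorsList.length (Nat.eq_prime_pow_of_unique_prime_dvd
        (orderOf_pos x).ne' fun {d} hd hdd => h d hd hdd)
    set a : G := ((x ^ (orderOf x / q) : N) : G) with ha
    have hao : orderOf a = q := by
      rw [ha, Subgroup.orderOf_coe, orderOf_pow_orderOf_div (orderOf_pos x).ne' hqd]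
    have haN : a ∈ N := (x ^ (orderOf x / q)).2
    have hcent : Subgroup.zpowers a ≤ Subgroup.centralizer (V : Set G) := by
      refine le_centralizer_of_trivial_on_frattini_quotient ?_ fun b hb v hv => ?_
      · obtain ⟨k, hk⟩ := IsPGroup.iff_card.1 (hVp.to_subgroup (frattini V))
        rw [Nat.card_zpowers, hao, hk]
        exact ((Nat.coprime_primes hq hpp).2 hqp).pow_right k
      · have hbN : b ∈ N := Subgroup.zpowers_le.2 haN hb
        have : ⁅b, v⁆ ∈ V ⊓ N := ⟨(Subgroup.commutator_le_right ⊤ V)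
          (Subgroup.commutator_mem_commutator (Subgroup.mem_top b) hv),
          (Subgroup.commutator_le_left N ⊤) (Subgroup.commutator_mem_commutator hbN (Subgroup.mem_top v))⟩
        exact Subgroup.mem_map.2 (by simpa [hΦ, Subgroup.mem_map] using hpart Φ N hΦn h0 hrel this)
    have haV : a ∈ V := hCKV ⟨hNK haN, hcent (Subgroup.mem_zpowers a)⟩
    obtain ⟨k, hk⟩ := IsPGroup.iff_orderOf.1 hVp ⟨a, haV⟩
    rw [Subgroup.orderOf_mk, hao] at hk
    exact hqp ((Nat.prime_dvd_prime_iff_eq hq hpp).1 (hq.dvd_of_dvd_pow (dvd_of_eq hk)))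
  have hfr : frattini V = ⊥ := by
    rwa [hΦ, Subgroup.map_eq_bot_iff_of_injective _ V.subtype_injective] at hΦ1
  have hVel : Cfsg.IsElementaryAbelian p V := by
    refine ⟨⟨⟨fun a b => ?_⟩⟩, fun x hx => ?_⟩
    · refine commutatorElement_eq_one_iff_mul_comm.1 (Subgroup.mem_bot.1 ?_)
      rw [← hfr]
      exact commutator_le_frattini hVp
        (Subgroup.commutator_mem_commutator (Subgroup.mem_top a) (Subgroup.mem_top b))
    · have h := pow_mem_frattini hVp (⟨x, hx⟩ : V)
      rw [hfr, Subgroup.mem_bot] at h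
      exact congrArg Subtype.val h
  -- the preimage of `O_{p'}(K / V)`
  set f := QuotientGroup.mk' V with hf
  have hfs : Function.Surjective f := QuotientGroup.mk'_surjective V
  haveI : (K.map f).Normal := hKn.map _ hfs
  haveI : (Cfsg.pPrimeCore p (K.map f)).Characteristic := pPrimeCore_characteristic
  haveI : ((Cfsg.pPrimeCore p (K.map f)).map (K.map f).subtype).Normal :=
    normal_map_subtype_of_characteristic _
  set T := ((Cfsg.pPrimeCore p (K.map f)).map (K.map f).subtype).comap f with hT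
  haveI hTn : T.Normal := inferInstance
  have hVT : V ≤ T := fun v hv => by
    rw [hT, Subgroup.mem_comap, show f v = 1 from (QuotientGroup.eq_one_iff v).2 hv]; exact one_mem _
  have hbotcomap : (⊥ : Subgroup (G ⧸ V)).comap f = V := by
    rw [MonoidHom.comap_bot, QuotientGroup.ker_mk']
  have hTK : T ≤ K := by
    refine (Subgroup.comap_mono (Subgroup.map_subtype_le _)).trans (le_of_eq ?_)
    rw [Subgroup.comap_map_eq, QuotientGroup.ker_mk', sup_eq_left.2 hVK]
  have hTp : (V.relIndex T).Coprime p := by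
    rw [hT, relIndex_comap_bot V, card_map_subtype]
    exact pPrimeCore_coprime _ p
  obtain ⟨kV, hkV⟩ := IsPGroup.iff_card.1 hVp
  obtain ⟨Q₁, hQ₁T, hQ₁sup, hQ₁cop⟩ := PLen.exists_complement_in hVT (by rw [hkV]; exact hTp.symm.pow_left kV)
  have hfrat : ∀ Q : Subgroup G, Q ⊔ V = T → (Nat.card Q).Coprime (Nat.card V) →
      V ⊔ Subgroup.normalizer (Q : Set G) = ⊤ := fun Q h1 h2 =>
    PLen.sup_normalizer_eq_top h1 h2 (Or.inl inferInstance)
  have hcRV : (Nat.card R).Coprime (Nat.card V) := hcop.coprime_dvd_right (Subgroup.card_dvd_of_le hVK)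
  obtain ⟨v₀, hv₀, hQR⟩ := exists_invariant_of_conjugate (A := R) (K := V) (H := Q₁)
    Subgroup.le_normalizer_of_normal hcRV (Or.inl inferInstance) (fun a _ => by
      have ha : a ∈ Subgroup.normalizer (Q₁ : Set G) ⊔ V := by
        rw [sup_comm, hfrat Q₁ hQ₁sup hQ₁cop]; trivial
      obtain ⟨v, hv, n, hn, rfl⟩ := exists_mul_of_mem_sup Subgroup.le_normalizer_of_normal ha
      exact ⟨v, hv, by rw [map_mul, mul_smul, conj_smul_eq_self_of_mem_normalizer hn]⟩)
  set Q := MulAut.conj v₀ • Q₁ with hQ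
  have hQT : Q ≤ T := by
    rw [hQ]
    intro a ha
    have := hTn.conj_mem _ (hQ₁T (mem_conj_smul_iff.1 ha)) v₀
    simpa [mul_assoc] using this
  have hQcop : (Nat.card Q).Coprime (Nat.card V) := by rw [hQ, card_conj_smul]; exact hQ₁cop
  have hQsup : Q ⊔ V = T := by
    conv_rhs => rw [← show MulAut.conj v₀ • T = T from Subgroup.Normal.conjAct hTn v₀, ← hQ₁sup,
      Subgroup.smul_sup, show MulAut.conj v₀ • V = V from Subgroup.Normal.conjAct hVn v₀]
  have hNsup : ∀ g : G, ∃ v ∈ V, ∃ m ∈ Subgroup.normalizer (Q : Set G), g = v * m := by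
    intro g
    exact exists_mul_of_mem_sup (X := Subgroup.normalizer (Q : Set G)) (M := V)
      Subgroup.le_normalizer_of_normal (by rw [sup_comm, hfrat Q hQsup hQcop]; trivial)
  have hnormal : ∀ X : Subgroup G, V ≤ Subgroup.normalizer (X : Set G) →
      Subgroup.normalizer (Q : Set G) ≤ Subgroup.normalizer (X : Set G) → X.Normal := fun X h1 h2 =>
    normal_of_normalizer_eq_top (top_le_iff.1 (hfrat Q hQsup hQcop ▸ sup_le h1 h2))
  set W := ⁅V, Q⁆ with hW
  have hWV : W ≤ V := Subgroup.commutator_le_left V Q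
  haveI hWn : W.Normal := hnormal W (left_le_normalizer_commutator V Q)
    (le_normalizer_commutator Subgroup.le_normalizer_of_normal le_rfl)
  set C := V ⊓ Subgroup.centralizer (Q : Set G) with hC
  have hcQV : (Nat.card Q).Coprime (Nat.card V) := hQcop
  have hsupC : C ⊔ W = V := abelian_fixed_sup_commutator hVel.1 Subgroup.le_normalizer_of_normal hcQV
  have hdisC : C ⊓ W = ⊥ := abelian_fixed_inf_commutator hVel.1 Subgroup.le_normalizer_of_normal hcQV
  have hC1 : C = ⊥ := by
    by_contra hne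
    have hCn : C.Normal := hnormal C (by
      rw [le_normalizer_iff_forall_conj_mem]
      intro v hv c hc
      rwa [commute_of_isElementary hVel hv hc.1, mul_inv_cancel_right])
      (le_normalizer_inf_centralizer Subgroup.le_normalizer_of_normal le_rfl)
    refine hnoquot C hCn inf_le_left hne fun N hN h0 hNK hrel => ?_
    haveI := hN
    -- `N` centralises `W`
    have hNW : N ≤ Subgroup.centralizer (W : Set G) := by
      rw [← Subgroup.commutator_eq_bot_iff_le_centralizer, eq_bot_iff, ← hdisC]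
      refine le_inf ?_ (Subgroup.commutator_le_right N W)
      refine le_trans (le_inf ((Subgroup.commutator_le_right N W).trans hWV)
        (Subgroup.commutator_le_left N W)) ((hpart C N hCn h0 hrel).trans (by rw [sup_bot_eq]))
    -- the centralizer of `W` in `K` is inside `V`
    haveI hXn : (K ⊓ Subgroup.centralizer (W : Set G)).Normal := inferInstance
    haveI : ((K ⊓ Subgroup.centralizer (W : Set G)).map f).Normal := hXn.map _ hfs
    set M := (K ⊓ Subgroup.centralizer (W : Set G)).map f with hM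
    suffices hM1 : M = ⊥ by
      intro a ha
      have : f a ∈ M := ⟨a, ⟨hNK ha, hNW ha⟩, rfl⟩
      rw [hM1, Subgroup.mem_bot] at this
      exact (QuotientGroup.eq_one_iff a).1 this
    have hMK : M ≤ K.map f := Subgroup.map_mono inf_le_left
    have hcomapM : ∀ Y : Subgroup (G ⧸ V), Y ≤ M → Y.comap f ≤ K ∧
        Y.comap f ≤ Subgroup.centralizer (W : Set G) := by
      intro Y hY
      have h1 : Y.comap f ≤ (K ⊓ Subgroup.centralizer (W : Set G)) ⊔ V := by
        refine (Subgroup.comap_mono hY).trans (le_of_eq ?_)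
        rw [hM, Subgroup.comap_map_eq, QuotientGroup.ker_mk']
      refine ⟨h1.trans (sup_le inf_le_left hVK), h1.trans (sup_le inf_le_right ?_)⟩
      exact fun v hv => Subgroup.mem_centralizer_iff.2 fun w hw =>
        commute_of_isElementary hVel (hWV hw) hv
    haveI hc1 : (Cfsg.pCore p M).Characteristic := pCore_characteristic
    haveI hc2 : (Cfsg.pPrimeCore p M).Characteristic := pPrimeCore_characteristic
    haveI : ((Cfsg.pCore p M).map M.subtype).Normal := normal_map_subtype_of_characteristic _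
    haveI : ((Cfsg.pPrimeCore p M).map M.subtype).Normal := normal_map_subtype_of_characteristic _
    have hP1 : Cfsg.pCore p M = ⊥ := by
      set Y := (Cfsg.pCore p M).map M.subtype with hY
      have hYM : Y ≤ M := Subgroup.map_subtype_le _
      have hpY : IsPGroup p ↥(Y.comap f) := by
        obtain ⟨a, ha⟩ := IsPGroup.iff_card.1 ((pCore_isPGroup M p).map M.subtype)
        refine IsPGroup.of_card (n := kV + a) ?_
        have hle : V ≤ Y.comap f := (le_of_eq hbotcomap.symm).trans (Subgroup.comap_mono bot_le)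
        rw [← relIndex_mul_card hle, hkV, relIndex_comap_bot V Y, hY, ha, pow_add]
      have h2 := hmax _ (hcomapM Y hYM).1 Subgroup.le_normalizer_of_normal hpY
      have h3 : Y = ⊥ := by
        rw [← Subgroup.map_comap_eq_self_of_surjective hfs Y, Subgroup.map_eq_bot_iff,
          QuotientGroup.ker_mk']
        exact h2
      rwa [hY, Subgroup.map_eq_bot_iff_of_injective _ M.subtype_injective] at h3
    have hP2 : Cfsg.pPrimeCore p M = ⊥ := by
      set Y := (Cfsg.pPrimeCore p M).map M.subtype with hY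
      have hYM : Y ≤ M := Subgroup.map_subtype_le _
      haveI : (Y.subgroupOf (K.map f)).Normal := Subgroup.Normal.subgroupOf inferInstance _
      have h2 : Y.comap f ≤ T := by
        refine Subgroup.comap_mono fun y hy => ?_
        have h4 := CfsgLib.Solv.le_pPrimeCore (p := p) (N := Y.subgroupOf (K.map f)) (by
          rw [card_subgroupOf (hYM.trans hMK), hY, card_map_subtype]
          exact pPrimeCore_coprime M p)
        exact ⟨⟨y, hMK (hYM hy)⟩, h4 hy, rfl⟩
      have h3 : Y = ⊥ := by
        rw [← Subgroup.map_comap_eq_self_of_surjective hfs Y, Subgroup.map_eq_bot_iff,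
          QuotientGroup.ker_mk']
        intro y hy
        have hy' : y ∈ Q ⊔ V := hQsup.symm ▸ h2 hy
        obtain ⟨v, hv, q, hq, rfl⟩ := exists_mul_of_mem_sup Subgroup.le_normalizer_of_normal hy'
        have hqY : q ∈ Y.comap f := by
          have h5 := (Y.comap f).mul_mem ((Y.comap f).inv_mem
            (show v ∈ Y.comap f from ((le_of_eq hbotcomap.symm).trans (Subgroup.comap_mono (bot_le : ⊥ ≤ Y))) hv)) hy
          simpa using h5
        have hqV : q ∈ V := hCKV ⟨(hcomapM Y hYM).1 hqY, by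
          rw [← hsupC]
          refine Subgroup.le_centralizer_iff.1 (sup_le ?_ ?_) (Subgroup.mem_zpowers q)
          · exact (inf_le_right : C ≤ _).trans (Subgroup.centralizer_le (Subgroup.zpowers_le.2 hq))
          · exact Subgroup.le_centralizer_iff.1 (Subgroup.zpowers_le.2 ((hcomapM Y hYM).2 hqY))⟩
        exact V.mul_mem hv hqV
      rwa [hY, Subgroup.map_eq_bot_iff_of_injective _ M.subtype_injective] at h3
    have h6 := InvConj.centralizer_pPrimeCore_le hP1
    rw [hP2] at h6
    refine eq_bot_iff.2 fun m hm => ?_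
    have h7 : (⟨m, hm⟩ : M) ∈ (⊥ : Subgroup M) := h6 (Subgroup.mem_centralizer_iff.2 fun b hb => by
      rw [Subgroup.mem_bot.1 hb, one_mul, mul_one])
    exact Subgroup.mem_bot.2 (congrArg Subtype.val (Subgroup.mem_bot.1 h7))
  -- the complement
  set L := K ⊓ Subgroup.normalizer (Q : Set G) with hL
  have hQV : Q ⊓ V = ⊥ := inf_eq_bot_of_coprime_card hQcop
  have hLV : L ⊓ V = ⊥ := by
    rw [eq_bot_iff, ← hC1]
    refine le_inf inf_le_right ?_
    rintro a ⟨⟨-, haN⟩, haV⟩
    refine Subgroup.mem_centralizer_iff.2 fun q hq => ?_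
    refine commutatorElement_eq_one_iff_mul_comm.1 (Subgroup.mem_bot.1 (hQV.le ⟨?_, ?_⟩))
    · have h8 := Q.mul_mem hq ((Subgroup.mem_normalizer_iff.1 haN _).1 (Q.inv_mem hq))
      simpa [commutatorElement_def, mul_assoc] using h8
    · exact Subgroup.commutator_le_right ⊤ V (Subgroup.commutator_mem_commutator (Subgroup.mem_top q) haV)
  have hKsup : K = V ⊔ L := by
    refine le_antisymm (fun k hk => ?_) (sup_le hVK inf_le_left)
    obtain ⟨v, hv, m, hm, rfl⟩ := hNsup k
    refine Subgroup.mul_mem_sup hv ⟨?_, hm⟩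
    have := K.mul_mem (K.inv_mem (hVK hv)) hk
    simpa using this
  have hRL : R ≤ Subgroup.normalizer (L : Set G) :=
    le_normalizer_inf hRK (hQR.trans Subgroup.le_normalizer)
  have hLR : ⁅L, R⁆ = L := by
    refine le_antisymm (commutator_le_of_le_normalizer hRL) fun l hl => ?_
    have hL1 : L ≤ Subgroup.normalizer ((⁅L, R⁆ : Subgroup G) : Set G) := left_le_normalizer_commutator L R
    have h9 : ⁅K, R⁆ ≤ ⁅L, R⁆ ⊔ V := by
      rw [Subgroup.commutator_le]
      intro k hk a ha
      rw [hKsup, sup_comm] at hk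
      obtain ⟨v, hv, l', hl', rfl⟩ := exists_mul_of_mem_sup Subgroup.le_normalizer_of_normal hk
      have e : ⁅v * l', a⁆ = v * ⁅l', a⁆ * v⁻¹ * ⁅v, a⁆ := by
        simp only [commutatorElement_def]; group
      rw [e]
      exact Subgroup.mul_mem _ (Subgroup.mul_mem _ (Subgroup.mul_mem _ (Subgroup.mem_sup_right hv)
        (Subgroup.mem_sup_left (Subgroup.commutator_mem_commutator hl' ha)))
        (Subgroup.inv_mem _ (Subgroup.mem_sup_right hv)))
        (Subgroup.mem_sup_right (Subgroup.commutator_le_left V ⊤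
          (Subgroup.commutator_mem_commutator hv (Subgroup.mem_top a))))
    rw [hKR] at h9
    obtain ⟨v, hv, l₁, hl₁, hvl⟩ := exists_mul_of_mem_sup Subgroup.le_normalizer_of_normal (h9 hl.1)
    have hv1 : v ∈ L ⊓ V := ⟨by
      have := L.mul_mem hl (L.inv_mem (commutator_le_of_le_normalizer hRL hl₁))
      rw [hvl] at this
      simpa using this, hv⟩
    rw [hLV, Subgroup.mem_bot] at hv1
    rw [hvl, hv1, one_mul]; exact hl₁
  have hcomp := complement_case hodd hVel (L := L) (R := R) (R₀ := R₀)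
    Subgroup.le_normalizer_of_normal Subgroup.le_normalizer_of_normal hRL
    (eq_bot_iff.2 (hLV ▸ fun a ha => ⟨ha.1, hCKV ⟨ha.1.1, ha.2⟩⟩))
    (hcop.coprime_dvd_right (Subgroup.card_dvd_of_le inf_le_left)) hcRV hR0R hR0 hLR
    (by rw [← hKsup]; exact hZ)
    (fun T' hT' hLT' hT'p => by
      have h10 : T' ⊔ V ≤ V := hmax _ (sup_le (hT'.trans inf_le_left) hVK) (by
        rw [hKsup]
        refine sup_le ((le_sup_right : V ≤ T' ⊔ V).trans Subgroup.le_normalizer) fun l hl => ?_
        refine mem_normalizer_of_conj_smul_eq ?_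
        rw [Subgroup.smul_sup, conj_smul_eq_self_of_mem_normalizer (hLT' hl),
          show MulAut.conj l • V = V from Subgroup.Normal.conjAct hVn l])
        (IsPGroup.to_sup_of_normal_right hT'p hVp)
      rw [eq_bot_iff, ← hLV]
      exact le_inf hT' (le_sup_left.trans h10))
  refine hcomp (hdone.trans ?_)
  have h11 : Nat.card ↥(L ⊔ V) ∣ Nat.card L * Nat.card V := card_sup_dvd_mul L V
  rw [sup_comm, ← hKsup, ← relIndex_mul_card hVK, mul_comm (Nat.card L)] at h11
  exact Nat.dvd_of_mul_dvd_mul_left Nat.card_pos h11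

end CfsgLib.OddLocal.ZComm

namespace CfsgLib.OddLocal.ZComm

open CfsgLib.Solv

/-- A normal series `p'`, `p`, `p'` gives `p`-length one. -/
theorem pLengthLE_of_good {G : Type*} [Group G] [Finite G] {p : ℕ} [Fact p.Prime] {K : Subgroup G}
    (h : Good p K) : Cfsg.PLengthLE p 1 K := by
  obtain ⟨N, B, hN, hB, hNB, hBK, hc, ⟨m, hm⟩, hrel⟩ := h
  haveI := CfsgLib.Solv.pPrimeCore_normal K p
  refine PLen.pLengthLE_one_of_index fun hdvd => hrel ?_
  set g := QuotientGroup.mk' (Cfsg.pPrimeCore p K)
  have hgs : Function.Surjective g := QuotientGroup.mk'_surjective _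
  have hNc : N.subgroupOf K ≤ Cfsg.pPrimeCore p K :=
    CfsgLib.Solv.le_pPrimeCore (by rw [card_subgroupOf (hNB.trans hBK)]; exact hc)
  haveI : ((B.subgroupOf K).map g).Normal :=
    Subgroup.Normal.map inferInstance _ hgs
  have hBp : IsPGroup p ((B.subgroupOf K).map g) := by
    have h1 : Nat.card ((B.subgroupOf K).map g) ∣ p ^ m := by
      rw [← Subgroup.relIndex_ker, QuotientGroup.ker_mk', ← hm,
        show N.relIndex B = (N.subgroupOf K).relIndex (B.subgroupOf K) from
          (Subgroup.relIndex_subgroupOf hBK).symm]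
      exact Subgroup.relIndex_dvd_of_le_left _ hNc
    obtain ⟨j, -, hj⟩ := (Nat.dvd_prime_pow Fact.out).1 h1
    exact IsPGroup.of_card hj
  refine hdvd.trans ((Subgroup.index_dvd_of_le (CfsgLib.Solv.le_pCore hBp)).trans ?_)
  exact (Subgroup.index_map_dvd _ hgs).trans dvd_rfl

/-- The theorem for `[H, R]`. -/
theorem pLengthLE_commutator {G : Type*} [Group G] [Finite G] [Group.IsSolvable G]
    (hodd : Odd (Nat.card G)) (H R R₀ : Subgroup G) [H.Normal]
    (hcop : (Nat.card R).Coprime (Nat.card H)) (hsup : H ⊔ R = ⊤) (hR₀ : R₀ ≤ R)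
    (hR₀p : (Nat.card R₀).Prime) (hZ : IsZGroup ↥(H ⊓ Subgroup.centralizer (R₀ : Set G)))
    (p : ℕ) [Fact p.Prime] : Good p ⁅H, R⁆ := by
  have hle : ⁅H, R⁆ ≤ H := Subgroup.commutator_le_left H R
  haveI : (⁅H, R⁆).Normal := Subgroup.normalizer_eq_top_iff.1 (top_le_iff.1 (hsup ▸
    sup_le (left_le_normalizer_commutator H R) (right_le_normalizer_commutator H R)))
  refine good p _ G rfl hodd ⁅H, R⁆ R R₀ (hcop.coprime_dvd_right (Subgroup.card_dvd_of_le hle)) hR₀
    hR₀p (commutator_commutator_right Subgroup.le_normalizer_of_normal hcop (Or.inl inferInstance)) ?_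
  haveI := hZ
  exact IsZGroup.of_injective (f := Subgroup.inclusion (inf_le_inf_right _ hle))
    (Subgroup.inclusion_injective _)

end CfsgLib.OddLocal.ZComm
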